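import Cfsg.Agent.Mrg.Omega.NO3S.EMany.Low
import Cfsg.Agent.Mrg.Omega.ML.Ex.Two
import Cfsg.Agent.Mrg.Omega.KL.Gen
import Cfsg.Agent.Mrg.Omega.KL.Def
import Cfsg.Agent.Lib.ProductSet

section


/-!
# EXACT + LOW: from the general input `InpG` to `SysT` of helper585 (`Omega/ML/Ex/Two.lean`)

* **`SysE.sysT`** : the output of the machine is `SysT` (with `O(H) = 1`);
* **`InpG.exists_sysT`**;  **`InpG.false_of`** : contradiction from (E1)-(E4) of EXT.
-/

set_option autoImplicit false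

namespace Cfsg.Agent.Omega.NO3S.EMany.Low

open Subgroup Cfsg Cfsg.Agent.ZN Cfsg.Agent.ClassTwoFusion.Quad Cfsg.Agent.Omega.ML.MinFrame
open Cfsg.Agent.Omega.ML.Final
open Cfsg.Agent.Omega.ML.Ex.Two (SysT RedT ExitN LieT UThreeT)

universe u v

section

variable {H : Type u} [Group H] [Finite H] {M : Type v} [Group M] [MulDistribMulAction H M] {T A : Subgroup H}
  {x y : M}

omit [Finite H] in
/-- an output of the machine with `O(H) = 1` is `SysT` -/
theorem SysW.sysT (h : SysW T A x y) (ho : ∀ N : Subgroup H, N.Normal → Odd (Nat.card N) → N = ⊥) :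
    SysT H M T A x y where
  x1 := h.x1
  y1 := h.y1
  tx := h.tx
  ty := h.ty
  mv := by
    obtain ⟨P, hP, hx, hy⟩ := h.mov
    exact ⟨P, hP.le, hy, hx⟩
  sq := h.sq
  faith := h.faith
  irr := h.irr
  two := h.two
  syl := h.syl
  AT := h.AT
  el := h.el
  four := h.four
  exact := h.exact
  atom := h.atom
  low := h.low
  nmax := h.nmax
  odd := ho
  KH := h.KH

/-- **the output of the machine is `SysT`** -/
theorem SysE.sysT (h : SysE T A x y) : SysT H M T A x y := h.toSysW.sysT fun _ hN hNo => h.odd hN hNo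

end

/-- **the general input gives `SysT`** -/
theorem InpG.exists_sysT {X : Type u} [Group X] [Finite X] {M : Type v} [Group M] [Finite M]
    [MulDistribMulAction X M] {T F : Subgroup X} {S : Set M} (i : InpG T F S) (hM : MLK.{u, v}) :
    ∃ (H : Type u) (_ : Group H) (_ : Finite H) (N : Type v) (_ : Group N) (_ : Finite N)
      (_ : MulDistribMulAction H N) (T' A' : Subgroup H) (x' y' : N), SysT H N T' A' x' y' := by
  obtain ⟨H, i1, i2, N, i3, i4, i5, T', A', x', y', h⟩ := i.exists_sysE hM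
  exact ⟨H, i1, i2, N, i3, i4, i5, T', A', x', y', h.sysT⟩

/-- **the general input is impossible** (from the pieces (E1)-(E4) of EXT) -/
theorem InpG.false_of {X : Type u} [Group X] [Finite X] {M : Type v} [Group M] [Finite M]
    [MulDistribMulAction X M] {T F : Subgroup X} {S : Set M} (i : InpG T F S) (hM : MLK.{u, v})
    (h1 : RedT.{u, v}) (h2 : ExitN.{u, v}) (h3 : LieT.{u, v}) (h4 : UThreeT.{u, v}) : False := by
  obtain ⟨H, i1, i2, N, i3, i4, i5, T', A', x', y', h⟩ := i.exists_sysT hM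
  exact h.false_of h1 h2 h3 h4

end Cfsg.Agent.Omega.NO3S.EMany.Low

end

section


/-!
# THEOREM KL* (helper23, bb #22505 (I); referee helper307, #22816)

`H` acts on the elementary abelian 2-group `M` (not necessarily faithfully), `T` is a Sylow 2-subgroup, `x` is fixed by
`N_H(T)`, `Y ≤ M` is invariant under `T`, and for every `T`-minimal `P` which moves `x` the elements of odd order of `P`
centralise `Y`.  `A` is an exact atom on `M` which moves `⟨x^H⟩`, `A ≤ O₂(C_H(x))` and `A ≤ O₂(C_H(Y) T)`.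

* `Inp T A Y x` : this situation;
* **`Inp.exists_sysE`** : (ML) gives the output `SysE` of the machine EXACT + LOW for a section of `(H, M)`;
* **`Inp.exists_sysT`** : the same with `Two.SysT`;  `Inp.false_of`.
-/

set_option autoImplicit false

namespace Cfsg.Agent.Omega.KL.Star.Main

open Subgroup Cfsg Cfsg.Agent.ZN Cfsg.Agent.ClassTwoFusion.Quad
open Cfsg.Agent.Omega.ML.MinFrame hiding comm_of_sq
open Cfsg.Agent.Omega.ML.Final Cfsg.Agent.Omega.NO3S.EMany.Low
open Cfsg.Agent.Omega.KL.Star.Core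
open Cfsg.Agent.MinSimple.VModule (o2_isPGroup o2_le le_o2 le_normalizer_o2 o2_le_of_sylow oddGen oddGen_le oddGen_def)
open Cfsg.Agent.MinSimple.MinParabolic (IsMinPar le_of_forall)

universe u v

/-- **The input of THEOREM KL*** -/
structure Inp {H : Type u} [Group H] {M : Type v} [Group M] [MulDistribMulAction H M] (T A : Subgroup H)
    (Y : Subgroup M) (x : M) : Prop where
  sq : ∀ m : M, m * m = 1
  two : IsPGroup 2 T
  syl : ¬ 2 ∣ T.index
  /-- `N_H(T)` fixes `x` -/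
  nx : ∀ g ∈ normalizer (T : Set H), g • x = x
  TY : ∀ t ∈ T, ∀ w ∈ Y, t • w ∈ Y
  /-- the elements of odd order of a `T`-minimal `P` which moves `x` centralise `Y` -/
  odd : ∀ P : Subgroup H, IsMinPar T P → (∃ p ∈ P, p • x ≠ x) → ∀ g ∈ P, Odd (orderOf g) → ∀ w ∈ Y, g • w = w
  el : ∀ a ∈ A, a * a = 1
  exact : (cv M (A : Set H)).index = Nat.card A
  atom : ∀ C : Subgroup H, C ≤ A → C ≠ ⊥ → C ≠ A → Nat.card C < (cv M (C : Set H)).index
  /-- `A` moves `⟨x^H⟩` -/
  nA : ¬ A ≤ fxr H (orb (⊤ : Subgroup H) x)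
  Ax : A ≤ o2 (MulAction.stabilizer H x)
  AY : A ≤ o2 (fxr H Y ⊔ T)
  KH : IsKGroup H

namespace Inp

variable {H : Type u} [Group H] [Finite H] {M : Type v} [Group M] [Finite M] [MulDistribMulAction H M]
  {T A : Subgroup H} {Y : Subgroup M} {x : M}

omit [Finite H] [Finite M] in
theorem tx (i : Inp T A Y x) : ∀ t ∈ T, t • x = x := fun t ht => i.nx t (le_normalizer ht)

omit [Finite M] in
theorem AT (i : Inp T A Y x) : A ≤ T :=
  i.Ax.trans (o2_le_of_sylow i.two fun h2 => i.syl (h2.trans (relIndex_dvd_index_of_le fun t ht => i.tx t ht)))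

omit [Finite M] in
/-- `A ≰ O₂(H)` -/
theorem nT (i : Inp T A Y x) : ¬ A ≤ o2 (⊤ : Subgroup H) := by
  intro hc
  apply i.nA
  intro a ha
  rw [mem_fxr_orb]
  intro g _
  have h1 : g⁻¹ * a * g ∈ o2 (⊤ : Subgroup H) := by
    have := (mem_normalizer_iff.1 (le_normalizer_o2 (⊤ : Subgroup H) (mem_top g⁻¹)) a).1 (hc ha)
    rwa [inv_inv] at this
  have hT : o2 (⊤ : Subgroup H) ≤ T := o2_le_of_sylow i.two (by rw [relIndex_top_right]; exact i.syl)
  have h2 := i.tx _ (hT h1)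
  rwa [mul_smul, mul_smul, inv_smul_eq_iff] at h2

/-- **THEOREM KL*.** -/
theorem exists_sysE (i : Inp T A Y x) (hM : MLK.{u, v}) :
    ∃ (H' : Type u) (_ : Group H') (_ : Finite H') (N : Type v) (_ : Group N) (_ : Finite N)
      (_ : MulDistribMulAction H' N) (T' A' : Subgroup H') (x' y' : N), SysE T' A' x' y' := by
  -- `L` minimal
  obtain ⟨L, ⟨hTL, hAL⟩, hmin⟩ : ∃ L : Subgroup H, (T ≤ L ∧ ¬ A ≤ o2 L) ∧
      ∀ R : Subgroup H, (T ≤ R ∧ ¬ A ≤ o2 R) → R ≤ L → R = L := by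
    have hfin : {L : Subgroup H | T ≤ L ∧ ¬ A ≤ o2 L}.Finite := Set.toFinite _
    obtain ⟨B, hB⟩ := hfin.exists_minimal ⟨⊤, le_top, i.nT⟩
    exact ⟨B, hB.1, fun C hC hCB => le_antisymm hCB (hB.2 hC hCB)⟩
  have hAT := i.AT
  have hAL' : A ≤ L := hAT.trans hTL
  have e1 : ∀ {C : Subgroup H}, C ≤ L → (C.subgroupOf L).map L.subtype = C := fun {C} hC => by
    rw [subgroupOf_map_subtype, inf_eq_left.2 hC]
  have hcv : ∀ C : Subgroup L, cv M (C : Set L) = cv M ((C.map L.subtype : Subgroup H) : Set H) := by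
    intro C
    ext m
    constructor
    · rintro hm _ ⟨c, hc, rfl⟩
      exact hm c hc
    · exact fun hm c hc => hm _ ⟨c, hc, rfl⟩
  have hcard : ∀ C : Subgroup L, Nat.card (C.map L.subtype) = Nat.card C := fun C =>
    card_map_of_injective L.subtype_injective
  have hlb : LB L M (T.subgroupOf L) (A.subgroupOf L) := by
    refine ⟨i.sq, i.two.comap_subtype, fun h2 => ?_, fun x hx => hAT hx, fun b hb => Subtype.ext (i.el b hb), ?_, ?_, ?_, ?_,
      sec_KG.sub H i.KH L⟩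
    · exact i.syl (h2.trans (relIndex_dvd_index_of_le hTL))
    · rw [hcv, e1 hAL', i.exact, ← hcard, e1 hAL']
    · intro C hC hC1 hCF
      rw [hcv, ← hcard]
      refine i.atom _ ?_ ?_ ?_
      · rintro _ ⟨c, hc, rfl⟩
        exact hC hc
      · intro h1
        exact hC1 ((Subgroup.map_eq_bot_iff_of_injective _ L.subtype_injective).1 h1)
      · intro h1
        apply hCF
        rw [← h1]
        exact (comap_map_eq_self_of_injective L.subtype_injective C).symm
    · intro R hTR hR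
      have h1 : R.map L.subtype ≠ L := by
        intro h2
        apply hR
        rw [eq_top_iff]
        intro r _
        have h3 : (r : H) ∈ R.map L.subtype := by
          rw [h2]
          exact r.2
        obtain ⟨s, hs, hsr⟩ := h3
        rwa [← (Subtype.ext hsr : s = r)]
      have h2 : T ≤ R.map L.subtype := fun t ht => ⟨⟨t, hTL ht⟩, hTR ht, rfl⟩
      have h3 : A ≤ o2 (R.map L.subtype) := by
        by_contra hc
        exact h1 (hmin _ ⟨h2, hc⟩ (map_subtype_le R))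
      exact fun x hx => KL.GenTool.o2_subgroupOf_le R (h3 hx)
    · intro hc
      apply hAL
      have h1 := (map_mono (f := L.subtype) hc).trans (KL.GenTool.o2_map_le L.subtype ⊤)
      rw [e1 hAL', ← MonoidHom.range_eq_map, L.range_subtype] at h1
      exact h1
  -- `L` moves `x`
  have hx : ¬ ∀ g : L, g • x = x := by
    intro hc
    apply hAL
    have h1 : L ≤ MulAction.stabilizer H x := fun g hg => hc ⟨g, hg⟩
    exact (le_inf i.Ax hAL').trans (InpG.o2_le_o2_of_le h1)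
  have htx : ∀ t ∈ T.subgroupOf L, t • x = x := fun t ht => i.tx _ ht
  -- `L ≠ C_L(Y) T`
  have hY : ¬ ∀ g : L, Odd (orderOf g) → ∀ w ∈ Y, g • w = w := by
    intro hc
    apply hAL
    have h1 : oddGen L ⊔ T = L := oddGen_sup hTL fun h2 => i.syl (h2.trans (relIndex_dvd_index_of_le hTL))
    have h2 : L ≤ fxr H Y ⊔ T := by
      rw [← h1]
      refine sup_le_sup_right ?_ T
      rw [oddGen_def, closure_le]
      rintro g ⟨hgL, hgo⟩ w hw
      exact hc ⟨g, hgL⟩ (by rwa [orderOf_mk]) w hw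
    exact (le_inf i.AY hAL').trans (InpG.o2_le_o2_of_le h2)
  have hTY : ∀ t ∈ T.subgroupOf L, ∀ w ∈ Y, t • w ∈ Y := fun t ht w hw => i.TY t ht w hw
  obtain ⟨N, i1, i2, i3, A', x', u', c⟩ := core hlb hM htx hx hTY hY
  -- `N_L(T)` fixes `x`
  have hNx : ∀ g ∈ normalizer ((T.subgroupOf L : Subgroup L) : Set L), g • x = x := by
    intro g hg
    refine i.nx g ?_
    rw [mem_normalizer_iff] at hg ⊢
    intro t
    constructor
    · intro ht
      exact (hg ⟨t, hTL ht⟩).1 ht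
    · intro ht
      have h1 : t ∈ L := by
        have h2 := L.mul_mem (L.mul_mem (L.inv_mem g.2) (hTL ht)) g.2
        have e : (g : H)⁻¹ * (g * t * (g : H)⁻¹) * g = t := by group
        rwa [e] at h2
      exact (hg ⟨t, h1⟩).2 ht
  have hNx' : ∀ g ∈ normalizer ((T.subgroupOf L : Subgroup L) : Set L), g • x' = x' :=
    (c.sx _ le_normalizer).2 hNx
  -- minimal parabolics moving `x`
  have hP : ∀ P : Subgroup L, IsMinPar (T.subgroupOf L) P → (∃ p ∈ P, p • x' ≠ x') → ∀ p ∈ P, p • u' = u' := by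
    intro P hP hPx
    have h1 : ∃ p ∈ P.map L.subtype, p • x ≠ x := by
      by_contra hc
      push Not at hc
      obtain ⟨p, hp, hpx⟩ := hPx
      exact hpx ((c.sx P hP.le).2 (fun g hg => hc _ ⟨g, hg, rfl⟩) p hp)
    have h2 := i.odd _ (KL.GenTool.minPar_map_subtype hTL hP) h1
    have h3 : oddGen P ⊔ T.subgroupOf L = P := oddGen_sup hP.le
      fun h2 => hlb.syl (h2.trans (relIndex_dvd_index_of_le hP.le))
    have h4 : P ≤ MulAction.stabilizer L u' := by
      rw [← h3]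
      refine sup_le ?_ fun t ht => c.tu t ht
      rw [oddGen_def, closure_le]
      rintro g ⟨hgP, hgo⟩
      refine c.su g hgo fun w hw => h2 _ ⟨g, hgP, rfl⟩ ?_ w hw
      rwa [Subgroup.coe_subtype, orderOf_coe]
    exact fun p hp => h4 hp
  -- a mover of `x'`
  obtain ⟨P, hPm, hPx⟩ : ∃ P : Subgroup L, IsMinPar (T.subgroupOf L) P ∧ ¬ P ≤ MulAction.stabilizer L x' := by
    by_contra hc
    push Not at hc
    have h1 : (⊤ : Subgroup L) ≤ MulAction.stabilizer L x' :=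
      le_of_forall le_top (fun g hg => hNx' g hg.2) fun P hP _ => hc P hP
    exact c.mx fun g => h1 (mem_top g)
  obtain ⟨p, hp, hpx⟩ := SetLike.not_le_iff_exists.1 hPx
  have hPx' : ∃ p ∈ P, p • x' ≠ x' := ⟨p, hp, hpx⟩
  obtain ⟨H', j1, j2, N', j3, j4, j5, π, f, B, x'', y'', -, hs⟩ := c.lb.exists_sysE hM c.tx c.tu c.mu
    ⟨P, hPm, hPx', hP P hPm hPx'⟩ ⟨x', c.mx, hNx'⟩ fun R hR => by
      by_cases h1 : ∃ p ∈ R, p • x' ≠ x'
      · exact ⟨u', c.mu, hP R hR h1⟩
      · push Not at h1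
        exact ⟨x', c.mx, h1⟩
  exact ⟨H', j1, j2, N', j3, j4, j5, _, B, x'', y'', hs⟩

end Inp

namespace Inp

variable {H : Type u} [Group H] [Finite H] {M : Type v} [Group M] [Finite M] [MulDistribMulAction H M]
  {T A : Subgroup H} {Y : Subgroup M} {x : M}

/-- **THEOREM KL***, with the output `Two.SysT` -/
theorem exists_sysT (i : Inp T A Y x) (hM : MLK.{u, v}) :
    ∃ (H' : Type u) (_ : Group H') (_ : Finite H') (N : Type v) (_ : Group N) (_ : Finite N)
      (_ : MulDistribMulAction H' N) (T' A' : Subgroup H') (x' y' : N), ML.Ex.Two.SysT H' N T' A' x' y' := by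
  obtain ⟨H', j1, j2, N', j3, j4, j5, T', B, x', y', h⟩ := i.exists_sysE hM
  exact ⟨H', j1, j2, N', j3, j4, j5, T', B, x', y', h.sysT⟩

open ML.Ex.Two in
/-- **THEOREM KL***, with EXT -/
theorem false_of (hM : MLK.{u, v}) (h1 : RedT.{u, v}) (h2 : ExitN.{u, v}) (h3 : LieT.{u, v}) (h4 : UThreeT.{u, v})
    (i : Inp T A Y x) : False := by
  obtain ⟨H', j1, j2, N', j3, j4, j5, T', B, x', y', h⟩ := i.exists_sysT hM
  exact h.false_of h1 h2 h3 h4

end Inp

end Cfsg.Agent.Omega.KL.Star.Main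

end

section


/-!
# THEOREM KL*(q) (bb #22505 (I) of helper23 with LEMMA ZC #23452)

`H` acts on the elementary abelian 2-group `M` (not necessarily faithfully), `T` is a Sylow 2-subgroup, `Z ≤ C_M(T)`,
`N_H(T)` normalises `Z` and `Y`, the `T`-fixed vectors of `Y` are fixed by `H`; every `T`-minimal `P` fixes `Z`
pointwise, or its elements of odd order centralise `Y`.  `A` is an exact atom on `M`, `A ≰ O₂(H)`, `A ≤ O₂(C_H(Z))` and
`A ≤ O₂(C_H(Y) T)`.

* `InpQ T A Z Y` : this situation;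
* `exists_of_core` : the end of the machine over `LB`, with `O(H) = 1`;
* **`InpQ.exists_sysW`** : (ML) gives `SysW` and `O(H) = 1` for a section of `(H, M)`;
* **`InpQ.exists_sysT`** : the same with `Two.SysT`;  `InpQ.false_of` : contradiction with `Two.Ext`.
-/

set_option autoImplicit false

namespace Cfsg.Agent.Omega.KL.StarQ

open Subgroup Cfsg Cfsg.Agent.ZN Cfsg.Agent.ClassTwoFusion.Quad
open Cfsg.Agent.Omega.ML.MinFrame hiding comm_of_sq
open Cfsg.Agent.Omega.ML.Final Cfsg.Agent.Omega.NO3S.EMany.Low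
open Cfsg.Agent.Omega.KL.Star.Core
open Cfsg.Agent.MinSimple.VModule (o2_isPGroup o2_le le_o2 le_normalizer_o2 o2_le_of_sylow oddGen oddGen_le oddGen_def)
open Cfsg.Agent.MinSimple.MinParabolic (IsMinPar le_of_forall)

universe u v

/-- a power `g = n ^ 2 ^ a` of odd order with `t ^ 2 ^ a = 1` -/
theorem exists_pow {G : Type*} [Group G] [Finite G] {T : Subgroup G} (hT : IsPGroup 2 T) {t : G} (ht : t ∈ T) (n : G) :
    ∃ a : ℕ, t ^ 2 ^ a = 1 ∧ Odd (orderOf (n ^ 2 ^ a)) := by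
  obtain ⟨b, hb⟩ := hT ⟨t, ht⟩
  have hb' : t ^ 2 ^ b = 1 := congrArg Subtype.val hb
  obtain ⟨c, m, hm, hc⟩ := Nat.exists_eq_pow_mul_and_not_dvd (orderOf_pos n).ne' 2 (by norm_num)
  have hm' : Odd m := Nat.not_even_iff_odd.1 fun h => hm h.two_dvd
  refine ⟨b + c, ?_, ?_⟩
  · rw [pow_add, pow_mul, hb', one_pow]
  · have h1 : (n ^ 2 ^ (b + c)) ^ m = 1 := by
      have h2 : 2 ^ (b + c) * m = orderOf n * 2 ^ b := by
        rw [hc, pow_add]
        ring
      rw [← pow_mul, h2, pow_mul, pow_orderOf_eq_one, one_pow]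
    exact hm'.of_dvd_nat (orderOf_dvd_of_pow_eq_one h1)

section

variable {H : Type u} [Group H] [Finite H] {M : Type v} [Group M] [Finite M] [MulDistribMulAction H M]
  {T A : Subgroup H}

/-- **the end over `LB`** -/
theorem exists_of_core (h : LB H M T A) (hM : MLK.{u, v}) {x : M} (tx : ∀ t ∈ T, t • x = x)
    {Y : Subgroup M} (NY : ∀ g ∈ normalizer (T : Set H), ∀ w ∈ Y, g • w ∈ Y)
    (cY : ∀ w ∈ Y, (∀ t ∈ T, t • w = w) → ∀ g : H, g • w = w)
    (hY : ¬ ∀ g : H, Odd (orderOf g) → ∀ w ∈ Y, g • w = w)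
    (par : ∀ P : Subgroup H, IsMinPar T P → (∀ p ∈ P, p • x = x) ∨ ∀ g ∈ P, Odd (orderOf g) → ∀ w ∈ Y, g • w = w)
    (mv : ∃ P : Subgroup H, IsMinPar T P ∧ ∃ p ∈ P, p • x ≠ x) :
    ∃ (H' : Type u) (_ : Group H') (_ : Finite H') (N : Type v) (_ : Group N) (_ : Finite N)
      (_ : MulDistribMulAction H' N) (T' A' : Subgroup H') (x' y' : N), SysW T' A' x' y' ∧
      ∀ K : Subgroup H', K.Normal → Odd (Nat.card K) → K = ⊥ := by
  have hx : ¬ ∀ g : H, g • x = x := by
    obtain ⟨P, -, p, -, hp⟩ := mv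
    exact fun hc => hp (hc p)
  have TY : ∀ t ∈ T, ∀ w ∈ Y, t • w ∈ Y := fun t ht => NY t (le_normalizer ht)
  obtain ⟨N, i1, i2, i3, A', x', u', c⟩ := core h hM tx hx TY hY
  -- minimal parabolics
  have hP : ∀ P : Subgroup H, IsMinPar T P → (∀ p ∈ P, p • x' = x') ∨ ∀ p ∈ P, p • u' = u' := by
    intro P hP
    rcases par P hP with h1 | h2
    · exact Or.inl ((c.sx P hP.le).2 h1)
    · right
      have h3 : oddGen P ⊔ T = P := oddGen_sup hP.le
        fun h2 => h.syl (h2.trans (relIndex_dvd_index_of_le hP.le))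
      have h4 : P ≤ MulAction.stabilizer H u' := by
        rw [← h3]
        refine sup_le ?_ fun t ht => c.tu t ht
        rw [oddGen_def, closure_le]
        rintro g ⟨hgP, hgo⟩
        exact c.su g hgo fun w hw => h2 g hgP hgo w hw
      exact fun p hp => h4 hp
  obtain ⟨P, hPm, p, hp, hpx⟩ := mv
  have hPx' : ∃ p ∈ P, p • x' ≠ x' := by
    by_contra hc
    push Not at hc
    exact hpx ((c.sx P hPm.le).1 hc p hp)
  have hPu : ∀ p ∈ P, p • u' = u' := (hP P hPm).resolve_left fun h1 => by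
    obtain ⟨q, hq, hqx⟩ := hPx'
    exact hqx (h1 q hq)
  -- shift
  obtain ⟨x1, hx1, hxs⟩ := c.lb.shift c.tx
  obtain ⟨u1, hu1, hus⟩ := c.lb.shift c.tu
  have tx1 : ∀ t ∈ T, t • x1 = x1 := fun t ht => (hxs t).2 (c.tx t ht)
  have tu1 : ∀ t ∈ T, t • u1 = u1 := fun t ht => (hus t).2 (c.tu t ht)
  have mx1 : ¬ ∀ g : H, g • x1 = x1 := fun hc => c.mx fun g => (hxs g).1 (hc g)
  have mu1 : ¬ ∀ g : H, g • u1 = u1 := fun hc => c.mu fun g => (hus g).1 (hc g)
  obtain ⟨H', j1, j2, N', j3, j4, j5, π, f, B, o, hs⟩ := c.lb.exists_sysW₀ hM tx1 tu1 hx1 hu1 mu1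
    (by
      obtain ⟨q, hq, hqx⟩ := hPx'
      exact ⟨P, hPm, ⟨q, hq, fun hc => hqx ((hxs q).1 hc)⟩, fun q hq => (hus q).2 (hPu q hq)⟩)
    (fun P hP' => by
      rcases hP P hP' with h1 | h1
      · exact ⟨x1, hx1, mx1, fun q hq => (hxs q).2 (h1 q hq)⟩
      · exact ⟨u1, hu1, mu1, fun q hq => (hus q).2 (h1 q hq)⟩)
  refine ⟨H', j1, j2, N', j3, j4, j5, _, B, _, _, hs, fun K hK hKo => ?_⟩
  have hcen := odd_le_center hs hK hKo
  by_contra hne
  obtain ⟨⟨ν, hν⟩, hν1'⟩ := (Subgroup.ne_bot_iff_exists_ne_one).1 hne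
  have hν1 : ν ≠ 1 := fun h1 => hν1' (Subtype.ext h1)
  have hνc : ∀ g : H', g * ν = ν * g := fun g => mem_center_iff.1 (hcen hν) g
  have hνT : ν ∈ normalizer ((T.map π : Subgroup H') : Set H') := by
    rw [mem_normalizer_iff]
    intro g
    rw [← hνc g, mul_inv_cancel_right]
  obtain ⟨_, ⟨t, ht, rfl⟩, n, hn, hνn⟩ := KL.GenTool.exists_normalizer_map π o.πs h.two h.syl hνT
  obtain ⟨a, ha1, ha2⟩ := exists_pow h.two ht n
  set g : H := n ^ 2 ^ a with hg
  have hgN : g ∈ normalizer (T : Set H) := (normalizer (T : Set H)).pow_mem hn _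
  have hπg : π g = ν ^ 2 ^ a := by
    have h1 : Commute (π t) ν := hνc _
    have h2 : π n = (π t)⁻¹ * ν := by rw [hνn]; group
    have h3 : Commute (π t)⁻¹ ν := h1.inv_left
    rw [hg, map_pow, h2, h3.mul_pow, inv_pow, ← map_pow, ha1, map_one, inv_one, one_mul]
  have hπg1 : π g ≠ 1 := by
    rw [hπg]
    intro h1
    apply hν1
    have h2 : orderOf ν ∣ 2 ^ a := orderOf_dvd_of_pow_eq_one h1
    have h3 : orderOf ν ∣ Nat.card K := by
      have := orderOf_dvd_natCard (⟨ν, hν⟩ : K)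
      rwa [orderOf_mk] at this
    have h4 : Odd (orderOf ν) := hKo.of_dvd_nat h3
    have h5 : (2 ^ a).Coprime (orderOf ν) := Nat.Coprime.pow_left a (Nat.coprime_two_left.mpr h4)
    exact orderOf_eq_one_iff.1 (Nat.eq_one_of_dvd_coprimes h5 h2 dvd_rfl)
  have hπc : ∀ k ∈ zpowers g, ∀ s : H', s * π k = π k * s := by
    intro k hk s
    have h1 : zpowers g ≤ (center H').comap π := by
      rw [zpowers_le, mem_comap, hπg]
      exact (center H').pow_mem (hcen hν) _
    exact mem_center_iff.1 (h1 hk) s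
  -- the kernel of `π` fixes `x`
  have hkx' : ∀ k ∈ π.ker ⊔ T, k • x1 = x1 := by
    refine c.lb.fix_of_mod tx1 le_sup_right (I := cv N (Km A' : Set H))
      (fun w hw tw g _ => c.lb.fix_of_cvKm tw hw g) fun k hk => ?_
    have h1 : π k • f ⟨x1, hx1⟩ = f ⟨x1, hx1⟩ := by
      obtain ⟨k1, hk1, s, hs', rfl⟩ := mem_sup_of_normal_left.1 hk
      rw [map_mul, (MonoidHom.mem_ker).1 hk1, one_mul, ← o.eqv s ⟨x1, hx1⟩]
      exact congrArg f (Subtype.ext (tx1 s hs'))
    rw [← o.eqv k ⟨x1, hx1⟩, ← mul_inv_eq_one, ← map_inv, ← map_mul, o.ker] at h1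
    exact h1
  have hkx : ∀ k ∈ π.ker, k • x = x := by
    have h1 : ∀ k ∈ π.ker ⊔ T, k • x' = x' := fun k hk => (hxs k).1 (hkx' k hk)
    exact fun k hk => (c.sx _ le_sup_right).1 h1 k (mem_sup_left hk)
  have hkU : ∀ k ∈ π.ker, ∀ w ∈ cmm M A, k • w = w := by
    intro k hk w hw
    have h1 : k ∈ fxr H (orb (⊤ : Subgroup H) x) := by
      rw [mem_fxr_orb]
      intro s _
      have h2 := hkx (s⁻¹ * k * s) (by
        have := (inferInstance : (π.ker).Normal).conj_mem k hk s⁻¹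
        rwa [inv_inv] at this)
      rwa [mul_smul, mul_smul, inv_smul_eq_iff] at h2
    exact h1 w (h.cmm_le hM tx hx hw)
  -- `g` centralises `Y`
  have hgK : ∀ k ∈ zpowers g, k ∈ Km A := by
    have h1 : zpowers g ≤ Km A := by
      rw [zpowers_le]
      exact mem_of_odd h.two h.gen ha2
    exact fun k hk => h1 hk
  have hgY : ∀ w ∈ Y, g • w = w := by
    refine com_of h.sq h.two ha2 (U := cmm M A) (fun k hk w hw => NY k ?_ w hw) TY
      (fun k hk w _ => mem_cmm (hgK k hk) w) (fun t ht k hk w hw => ?_) (fun w hw tw => cY w hw tw g)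
    · have h1 : zpowers g ≤ normalizer (T : Set H) := by
        rw [zpowers_le]
        exact hgN
      exact h1 hk
    · have h1 : (k * t)⁻¹ * (t * k) ∈ π.ker := by
        rw [MonoidHom.mem_ker, map_mul, map_inv, map_mul, map_mul, hπc k hk (π t), inv_mul_cancel]
      have h2 : t * k = (k * t) * ((k * t)⁻¹ * (t * k)) := by group
      rw [h2, mul_smul _ ((k * t)⁻¹ * (t * k)), hkU _ h1 w hw]
  -- so `π g` fixes the second vector
  have hgu : g • u1 = u1 := (hus g).2 (c.su g ha2 hgY)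
  have hfix : π g • f ⟨u1, hu1⟩ = f ⟨u1, hu1⟩ := by
    rw [← o.eqv g ⟨u1, hu1⟩]
    exact congrArg f (Subtype.ext hgu)
  have hnor : (zpowers (π g)).Normal := by
    refine ⟨fun k hk s => ?_⟩
    have h1 : k ∈ center H' := by
      have h2 : zpowers (π g) ≤ center H' := by
        rw [zpowers_le, hπg]
        exact (center H').pow_mem (hcen hν) _
      exact h2 hk
    rw [mem_center_iff.1 h1 s, mul_inv_cancel_right]
    exact hk
  have h1 := hs.bot_of_fix hnor hs.y1 fun k hk => by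
    have h2 : zpowers (π g) ≤ MulAction.stabilizer H' (f ⟨u1, hu1⟩) := by
      rw [zpowers_le]
      exact hfix
    exact h2 hk
  exact hπg1 (by
    have h2 := mem_zpowers (π g)
    rw [h1] at h2
    exact mem_bot.1 h2)

end

/-- **The input of THEOREM KL*(q)** -/
structure InpQ {H : Type u} [Group H] {M : Type v} [Group M] [MulDistribMulAction H M] (T A : Subgroup H)
    (Z Y : Subgroup M) : Prop where
  sq : ∀ m : M, m * m = 1
  two : IsPGroup 2 T
  syl : ¬ 2 ∣ T.index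
  tZ : ∀ z ∈ Z, ∀ t ∈ T, t • z = z
  NZ : ∀ g ∈ normalizer (T : Set H), ∀ z ∈ Z, g • z ∈ Z
  NY : ∀ g ∈ normalizer (T : Set H), ∀ w ∈ Y, g • w ∈ Y
  /-- the `T`-fixed vectors of `Y` are fixed by `H` -/
  cY : ∀ w ∈ Y, (∀ t ∈ T, t • w = w) → ∀ g : H, g • w = w
  /-- a `T`-minimal `P` fixes `Z` pointwise, or its elements of odd order centralise `Y` -/
  par : ∀ P : Subgroup H, IsMinPar T P → (∀ z ∈ Z, ∀ p ∈ P, p • z = z) ∨
    ∀ g ∈ P, Odd (orderOf g) → ∀ w ∈ Y, g • w = w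
  el : ∀ a ∈ A, a * a = 1
  exact : (cv M (A : Set H)).index = Nat.card A
  atom : ∀ C : Subgroup H, C ≤ A → C ≠ ⊥ → C ≠ A → Nat.card C < (cv M (C : Set H)).index
  nT : ¬ A ≤ o2 (⊤ : Subgroup H)
  AZ : A ≤ o2 (fxr H Z)
  AY : A ≤ o2 (fxr H Y ⊔ T)
  KH : IsKGroup H

namespace InpQ

variable {H : Type u} [Group H] [Finite H] {M : Type v} [Group M] [Finite M] [MulDistribMulAction H M]
  {T A : Subgroup H} {Z Y : Subgroup M}

omit [Finite M] in
theorem AT (i : InpQ T A Z Y) : A ≤ T :=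
  i.AZ.trans (o2_le_of_sylow i.two fun h2 => i.syl (h2.trans (relIndex_dvd_index_of_le fun t ht z hz => i.tZ z hz t ht)))

/-- **THEOREM KL*(q).** -/
theorem exists_sysW (i : InpQ T A Z Y) (hM : MLK.{u, v}) :
    ∃ (H' : Type u) (_ : Group H') (_ : Finite H') (N : Type v) (_ : Group N) (_ : Finite N)
      (_ : MulDistribMulAction H' N) (T' A' : Subgroup H') (x' y' : N), SysW T' A' x' y' ∧
      ∀ K : Subgroup H', K.Normal → Odd (Nat.card K) → K = ⊥ := by
  -- `L` minimal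
  obtain ⟨L, ⟨hTL, hAL⟩, hmin⟩ : ∃ L : Subgroup H, (T ≤ L ∧ ¬ A ≤ o2 L) ∧
      ∀ R : Subgroup H, (T ≤ R ∧ ¬ A ≤ o2 R) → R ≤ L → R = L := by
    have hfin : {L : Subgroup H | T ≤ L ∧ ¬ A ≤ o2 L}.Finite := Set.toFinite _
    obtain ⟨B, hB⟩ := hfin.exists_minimal ⟨⊤, le_top, i.nT⟩
    exact ⟨B, hB.1, fun C hC hCB => le_antisymm hCB (hB.2 hC hCB)⟩
  have hAT := i.AT
  have hAL' : A ≤ L := hAT.trans hTL
  have e1 : ∀ {C : Subgroup H}, C ≤ L → (C.subgroupOf L).map L.subtype = C := fun {C} hC => by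
    rw [subgroupOf_map_subtype, inf_eq_left.2 hC]
  have hcv : ∀ C : Subgroup L, cv M (C : Set L) = cv M ((C.map L.subtype : Subgroup H) : Set H) := by
    intro C
    ext m
    constructor
    · rintro hm _ ⟨c, hc, rfl⟩
      exact hm c hc
    · exact fun hm c hc => hm _ ⟨c, hc, rfl⟩
  have hcard : ∀ C : Subgroup L, Nat.card (C.map L.subtype) = Nat.card C := fun C =>
    card_map_of_injective L.subtype_injective
  have hlb : LB L M (T.subgroupOf L) (A.subgroupOf L) := by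
    refine ⟨i.sq, i.two.comap_subtype, fun h2 => ?_, fun x hx => hAT hx, fun b hb => Subtype.ext (i.el b hb), ?_, ?_, ?_, ?_,
      sec_KG.sub H i.KH L⟩
    · exact i.syl (h2.trans (relIndex_dvd_index_of_le hTL))
    · rw [hcv, e1 hAL', i.exact, ← hcard, e1 hAL']
    · intro C hC hC1 hCF
      rw [hcv, ← hcard]
      refine i.atom _ ?_ ?_ ?_
      · rintro _ ⟨c, hc, rfl⟩
        exact hC hc
      · intro h1
        exact hC1 ((Subgroup.map_eq_bot_iff_of_injective _ L.subtype_injective).1 h1)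
      · intro h1
        apply hCF
        rw [← h1]
        exact (comap_map_eq_self_of_injective L.subtype_injective C).symm
    · intro R hTR hR
      have h1 : R.map L.subtype ≠ L := by
        intro h2
        apply hR
        rw [eq_top_iff]
        intro r _
        have h3 : (r : H) ∈ R.map L.subtype := by
          rw [h2]
          exact r.2
        obtain ⟨s, hs, hsr⟩ := h3
        rwa [← (Subtype.ext hsr : s = r)]
      have h2 : T ≤ R.map L.subtype := fun t ht => ⟨⟨t, hTL ht⟩, hTR ht, rfl⟩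
      have h3 : A ≤ o2 (R.map L.subtype) := by
        by_contra hc
        exact h1 (hmin _ ⟨h2, hc⟩ (map_subtype_le R))
      exact fun x hx => KL.GenTool.o2_subgroupOf_le R (h3 hx)
    · intro hc
      apply hAL
      have h1 := (map_mono (f := L.subtype) hc).trans (KL.GenTool.o2_map_le L.subtype ⊤)
      rw [e1 hAL', ← MonoidHom.range_eq_map, L.range_subtype] at h1
      exact h1
  -- normalizers of `T`
  have hNN : ∀ g : L, g ∈ normalizer ((T.subgroupOf L : Subgroup L) : Set L) → (g : H) ∈ normalizer (T : Set H) := by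
    intro g hg
    rw [mem_normalizer_iff] at hg ⊢
    intro t
    constructor
    · intro ht
      exact (hg ⟨t, hTL ht⟩).1 ht
    · intro ht
      have h1 : t ∈ L := by
        have h2 := L.mul_mem (L.mul_mem (L.inv_mem g.2) (hTL ht)) g.2
        have e : (g : H)⁻¹ * (g * t * (g : H)⁻¹) * g = t := by group
        rwa [e] at h2
      exact (hg ⟨t, h1⟩).2 ht
  -- a `T`-minimal subgroup of `L` which moves `Z`
  obtain ⟨P, hPm, hPZ⟩ : ∃ P : Subgroup L, IsMinPar (T.subgroupOf L) P ∧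
      ¬ ∀ z ∈ Z, ∀ p ∈ P, p • z = z := by
    by_contra hc
    push Not at hc
    apply hAL
    -- `C_L(Z)` is normal in `L`
    let F : Subgroup H := fxr H Z ⊓ L
    have hTF : T ≤ F := le_inf (fun t ht z hz => i.tZ z hz t ht) hTL
    have h1 : (⊤ : Subgroup L) ≤ (normalizer (F : Set H)).subgroupOf L := by
      refine le_of_forall (S := T.subgroupOf L) le_top (fun g hg => ?_) fun P hP _ p hp => ?_
      · rw [mem_subgroupOf]
        have hg1 := hNN g hg.2
        have hconj : ∀ k : H, k ∈ normalizer (T : Set H) → k ∈ L → ∀ w ∈ F, k * w * k⁻¹ ∈ F := by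
          intro k hk hkL w hw
          refine ⟨fun z hz => ?_, L.mul_mem (L.mul_mem hkL hw.2) (L.inv_mem hkL)⟩
          have h2 := hw.1 _ (i.NZ k⁻¹ (inv_mem hk) z hz)
          rw [mul_smul, mul_smul, h2, smul_inv_smul]
        rw [mem_normalizer_iff]
        intro w
        refine ⟨hconj g hg1 g.2 w, fun hw => ?_⟩
        have h2 := hconj (g : H)⁻¹ (inv_mem hg1) (L.inv_mem g.2) _ hw
        have e : (g : H)⁻¹ * (g * w * (g : H)⁻¹) * (g : H)⁻¹⁻¹ = w := by group
        rwa [e] at h2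
      · rw [mem_subgroupOf]
        exact le_normalizer (show (p : H) ∈ F from ⟨fun z hz => hc P hP z hz p hp, p.2⟩)
    have h2 : L ≤ normalizer (F : Set H) := fun g hg => h1 (mem_top (⟨g, hg⟩ : L))
    exact (le_inf i.AZ (hAT.trans hTF)).trans
      ((InpG.o2_le_o2_of_le inf_le_left).trans (o2_le_o2 inf_le_right h2))
  push Not at hPZ
  obtain ⟨x, hxZ, p, hp, hpx⟩ := hPZ
  have htx : ∀ t ∈ T.subgroupOf L, t • x = x := fun t ht => i.tZ x hxZ _ ht
  -- `L ≠ C_L(Y) T`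
  have hY : ¬ ∀ g : L, Odd (orderOf g) → ∀ w ∈ Y, g • w = w := by
    intro hc
    apply hAL
    have h1 : oddGen L ⊔ T = L := oddGen_sup hTL fun h2 => i.syl (h2.trans (relIndex_dvd_index_of_le hTL))
    have h2 : L ≤ fxr H Y ⊔ T := by
      rw [← h1]
      refine sup_le_sup_right ?_ T
      rw [oddGen_def, closure_le]
      rintro g ⟨hgL, hgo⟩ w hw
      exact hc ⟨g, hgL⟩ (by rwa [orderOf_mk]) w hw
    exact (le_inf i.AY hAL').trans (InpG.o2_le_o2_of_le h2)
  refine exists_of_core hlb hM htx (Y := Y) (fun g hg w hw => i.NY g (hNN g hg) w hw)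
    (fun w hw tw g => i.cY w hw (fun t ht => tw ⟨t, hTL ht⟩ ht) g) hY (fun R hR => ?_) ⟨P, hPm, p, hp, hpx⟩
  rcases i.par _ (KL.GenTool.minPar_map_subtype hTL hR) with h1 | h2
  · exact Or.inl fun q hq => h1 x hxZ _ ⟨q, hq, rfl⟩
  · refine Or.inr fun g hg hgo w hw => h2 _ ⟨g, hg, rfl⟩ ?_ w hw
    rwa [Subgroup.coe_subtype, orderOf_coe]

/-- **THEOREM KL*(q)**, with the output `Two.SysT` -/
theorem exists_sysT (i : InpQ T A Z Y) (hM : MLK.{u, v}) :
    ∃ (H' : Type u) (_ : Group H') (_ : Finite H') (N : Type v) (_ : Group N) (_ : Finite N)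
      (_ : MulDistribMulAction H' N) (T' A' : Subgroup H') (x' y' : N), ML.Ex.Two.SysT H' N T' A' x' y' := by
  obtain ⟨H', i1, i2, N, i3, i4, i5, T', A', x', y', h, ho⟩ := i.exists_sysW hM
  exact ⟨H', i1, i2, N, i3, i4, i5, T', A', x', y', h.sysT ho⟩

/-- **THEOREM KL*(q)**, with EXT -/
theorem false_of (hM : MLK.{u, v}) (hE : ML.Ex.Two.Ext.{u, v}) (i : InpQ T A Z Y) : False := by
  obtain ⟨H', i1, i2, N, i3, i4, i5, T', A', x', y', h⟩ := i.exists_sysT hM
  exact hE H' N T' A' x' y' h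

end InpQ

end Cfsg.Agent.Omega.KL.StarQ

end

section


/-!
# Two `T`-fixed vectors `x`, `y` and an elementary abelian `F ≤ O₂(C_X(x)) ∩ O₂(C_X(y))`, exact on `⟨x^X⟩` and on `M`

* `exists_atom` : some `B ≤ F` is an exact atom on `M` and meets `C_X(⟨x^X⟩)` trivially;
* `ActE T F x y` : **the input**: every `T`-minimal `P` fixes `x` or `y`, `N_X(T)` fixes `x`,
  `|M : C_M(F)| ≤ |F : C_F(⟨x^X⟩)|`, `F` moves `⟨x^X⟩`;
* **`ActE.false`** : contradiction from (ML) and 585's `Ext` (through 566's `InpG`).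
-/

set_option autoImplicit false

namespace Cfsg.Agent.Omega.EK3.FK

open Subgroup Cfsg Cfsg.Agent.ZN Cfsg.Agent.ClassTwoFusion.Quad Cfsg.Agent.Omega.ML.MinFrame
open Cfsg.Agent.Omega.ML.Final
open Cfsg.Agent.MinSimple.MinParabolic (IsMinPar)
open Cfsg.Agent.MinSimple.VModule (o2_isPGroup o2_le le_o2 le_normalizer_o2 o2_le_of_sylow)
open Cfsg.Agent.Omega.ML.CD (card_eq_relIndex_mul)
open Cfsg.Agent.Omega.NO3S.EMany.Low (InpG)

universe u v

/-- complements of subgroups of elementary abelian 2-groups -/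
theorem exists_compl {X : Type*} [Group X] [Finite X] {F : Subgroup X} (el : ∀ a ∈ F, a * a = 1) {I : Subgroup X}
    (hI : I ≤ F) : ∃ B : Subgroup X, B ≤ F ∧ B ⊓ I = ⊥ ∧ Nat.card B = I.relIndex F := by
  have hc : ∀ a ∈ F, ∀ b ∈ F, a * b = b * a := by
    intro a ha b hb
    have h1 := el _ ha
    have h2 := el _ hb
    have h3 := el _ (mul_mem ha hb)
    calc a * b = a * b * ((a * b) * (a * b))⁻¹ := by rw [h3, inv_one, mul_one]
      _ = b⁻¹ * a⁻¹ := by group
      _ = b * a := by rw [inv_eq_of_mul_eq_one_left h1, inv_eq_of_mul_eq_one_left h2]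
  obtain ⟨B, hB⟩ := (Set.toFinite {B : Subgroup X | B ≤ F ∧ B ⊓ I = ⊥}).exists_maximal
    ⟨⊥, bot_le, bot_inf_eq I⟩
  have hBc : B ≤ centralizer (I : Set X) := fun b hb =>
    mem_centralizer_iff.2 fun i hi => (hc _ (hI hi) _ (hB.1.1 hb))
  refine ⟨B, hB.1.1, hB.1.2, ?_⟩
  have hsup : B ⊔ I = F := by
    apply le_antisymm (sup_le hB.1.1 hI)
    intro b hb
    by_contra hcon
    have hbB : B ≤ centralizer ((zpowers b : Subgroup X) : Set X) := fun c hc' => by
      rw [mem_centralizer_iff]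
      rintro _ ⟨n, rfl⟩
      exact hc _ (F.zpow_mem hb n) _ (hB.1.1 hc')
    have h1 : B ⊔ zpowers b ≤ B := by
      refine hB.2 ⟨sup_le hB.1.1 (zpowers_le.2 hb), ?_⟩ le_sup_left
      rw [eq_bot_iff]
      rintro x ⟨hx, hxI⟩
      have hx' : x ∈ ((B ⊔ zpowers b : Subgroup X) : Set X) := hx
      rw [coe_mul_of_left_le_normalizer_right B (zpowers b) (hbB.trans (centralizer_le_normalizer _))] at hx'
      obtain ⟨c, hcB, z, ⟨k, rfl⟩, rfl⟩ := Set.mem_mul.1 hx'
      have hxI' : c * b ^ k ∈ I := hxI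
      rcases Int.even_or_odd' k with ⟨j, hj | hj⟩
      · have h2 : b ^ k = 1 := by rw [hj, zpow_mul, zpow_two, el b hb, one_zpow]
        show c * b ^ k ∈ (⊥ : Subgroup X)
        rw [h2, mul_one] at hxI' ⊢
        rw [← hB.1.2]
        exact ⟨hcB, hxI'⟩
      · have h2 : b ^ k = b := by rw [hj, zpow_add, zpow_mul, zpow_two, el b hb, one_zpow, one_mul, zpow_one]
        rw [h2] at hxI'
        exfalso
        apply hcon
        have h3 : b = c * (c * b) := by rw [← mul_assoc, el c (hB.1.1 hcB), one_mul]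
        rw [h3]
        exact mul_mem_sup hcB hxI'
    exact hcon (mem_sup_left (h1 (mem_sup_right (mem_zpowers b))))
  have h1 : Nat.card (B ⊔ I : Subgroup X) * Nat.card (B ⊓ I : Subgroup X) = Nat.card B * Nat.card I := by
    rw [← Cfsg.Agent.Lib.ProductSet.card_mul_card_inf B I,
      ← coe_mul_of_left_le_normalizer_right B I (hBc.trans (centralizer_le_normalizer _))]
    rfl
  rw [hsup, hB.1.2, card_bot, mul_one, card_eq_relIndex_mul hI] at h1
  exact (Nat.eq_of_mul_eq_mul_right Nat.card_pos h1).symm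

section

variable {X : Type u} [Group X] [Finite X] {M : Type v} [Group M] [Finite M] [MulDistribMulAction X M]

/-- **an atom** -/
theorem exists_atom {F : Subgroup X} {U : Subgroup M} (el : ∀ a ∈ F, a * a = 1)
    (hno : ∀ A : Subgroup X, A ≤ F → (fxr X U).relIndex A ≤ (cv M (A : Set X)).index)
    (hex : (cv M (F : Set X)).index ≤ (fxr X U).relIndex F) (hmv : ¬ F ≤ fxr X U) :
    ∃ B : Subgroup X, B ≤ F ∧ B ⊓ fxr X U = ⊥ ∧ B ≠ ⊥ ∧ (cv M (B : Set X)).index = Nat.card B ∧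
      ∀ C : Subgroup X, C ≤ B → C ≠ ⊥ → C ≠ B → Nat.card C < (cv M (C : Set X)).index := by
  obtain ⟨F', hF', h0, hcard⟩ := exists_compl el (inf_le_left : F ⊓ fxr X U ≤ F)
  have h0' : F' ⊓ fxr X U = ⊥ := by
    rw [eq_bot_iff, ← h0]
    exact fun x hx => ⟨hx.1, hF' hx.1, hx.2⟩
  have hrel : ∀ B : Subgroup X, B ≤ F' → (fxr X U).relIndex B = Nat.card B := by
    intro B hB
    have h1 : (fxr X U ⊓ B : Subgroup X) = ⊥ := by
      rw [eq_bot_iff, ← h0', inf_comm]
      exact inf_le_inf_right _ hB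
    rw [← inf_relIndex_right, h1, relIndex_bot_left]
  have hnoB : ∀ B : Subgroup X, B ≤ F' → Nat.card B ≤ (cv M (B : Set X)).index := fun B hB => by
    rw [← hrel B hB]
    exact hno B (hB.trans hF')
  have hexF : (cv M (F' : Set X)).index = Nat.card F' := by
    refine le_antisymm ?_ (hnoB F' le_rfl)
    rw [hcard, inf_relIndex_left]
    exact (index_antitone (cv_anti (V := M) (show (F' : Set X) ⊆ F from hF'))).trans hex
  have hne : F' ≠ ⊥ := by
    intro h1
    apply hmv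
    have h2 : (F ⊓ fxr X U).relIndex F = 1 := by rw [← hcard, h1, card_bot]
    rw [inf_relIndex_left] at h2
    exact relIndex_eq_one.1 h2
  obtain ⟨B, ⟨hBF, hB1, hBe⟩, hmin⟩ : ∃ B : Subgroup X, (B ≤ F' ∧ B ≠ ⊥ ∧
      (cv M (B : Set X)).index = Nat.card B) ∧ ∀ B' : Subgroup X, (B' ≤ F' ∧ B' ≠ ⊥ ∧
      (cv M (B' : Set X)).index = Nat.card B') → B' ≤ B → B' = B := by
    obtain ⟨B, hB⟩ := (Set.toFinite {B : Subgroup X | B ≤ F' ∧ B ≠ ⊥ ∧
      (cv M (B : Set X)).index = Nat.card B}).exists_minimal ⟨F', le_rfl, hne, hexF⟩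
    exact ⟨B, hB.prop, fun B' hB' hle => le_antisymm hle (hB.le_of_le hB' hle)⟩
  refine ⟨B, hBF.trans hF', ?_, hB1, hBe, fun C hC hC1 hCB => ?_⟩
  · rw [eq_bot_iff, ← h0']
    exact inf_le_inf_right _ hBF
  · exact lt_of_le_of_ne (hnoB C (hC.trans hBF)) fun h1 => hCB (hmin C ⟨hC.trans hBF, hC1, h1.symm⟩ hC)

end

/-- **The input.** -/
structure ActE {X : Type u} [Group X] {M : Type v} [Group M] [MulDistribMulAction X M] (T F : Subgroup X) (x y : M) :
    Prop where
  sq : ∀ m : M, m * m = 1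
  two : IsPGroup 2 T
  syl : ¬ 2 ∣ T.index
  el : ∀ a ∈ F, a * a = 1
  nx : ∀ g ∈ normalizer (T : Set X), g • x = x
  ty : ∀ t ∈ T, t • y = y
  Ax : F ≤ o2 (MulAction.stabilizer X x)
  Ay : F ≤ o2 (MulAction.stabilizer X y)
  uni : ∀ P : Subgroup X, IsMinPar T P → (∀ p ∈ P, p • x = x) ∨ ∀ p ∈ P, p • y = y
  mv : ¬ F ≤ fxr X (orb (⊤ : Subgroup X) x)
  ex : (cv M (F : Set X)).index ≤ (fxr X (orb (⊤ : Subgroup X) x)).relIndex F
  KX : IsKGroup X

section

variable {X : Type u} [Group X] [Finite X] {M : Type v} [Group M] [Finite M] [MulDistribMulAction X M]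
  {T F : Subgroup X} {x y : M}

theorem ActE.tx (h : ActE T F x y) {t : X} (ht : t ∈ T) : t • x = x := h.nx t (le_normalizer ht)

theorem ActE.exists_inp (hM : MLK.{u, v}) (h : ActE T F x y) : ∃ B : Subgroup X, InpG T B ({x, y} : Set M) := by
  obtain ⟨B, hBF, hB0, hB1, hBe, hBa⟩ := exists_atom (M := M) (U := orb (⊤ : Subgroup X) x) h.el
    (fun A hA => (KL.GenTool.no_orb hM h.KX h.sq h.two h.syl (fun t ht => h.tx ht) (fun a ha => h.el a (hA ha))
      (hA.trans h.Ax)).trans (by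
        rw [← relIndex_top_right]
        exact relIndex_le_of_le_right le_top index_ne_zero_of_finite)) h.ex h.mv
  refine ⟨B, ?_⟩
  refine
    { sq := h.sq
      two := h.two
      syl := h.syl
      el := fun a ha => h.el a (hBF ha)
      exact := hBe
      atom := hBa
      nT := fun hc => hB1 ?_
      tS := ?_
      low := ?_
      nN := ⟨x, Or.inl rfl, h.nx⟩
      uni := fun P hP => ?_
      KH := h.KX }
  · rw [eq_bot_iff, ← hB0]
    exact fun b hb => ⟨hb, KL.Gen.o2_top_le h.two h.syl (fun t ht => h.tx ht) (hc hb)⟩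
  · rintro m (rfl | rfl) t ht
    · exact h.tx ht
    · exact h.ty t ht
  · rintro m (rfl | rfl)
    · exact hBF.trans h.Ax
    · exact hBF.trans h.Ay
  · rcases h.uni P hP with h1 | h1
    · exact ⟨x, Or.inl rfl, h1⟩
    · exact ⟨y, Or.inr rfl, h1⟩

/-- **contradiction** -/
theorem ActE.false (hM : MLK.{u, v}) (hE : ML.Ex.Two.Ext.{u, v}) (h : ActE T F x y) : False := by
  obtain ⟨B, hB⟩ := h.exists_inp hM
  obtain ⟨H, _, _, N, _, _, _, T', A', x', y', hs⟩ := hB.exists_sysT hM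
  exact hE H N T' A' x' y' hs

end

end Cfsg.Agent.Omega.EK3.FK

end

section


/-!
# THEOREM KL*(q)+ : KL*(q) with bad `T`-minimal subgroups (bb #24575 (R), helper988)

As `StarQ/Main.lean`, but `T`-minimal subgroups `P` which neither fix `Z` nor have their odd elements in the centraliser
of `Y` are allowed, if they lie in a fixed subgroup `NJ` with `A ≤ O₂(NJ)`, `N_H(T), C_H(Z) ≤ NJ`, and, for some
`B ≤ O₂(P)` and all `t ∈ P` of odd order: `[t, B]` centralises `[Y, t]` only if `t` centralises `Y`.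

* `FL` : `LB`, faithful, irreducible, `T` in at least two maximal subgroups;  `FL.odd_le_center`;
* `exists_of_coreB` : `SysT` from `LB`;
* `InpB T A B NJ Z Y` : the input;  **`InpB.exists_sysT`**, `InpB.false_of`.
-/

set_option autoImplicit false

namespace Cfsg.Agent.Omega.KL.StarQ

open Subgroup Cfsg Cfsg.Agent.ZN Cfsg.Agent.ClassTwoFusion.Quad
open Cfsg.Agent.Omega.ML.MinFrame hiding comm_of_sq
open Cfsg.Agent.Omega.ML.Final Cfsg.Agent.Omega.NO3S.EMany.Low
open Cfsg.Agent.Omega.KL.Star.Core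
open Cfsg.Agent.MinSimple.VModule (o2_isPGroup o2_le le_o2 le_normalizer_o2 o2_le_of_sylow oddGen oddGen_le oddGen_def)
open Cfsg.Agent.MinSimple.MinParabolic (IsMinPar le_of_forall)

universe u v

/-- `LB`, faithful, irreducible, `T` in at least two maximal subgroups -/
structure FL (H : Type u) [Group H] (M : Type v) [Group M] [MulDistribMulAction H M] (T A : Subgroup H) :
    Prop extends LB H M T A where
  faith : ∀ h : H, (∀ m : M, h • m = m) → h = 1
  irr : ∀ W : Subgroup M, (∀ h : H, ∀ w ∈ W, h • w ∈ W) → W = ⊥ ∨ W = ⊤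
  nmax : ¬ ∃ N : Subgroup H, N ≠ ⊤ ∧ ∀ R : Subgroup H, T ≤ R → R ≠ ⊤ → R ≤ N

section FL

variable {H : Type u} [Group H] {M : Type v} [Group M] [MulDistribMulAction H M] {T A : Subgroup H}

/-- a normal subgroup which fixes a non-trivial vector is trivial -/
theorem FL.bot_of_fix (h : FL H M T A) {N : Subgroup H} (hN : N.Normal) {m : M} (hm : m ≠ 1)
    (hf : ∀ n ∈ N, n • m = m) : N = ⊥ := by
  have h1 : cv M (N : Set H) = ⊤ := by
    refine (h.irr _ ?_).resolve_left ?_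
    · intro g w hw n hn
      have h2 := hw (g⁻¹ * n * g) (by simpa using hN.conj_mem n hn g⁻¹)
      rwa [mul_smul, mul_smul, inv_smul_eq_iff] at h2
    · intro h2
      have h3 : m ∈ cv M (N : Set H) := fun n hn => hf n hn
      rw [h2, mem_bot] at h3
      exact hm h3
  rw [eq_bot_iff]
  intro n hn
  exact mem_bot.2 (h.faith n fun w => (h1 ▸ mem_top w : w ∈ cv M (N : Set H)) n hn)

variable [Finite H]

/-- a normal subgroup of odd order is central -/
theorem FL.odd_le_center (h : FL H M T A) {N : Subgroup H} (hN : N.Normal) (hNo : Odd (Nat.card N))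
    (hPN : ∀ P : Subgroup H, IsMinPar T P → P ≤ N ⊔ T → (P ⊓ N).Normal → P ⊓ N = ⊥) :
    N ≤ center H := by
  have hgen : Km A ⊔ T = ⊤ := h.gen
  by_cases hNT : N ⊔ T = ⊤
  · -- `N T = H`
    exfalso
    let D : Subgroup H := N ⊓ centralizer {z : H | ∃ t ∈ T, ∃ a ∈ A, z = t * a * t⁻¹}
    have hDT : ∀ s ∈ T, ∀ d ∈ D, s * d * s⁻¹ ∈ D := by
      intro s hs d hd
      refine ⟨hN.conj_mem d hd.1 s, mem_centralizer_iff.2 ?_⟩
      rintro _ ⟨t, ht, a, ha, rfl⟩
      have h1 := mem_centralizer_iff.1 hd.2 _ ⟨s⁻¹ * t, mul_mem (inv_mem hs) ht, a, ha, rfl⟩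
      have h2 := congrArg (fun w => s * w * s⁻¹) h1
      simp only [mul_inv_rev, inv_inv] at h2
      calc t * a * t⁻¹ * (s * d * s⁻¹) = s * (s⁻¹ * t * a * (t⁻¹ * s) * d) * s⁻¹ := by group
        _ = s * (d * (s⁻¹ * t * a * (t⁻¹ * s))) * s⁻¹ := h2
        _ = s * d * s⁻¹ * (t * a * t⁻¹) := by group
    have hDn : T ≤ normalizer (D : Set H) := by
      intro s hs
      rw [mem_normalizer_iff]
      intro z
      refine ⟨hDT s hs z, fun hz => ?_⟩
      have h1 := hDT s⁻¹ (inv_mem hs) _ hz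
      have h2 : s⁻¹ * (s * z * s⁻¹) * s⁻¹⁻¹ = z := by group
      rwa [h2] at h1
    refine h.nmax ⟨D ⊔ T, ?_, ?_⟩
    · intro htop
      -- `N` centralises all `T`-conjugates of `A`
      have hcen : ∀ n ∈ N, ∀ t ∈ T, ∀ a ∈ A, t * a * t⁻¹ * n = n * (t * a * t⁻¹) := by
        intro e he t' ht' a ha
        have h2 : e ∈ ((D ⊔ T : Subgroup H) : Set H) := htop ▸ mem_top e
        rw [coe_mul_of_right_le_normalizer_left D T hDn] at h2
        obtain ⟨d, hd, t, ht, rfl⟩ := h2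
        have h3 : t ∈ N := by
          have := N.mul_mem (N.inv_mem hd.1) he
          simpa using this
        have h4 : t = 1 := eq_one_of_odd hNo h.two h3 ht
        rw [h4]
        simp only [mul_one]
        exact mem_centralizer_iff.1 hd.2 _ ⟨t', ht', a, ha, rfl⟩
      -- their closure is normal in `H`
      let K1 : Subgroup H := closure {z : H | ∃ t ∈ T, ∃ a ∈ A, z = t * a * t⁻¹}
      have hK1T : K1 ≤ T := by
        rw [closure_le]
        rintro _ ⟨t, ht, a, ha, rfl⟩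
        exact T.mul_mem (T.mul_mem ht (h.BT ha)) (T.inv_mem ht)
      have hK1 : K1 ≤ o2 (⊤ : Subgroup H) := by
        refine le_o2 le_top (h.two.to_le hK1T) ?_
        rw [← hNT]
        refine sup_le ?_ ?_
        · intro n hn
          have h1 : n ∈ centralizer (K1 : Set H) := by
            rw [centralizer_closure, mem_centralizer_iff]
            rintro _ ⟨t, ht, a, ha, rfl⟩
            exact hcen n hn t ht a ha
          exact centralizer_le_normalizer _ h1
        · have hconj : ∀ s ∈ T, ∀ k ∈ K1, s * k * s⁻¹ ∈ K1 := by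
            intro s hs k hk
            have h1 : K1 ≤ K1.comap (MulAut.conj s).toMonoidHom := by
              rw [closure_le]
              rintro _ ⟨t, ht, a, ha, rfl⟩
              refine subset_closure ⟨s * t, T.mul_mem hs ht, a, ha, ?_⟩
              change s * (t * a * t⁻¹) * s⁻¹ = _
              group
            exact h1 hk
          intro s hs
          rw [mem_normalizer_iff]
          intro z
          refine ⟨hconj s hs z, fun hz => ?_⟩
          have h1 := hconj s⁻¹ (inv_mem hs) _ hz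
          have h2 : s⁻¹ * (s * z * s⁻¹) * s⁻¹⁻¹ = z := by group
          rwa [h2] at h1
      exact h.nb fun a ha => hK1 (subset_closure ⟨1, one_mem T, a, ha, by group⟩)
    · intro R hTR hR
      have h1 : R ⊓ N ⊔ T = R := by
        apply le_antisymm (sup_le inf_le_left hTR)
        intro r hr
        have h1 : r ∈ N ⊔ T := hNT ▸ mem_top r
        rw [mem_sup_of_normal_left] at h1
        obtain ⟨n, hn, s, hs, rfl⟩ := h1
        refine mul_mem_sup ⟨?_, hn⟩ hs
        have := R.mul_mem hr (R.inv_mem (hTR hs))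
        rwa [mul_inv_cancel_right] at this
      rw [← h1]
      refine sup_le_sup_right ?_ T
      intro e he
      refine ⟨he.2, mem_centralizer_iff.2 ?_⟩
      rintro _ ⟨t, ht, a, ha, rfl⟩
      have h3 : t * a * t⁻¹ ∈ o2 R := (mem_normalizer_iff.1 (le_normalizer_o2 R (hTR ht)) a).1 (h.low R hTR hR ha)
      exact (comm_odd hN hNo he.2 he.1 h3).symm
  · -- `N T < H` : `N` is centralised by `A`
    have hAN : Km A ≤ centralizer (N : Set H) := by
      refine Km_le inferInstance fun a ha => mem_centralizer_iff.2 fun n hn => ?_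
      exact comm_odd hN hNo hn (mem_sup_left hn) (h.low _ le_sup_right hNT ha)
    -- no minimal parabolics in `N T`
    have hP : ∀ P : Subgroup H, IsMinPar T P → P ≤ N ⊔ T → False := by
      intro P hP hPT
      have h4 : P ⊓ N ⊔ T = P := by
        apply le_antisymm (sup_le inf_le_left hP.le)
        intro r hr
        have h1 : r ∈ N ⊔ T := hPT hr
        rw [mem_sup_of_normal_left] at h1
        obtain ⟨n, hn, s, hs, rfl⟩ := h1
        refine mul_mem_sup ⟨?_, hn⟩ hs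
        have := P.mul_mem hr (P.inv_mem (hP.le hs))
        rwa [mul_inv_cancel_right] at this
      have h5 : (P ⊓ N).Normal := by
        rw [← normalizer_eq_top_iff, eq_top_iff, ← hgen]
        refine sup_le ?_ ?_
        · intro k hk
          have h1 : k ∈ centralizer ((P ⊓ N : Subgroup H) : Set H) := by
            rw [mem_centralizer_iff]
            intro z hz
            exact mem_centralizer_iff.1 (hAN hk) z hz.2
          exact centralizer_le_normalizer _ h1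
        · intro t ht
          rw [mem_normalizer_iff]
          intro z
          constructor
          · rintro ⟨hz1, hz2⟩
            exact ⟨P.mul_mem (P.mul_mem (hP.le ht) hz1) (P.inv_mem (hP.le ht)), hN.conj_mem z hz2 t⟩
          · rintro ⟨hz1, hz2⟩
            have h7 : t⁻¹ * (t * z * t⁻¹) * t⁻¹⁻¹ = z := by group
            refine ⟨?_, ?_⟩
            · rw [← h7]
              exact P.mul_mem (P.mul_mem (P.inv_mem (hP.le ht)) hz1) (P.inv_mem (P.inv_mem (hP.le ht)))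
            · rw [← h7]
              exact hN.conj_mem _ hz2 t⁻¹
      have h6 : P ⊓ N = ⊥ := hPN P hP hPT h5
      rw [h6, bot_sup_eq] at h4
      exact hP.ne h4
    have hNT' : N ⊔ T ≤ normalizer (T : Set H) :=
      le_of_forall le_sup_right inf_le_right fun P hP1 hP2 => (hP P hP1 hP2).elim
    -- `[N, T] = 1`
    have hTN : T ≤ centralizer (N : Set H) := by
      intro t ht
      rw [mem_centralizer_iff]
      intro n hn
      have h1 : n * t * n⁻¹ * t⁻¹ = 1 := by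
        refine eq_one_of_odd hNo h.two ?_ ?_
        · have h2 : n * t * n⁻¹ * t⁻¹ = n * (t * n⁻¹ * t⁻¹) := by group
          rw [h2]
          exact mul_mem hn (hN.conj_mem _ (inv_mem hn) t)
        · exact mul_mem ((mem_normalizer_iff.1 (hNT' (mem_sup_left hn)) t).1 ht) (inv_mem ht)
      calc n * t = (n * t * n⁻¹ * t⁻¹) * (t * n) := by group
        _ = t * n := by rw [h1, one_mul]
    intro n hn
    rw [mem_center_iff]
    intro g
    have h1 : g ∈ centralizer (N : Set H) := by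
      have h2 : Km A ⊔ T ≤ centralizer (N : Set H) := sup_le hAN hTN
      exact h2 (hgen ▸ mem_top g)
    exact (mem_centralizer_iff.1 h1 n hn).symm

end FL

section

variable {H : Type u} [Group H] [Finite H] {M : Type v} [Group M] [Finite M] [MulDistribMulAction H M]
  {T A : Subgroup H}

omit [Finite M] in
/-- the output of the machine is `FL` -/
theorem fl_of_out (h : LB H M T A) {H' : Type u} [Group H'] {N : Type v} [Group N] [MulDistribMulAction H' N]
    {π : H →* H'} {f : ↥(cmm M A) →* N} {A' : Subgroup H'} (o : Out H M T A H' N π f A')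
    (nm : ¬ IsMinPar T (⊤ : Subgroup H)) : FL H' N (T.map π) A' := by
  refine ⟨o.lb, o.faith, o.irr, ?_⟩
  rintro ⟨L, hL, hLm⟩
  by_cases hn : (⊤ : Subgroup H') ≤ normalizer ((T.map π : Subgroup H') : Set H')
  · exact o.lb.nb (o.lb.BT.trans (le_o2 le_top o.lb.two hn))
  · obtain ⟨P, hP, hPm⟩ := KL.GenTool.exists_minPar_map π o.πs (T := T) (P' := ⊤)
      ⟨le_top, hn, L, lt_top_iff_ne_top.2 hL, fun K hK hlt => hLm K hK hlt.ne⟩
    have hPt : P ≠ ⊤ := fun h1 => nm (h1 ▸ hP)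
    apply o.lb.nb
    refine o.AB.trans ((map_mono (h.low P hP.le hPt)).trans ((KL.GenTool.o2_map_le π P).trans ?_))
    rw [hPm]

/-- an element of odd order of `N T`, `T` a 2-group, `N` normal, lies in `N` -/
theorem mem_of_odd_sup {G : Type*} [Group G] {N T : Subgroup G} [hN : N.Normal] (hT : IsPGroup 2 T) {g : G}
    (hg : g ∈ N ⊔ T) (ho : Odd (orderOf g)) : g ∈ N := by
  rw [← QuotientGroup.eq_one_iff]
  obtain ⟨n, hn, t, ht, rfl⟩ := mem_sup_of_normal_left.1 hg
  obtain ⟨k, hk⟩ := hT ⟨t, ht⟩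
  have hk' : t ^ 2 ^ k = 1 := congrArg Subtype.val hk
  have h1 : ((n * t : G) : G ⧸ N) = (t : G ⧸ N) := by
    rw [QuotientGroup.mk_mul, (QuotientGroup.eq_one_iff n).2 hn, one_mul]
  have h2 : orderOf ((n * t : G) : G ⧸ N) ∣ 2 ^ k := by
    rw [h1]
    apply orderOf_dvd_of_pow_eq_one
    rw [← QuotientGroup.mk_pow, hk', QuotientGroup.mk_one]
  have h3 : orderOf ((n * t : G) : G ⧸ N) ∣ orderOf (n * t) := orderOf_map_dvd (QuotientGroup.mk' N) _
  have h4 : (2 ^ k).Coprime (orderOf (n * t)) := Nat.Coprime.pow_left k (Nat.coprime_two_left.mpr ho)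
  exact orderOf_eq_one_iff.1 (Nat.eq_one_of_dvd_coprimes h4 h2 h3)

/-- **the end over `LB`** -/
theorem exists_of_coreB (h : LB H M T A) (hM : MLK.{u, v}) {x : M} (tx : ∀ t ∈ T, t • x = x)
    {Y : Subgroup M} (NY : ∀ g ∈ normalizer (T : Set H), ∀ w ∈ Y, g • w ∈ Y)
    (cY : ∀ w ∈ Y, (∀ t ∈ T, t • w = w) → ∀ g : H, g • w = w)
    (hY : ¬ ∀ g : H, Odd (orderOf g) → ∀ w ∈ Y, g • w = w) (nm : ¬ IsMinPar T (⊤ : Subgroup H))
    (mv : ∃ P : Subgroup H, IsMinPar T P ∧ (∃ p ∈ P, p • x ≠ x) ∧ ∀ g ∈ P, Odd (orderOf g) → ∀ w ∈ Y, g • w = w)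
    {B : Subgroup H}
    (par : ∀ P : Subgroup H, IsMinPar T P → (∀ p ∈ P, p • x = x) ∨ (∀ g ∈ P, Odd (orderOf g) → ∀ w ∈ Y, g • w = w) ∨
      (B ≤ o2 P ∧ ∀ t ∈ P, Odd (orderOf t) →
        (∀ b ∈ B, ∀ w ∈ Y, (t * b * t⁻¹ * b⁻¹) • ((t • w) * w⁻¹) = (t • w) * w⁻¹) → ∀ w ∈ Y, t • w = w)) :
    ∃ (H' : Type u) (_ : Group H') (_ : Finite H') (N : Type v) (_ : Group N) (_ : Finite N)
      (_ : MulDistribMulAction H' N) (T' A' : Subgroup H') (x' y' : N), ML.Ex.Two.SysT H' N T' A' x' y' := by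
  obtain ⟨P, hPm, ⟨p, hp, hpx⟩, hPg⟩ := mv
  have hx : ¬ ∀ g : H, g • x = x := fun hc => hpx (hc p)
  have TY : ∀ t ∈ T, ∀ w ∈ Y, t • w ∈ Y := fun t ht => NY t (le_normalizer ht)
  obtain ⟨N, i1, i2, i3, A', x', u', c⟩ := core h hM tx hx TY hY
  -- good minimal parabolics
  have hgood : ∀ P : Subgroup H, IsMinPar T P → (∀ g ∈ P, Odd (orderOf g) → ∀ w ∈ Y, g • w = w) →
      ∀ p ∈ P, p • u' = u' := by
    intro P hP h2
    have h3 : oddGen P ⊔ T = P := oddGen_sup hP.le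
      fun h2 => h.syl (h2.trans (relIndex_dvd_index_of_le hP.le))
    have h4 : P ≤ MulAction.stabilizer H u' := by
      rw [← h3]
      refine sup_le ?_ fun t ht => c.tu t ht
      rw [oddGen_def, closure_le]
      rintro g ⟨hgP, hgo⟩
      exact c.su g hgo fun w hw => h2 g hgP hgo w hw
    exact fun p hp => h4 hp
  have hPx' : ∃ p ∈ P, p • x' ≠ x' := by
    by_contra hc
    push Not at hc
    exact hpx ((c.sx P hPm.le).1 hc p hp)
  have hPu : ∀ p ∈ P, p • u' = u' := hgood P hPm hPg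
  -- shift
  obtain ⟨x1, hx1, hxs⟩ := c.lb.shift c.tx
  obtain ⟨u1, hu1, hus⟩ := c.lb.shift c.tu
  have tx1 : ∀ t ∈ T, t • x1 = x1 := fun t ht => (hxs t).2 (c.tx t ht)
  have tu1 : ∀ t ∈ T, t • u1 = u1 := fun t ht => (hus t).2 (c.tu t ht)
  have mx1 : ¬ ∀ g : H, g • x1 = x1 := fun hc => c.mx fun g => (hxs g).1 (hc g)
  have mu1 : ¬ ∀ g : H, g • u1 = u1 := fun hc => c.mu fun g => (hus g).1 (hc g)
  obtain ⟨H', j1, j2, N', j3, j4, j5, π, f, B', o⟩ := c.lb.exists_out hM tx1 mx1 hx1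
  have fl : FL H' N' (T.map π) B' := fl_of_out c.lb o nm
  -- images of vectors
  have him : ∀ {m : N} (hm : m ∈ cmm N A') {g : H}, g • m = m → π g • f ⟨m, hm⟩ = f ⟨m, hm⟩ := by
    intro m hm g hg
    rw [← o.eqv g ⟨m, hm⟩]
    exact congrArg f (Subtype.ext hg)
  have hne : ∀ {m : N} (hm : m ∈ cmm N A'), (∀ t ∈ T, t • m = m) → (¬ ∀ g : H, g • m = m) → f ⟨m, hm⟩ ≠ 1 := by
    intro m hm tm hc h1
    exact hc fun g => c.lb.fix_of_cvKm tm ((o.ker _).1 h1) g
  have hback : ∀ {m : N} (hm : m ∈ cmm N A'), (∀ t ∈ T, t • m = m) → ∀ R : Subgroup H, T ≤ R →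
      (∀ g ∈ R, π g • f ⟨m, hm⟩ = f ⟨m, hm⟩) → ∀ g ∈ R, g • m = m := by
    intro m hm tm R hTR hR
    refine c.lb.fix_of_mod tm hTR (I := cv N (Km A' : Set H)) (fun w hw tw g _ => c.lb.fix_of_cvKm tw hw g) fun g hg => ?_
    have h1 := hR g hg
    rw [← o.eqv g ⟨m, hm⟩, ← mul_inv_eq_one, ← map_inv, ← map_mul, o.ker] at h1
    exact h1
  have x1' := hne hx1 tx1 mx1
  have y1' := hne hu1 tu1 mu1
  have htx : ∀ t ∈ T.map π, t • f ⟨x1, hx1⟩ = f ⟨x1, hx1⟩ := by
    rintro _ ⟨t, ht, rfl⟩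
    exact him hx1 (tx1 t ht)
  have hty : ∀ t ∈ T.map π, t • f ⟨u1, hu1⟩ = f ⟨u1, hu1⟩ := by
    rintro _ ⟨t, ht, rfl⟩
    exact him hu1 (tu1 t ht)
  have hPx1 : ∃ q ∈ P.map π, q • f ⟨x1, hx1⟩ ≠ f ⟨x1, hx1⟩ := by
    by_contra hc
    push Not at hc
    obtain ⟨q, hq, hqx⟩ := hPx'
    exact hqx ((hxs q).1 (hback hx1 tx1 P hPm.le (fun g hg => hc _ ⟨g, hg, rfl⟩) q hq))
  have hPu1 : ∀ q ∈ P.map π, q • f ⟨u1, hu1⟩ = f ⟨u1, hu1⟩ := by
    rintro _ ⟨q, hq, rfl⟩
    exact him hu1 ((hus q).2 (hPu q hq))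
  have hxy : f ⟨x1, hx1⟩ ≠ f ⟨u1, hu1⟩ := by
    intro he
    obtain ⟨q, hq, hqx⟩ := hPx1
    rw [he] at hqx
    exact hqx (hPu1 q hq)
  -- the kernel of `π` fixes `x`
  have hkx' : ∀ k ∈ π.ker ⊔ T, k • x1 = x1 := by
    refine c.lb.fix_of_mod tx1 le_sup_right (I := cv N (Km A' : Set H))
      (fun w hw tw g _ => c.lb.fix_of_cvKm tw hw g) fun k hk => ?_
    have h1 : π k • f ⟨x1, hx1⟩ = f ⟨x1, hx1⟩ := by
      obtain ⟨k1, hk1, s, hs', rfl⟩ := mem_sup_of_normal_left.1 hk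
      rw [map_mul, (MonoidHom.mem_ker).1 hk1, one_mul, ← o.eqv s ⟨x1, hx1⟩]
      exact congrArg f (Subtype.ext (tx1 s hs'))
    rw [← o.eqv k ⟨x1, hx1⟩, ← mul_inv_eq_one, ← map_inv, ← map_mul, o.ker] at h1
    exact h1
  have hkx : ∀ k ∈ π.ker, k • x = x := by
    have h1 : ∀ k ∈ π.ker ⊔ T, k • x' = x' := fun k hk => (hxs k).1 (hkx' k hk)
    exact fun k hk => (c.sx _ le_sup_right).1 h1 k (mem_sup_left hk)
  have hkU : ∀ k ∈ π.ker, ∀ w ∈ cmm M A, k • w = w := by
    intro k hk w hw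
    have h1 : k ∈ fxr H (orb (⊤ : Subgroup H) x) := by
      rw [mem_fxr_orb]
      intro s _
      have h2 := hkx (s⁻¹ * k * s) (by
        have := (inferInstance : (π.ker).Normal).conj_mem k hk s⁻¹
        rwa [inv_inv] at this)
      rwa [mul_smul, mul_smul, inv_smul_eq_iff] at h2
    exact h1 w (h.cmm_le hM tx hx hw)
  refine ⟨H', j1, j2, N', j3, j4, j5, T.map π, B', f ⟨x1, hx1⟩, f ⟨u1, hu1⟩,
    { x1 := x1', y1 := y1', tx := htx, ty := hty, mv := ⟨P.map π, map_mono hPm.le, hPu1, hPx1⟩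
      sq := o.lb.sq, faith := o.faith, irr := o.irr, two := o.lb.two, syl := o.lb.syl, AT := o.lb.BT, el := o.lb.el
      four := four_le o.lb.sq o.faith o.irr o.lb htx hty x1' y1' hxy
      exact := o.lb.exact, atom := o.lb.atom, low := o.lb.low, nmax := fl.nmax, odd := fun K hK hKo => ?_
      KH := o.lb.KH }⟩
  -- minimal parabolics in `K T`
  have hPN : ∀ P' : Subgroup H', IsMinPar (T.map π) P' → P' ≤ K ⊔ T.map π → (P' ⊓ K).Normal → P' ⊓ K = ⊥ := by
    intro P' hP' hPK hPn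
    obtain ⟨R, hR, rfl⟩ := KL.GenTool.exists_minPar_map π o.πs hP'
    have hfu : (∀ r ∈ R, r • u' = u') → R.map π ⊓ K = ⊥ := fun hc => fl.bot_of_fix hPn y1' (by
      rintro n ⟨⟨r, hr, rfl⟩, -⟩
      exact him hu1 ((hus r).2 (hc r hr)))
    rcases par R hR with h1 | h1 | ⟨h1, h2⟩
    · refine fl.bot_of_fix hPn x1' ?_
      rintro n ⟨⟨r, hr, rfl⟩, -⟩
      exact him hx1 ((hxs r).2 ((c.sx R hR.le).2 h1 r hr))
    · exact hfu (hgood R hR h1)
    · refine hfu (hgood R hR fun t ht hto => h2 t ht hto fun b hb w hw => ?_)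
      have h3 : Odd (orderOf (π t)) := hto.of_dvd_nat (orderOf_map_dvd π t)
      have htK : π t ∈ K := mem_of_odd_sup (N := K) o.lb.two (hPK ⟨t, ht, rfl⟩) h3
      have hbo : π b ∈ o2 (R.map π) := KL.GenTool.o2_map_le π R ⟨b, h1 hb, rfl⟩
      have hcm : π t * π b = π b * π t := comm_odd (R := R.map π) hK hKo htK (mem_map_of_mem π ht) hbo
      have hker : t * b * t⁻¹ * b⁻¹ ∈ π.ker := by
        rw [MonoidHom.mem_ker, map_mul, map_mul, map_mul, map_inv, map_inv, hcm]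
        group
      exact hkU _ hker _ (mem_cmm (mem_of_odd h.two h.gen hto) w)
  have hcen := fl.odd_le_center hK hKo hPN
  by_contra hne
  obtain ⟨⟨ν, hν⟩, hν1'⟩ := (Subgroup.ne_bot_iff_exists_ne_one).1 hne
  have hν1 : ν ≠ 1 := fun h1 => hν1' (Subtype.ext h1)
  have hνc : ∀ g : H', g * ν = ν * g := fun g => mem_center_iff.1 (hcen hν) g
  have hνT : ν ∈ normalizer ((T.map π : Subgroup H') : Set H') := by
    rw [mem_normalizer_iff]
    intro g
    rw [← hνc g, mul_inv_cancel_right]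
  obtain ⟨_, ⟨t, ht, rfl⟩, n, hn, hνn⟩ := KL.GenTool.exists_normalizer_map π o.πs h.two h.syl hνT
  obtain ⟨a, ha1, ha2⟩ := exists_pow h.two ht n
  set g : H := n ^ 2 ^ a with hg
  have hgN : g ∈ normalizer (T : Set H) := (normalizer (T : Set H)).pow_mem hn _
  have hπg : π g = ν ^ 2 ^ a := by
    have h1 : Commute (π t) ν := hνc _
    have h2 : π n = (π t)⁻¹ * ν := by rw [hνn]; group
    have h3 : Commute (π t)⁻¹ ν := h1.inv_left
    rw [hg, map_pow, h2, h3.mul_pow, inv_pow, ← map_pow, ha1, map_one, inv_one, one_mul]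
  have hπg1 : π g ≠ 1 := by
    rw [hπg]
    intro h1
    apply hν1
    have h2 : orderOf ν ∣ 2 ^ a := orderOf_dvd_of_pow_eq_one h1
    have h3 : orderOf ν ∣ Nat.card K := by
      have := orderOf_dvd_natCard (⟨ν, hν⟩ : K)
      rwa [orderOf_mk] at this
    have h4 : Odd (orderOf ν) := hKo.of_dvd_nat h3
    have h5 : (2 ^ a).Coprime (orderOf ν) := Nat.Coprime.pow_left a (Nat.coprime_two_left.mpr h4)
    exact orderOf_eq_one_iff.1 (Nat.eq_one_of_dvd_coprimes h5 h2 dvd_rfl)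
  have hπc : ∀ k ∈ zpowers g, ∀ s : H', s * π k = π k * s := by
    intro k hk s
    have h1 : zpowers g ≤ (center H').comap π := by
      rw [zpowers_le, mem_comap, hπg]
      exact (center H').pow_mem (hcen hν) _
    exact mem_center_iff.1 (h1 hk) s
  -- `g` centralises `Y`
  have hgK : ∀ k ∈ zpowers g, k ∈ Km A := by
    have h1 : zpowers g ≤ Km A := by
      rw [zpowers_le]
      exact mem_of_odd h.two h.gen ha2
    exact fun k hk => h1 hk
  have hgY : ∀ w ∈ Y, g • w = w := by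
    refine com_of h.sq h.two ha2 (U := cmm M A) (fun k hk w hw => NY k ?_ w hw) TY
      (fun k hk w _ => mem_cmm (hgK k hk) w) (fun t ht k hk w hw => ?_) (fun w hw tw => cY w hw tw g)
    · have h1 : zpowers g ≤ normalizer (T : Set H) := by
        rw [zpowers_le]
        exact hgN
      exact h1 hk
    · have h1 : (k * t)⁻¹ * (t * k) ∈ π.ker := by
        rw [MonoidHom.mem_ker, map_mul, map_inv, map_mul, map_mul, hπc k hk (π t), inv_mul_cancel]
      have h2 : t * k = (k * t) * ((k * t)⁻¹ * (t * k)) := by group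
      rw [h2, mul_smul _ ((k * t)⁻¹ * (t * k)), hkU _ h1 w hw]
  -- so `π g` fixes the second vector
  have hgu : g • u1 = u1 := (hus g).2 (c.su g ha2 hgY)
  have hfix : π g • f ⟨u1, hu1⟩ = f ⟨u1, hu1⟩ := him hu1 hgu
  have hnor : (zpowers (π g)).Normal := by
    refine ⟨fun k hk s => ?_⟩
    have h1 : k ∈ center H' := by
      have h2 : zpowers (π g) ≤ center H' := by
        rw [zpowers_le, hπg]
        exact (center H').pow_mem (hcen hν) _
      exact h2 hk
    rw [mem_center_iff.1 h1 s, mul_inv_cancel_right]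
    exact hk
  have h1 := fl.bot_of_fix hnor y1' fun k hk => by
    have h2 : zpowers (π g) ≤ MulAction.stabilizer H' (f ⟨u1, hu1⟩) := by
      rw [zpowers_le]
      exact hfix
    exact h2 hk
  exact hπg1 (by
    have h2 := mem_zpowers (π g)
    rw [h1] at h2
    exact mem_bot.1 h2)

end

/-- **The input of THEOREM KL*(q)+** -/
structure InpB {H : Type u} [Group H] {M : Type v} [Group M] [MulDistribMulAction H M] (T A B NJ : Subgroup H)
    (Z Y : Subgroup M) : Prop where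
  sq : ∀ m : M, m * m = 1
  two : IsPGroup 2 T
  syl : ¬ 2 ∣ T.index
  tZ : ∀ z ∈ Z, ∀ t ∈ T, t • z = z
  NY : ∀ g ∈ normalizer (T : Set H), ∀ w ∈ Y, g • w ∈ Y
  /-- the `T`-fixed vectors of `Y` are fixed by `H` -/
  cY : ∀ w ∈ Y, (∀ t ∈ T, t • w = w) → ∀ g : H, g • w = w
  NT : normalizer (T : Set H) ≤ NJ
  CZ : fxr H Z ≤ NJ
  AJ : A ≤ o2 NJ
  /-- a `T`-minimal `P` is contained in `NJ`, or its elements of odd order centralise `Y` -/
  par : ∀ P : Subgroup H, IsMinPar T P → P ≤ NJ ∨ ∀ g ∈ P, Odd (orderOf g) → ∀ w ∈ Y, g • w = w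
  /-- a `T`-minimal `P ≤ NJ` fixes `Z`, or its elements of odd order centralise `Y`, or it normalises the 2-group `B`
  and `[t, B]` centralises `[Y, t]` (`t ∈ P` of odd order) only if `t` centralises `Y` -/
  bad : ∀ P : Subgroup H, IsMinPar T P → P ≤ NJ → (∀ z ∈ Z, ∀ p ∈ P, p • z = z) ∨
    (∀ g ∈ P, Odd (orderOf g) → ∀ w ∈ Y, g • w = w) ∨
    (B ≤ o2 P ∧ ∀ t ∈ P, Odd (orderOf t) →
      (∀ b ∈ B, ∀ w ∈ Y, (t * b * t⁻¹ * b⁻¹) • ((t • w) * w⁻¹) = (t • w) * w⁻¹) → ∀ w ∈ Y, t • w = w)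
  el : ∀ a ∈ A, a * a = 1
  exact : (cv M (A : Set H)).index = Nat.card A
  atom : ∀ C : Subgroup H, C ≤ A → C ≠ ⊥ → C ≠ A → Nat.card C < (cv M (C : Set H)).index
  nT : ¬ A ≤ o2 (⊤ : Subgroup H)
  AY : A ≤ o2 (fxr H Y ⊔ T)
  KH : IsKGroup H

namespace InpB

variable {H : Type u} [Group H] [Finite H] {M : Type v} [Group M] [Finite M] [MulDistribMulAction H M]
  {T A B NJ : Subgroup H} {Z Y : Subgroup M}

omit [Finite M] in
theorem AT (i : InpB T A B NJ Z Y) : A ≤ T :=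
  i.AJ.trans (o2_le_of_sylow i.two fun h2 =>
    i.syl (h2.trans (relIndex_dvd_index_of_le (le_normalizer.trans i.NT))))

/-- **THEOREM KL*(q)+.** -/
theorem exists_sysT (i : InpB T A B NJ Z Y) (hM : MLK.{u, v}) :
    ∃ (H' : Type u) (_ : Group H') (_ : Finite H') (N : Type v) (_ : Group N) (_ : Finite N)
      (_ : MulDistribMulAction H' N) (T' A' : Subgroup H') (x' y' : N), ML.Ex.Two.SysT H' N T' A' x' y' := by
  -- `L` minimal
  obtain ⟨L, ⟨hTL, hAL⟩, hmin⟩ : ∃ L : Subgroup H, (T ≤ L ∧ ¬ A ≤ o2 L) ∧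
      ∀ R : Subgroup H, (T ≤ R ∧ ¬ A ≤ o2 R) → R ≤ L → R = L := by
    have hfin : {L : Subgroup H | T ≤ L ∧ ¬ A ≤ o2 L}.Finite := Set.toFinite _
    obtain ⟨B, hB⟩ := hfin.exists_minimal ⟨⊤, le_top, i.nT⟩
    exact ⟨B, hB.1, fun C hC hCB => le_antisymm hCB (hB.2 hC hCB)⟩
  have hAT := i.AT
  have hAL' : A ≤ L := hAT.trans hTL
  have e1 : ∀ {C : Subgroup H}, C ≤ L → (C.subgroupOf L).map L.subtype = C := fun {C} hC => by
    rw [subgroupOf_map_subtype, inf_eq_left.2 hC]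
  have hcv : ∀ C : Subgroup L, cv M (C : Set L) = cv M ((C.map L.subtype : Subgroup H) : Set H) := by
    intro C
    ext m
    constructor
    · rintro hm _ ⟨c, hc, rfl⟩
      exact hm c hc
    · exact fun hm c hc => hm _ ⟨c, hc, rfl⟩
  have hcard : ∀ C : Subgroup L, Nat.card (C.map L.subtype) = Nat.card C := fun C =>
    card_map_of_injective L.subtype_injective
  have hlb : LB L M (T.subgroupOf L) (A.subgroupOf L) := by
    refine ⟨i.sq, i.two.comap_subtype, fun h2 => ?_, fun x hx => hAT hx, fun b hb => Subtype.ext (i.el b hb), ?_, ?_, ?_, ?_,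
      sec_KG.sub H i.KH L⟩
    · exact i.syl (h2.trans (relIndex_dvd_index_of_le hTL))
    · rw [hcv, e1 hAL', i.exact, ← hcard, e1 hAL']
    · intro C hC hC1 hCF
      rw [hcv, ← hcard]
      refine i.atom _ ?_ ?_ ?_
      · rintro _ ⟨c, hc, rfl⟩
        exact hC hc
      · intro h1
        exact hC1 ((Subgroup.map_eq_bot_iff_of_injective _ L.subtype_injective).1 h1)
      · intro h1
        apply hCF
        rw [← h1]
        exact (comap_map_eq_self_of_injective L.subtype_injective C).symm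
    · intro R hTR hR
      have h1 : R.map L.subtype ≠ L := by
        intro h2
        apply hR
        rw [eq_top_iff]
        intro r _
        have h3 : (r : H) ∈ R.map L.subtype := by
          rw [h2]
          exact r.2
        obtain ⟨s, hs, hsr⟩ := h3
        rwa [← (Subtype.ext hsr : s = r)]
      have h2 : T ≤ R.map L.subtype := fun t ht => ⟨⟨t, hTL ht⟩, hTR ht, rfl⟩
      have h3 : A ≤ o2 (R.map L.subtype) := by
        by_contra hc
        exact h1 (hmin _ ⟨h2, hc⟩ (map_subtype_le R))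
      exact fun x hx => KL.GenTool.o2_subgroupOf_le R (h3 hx)
    · intro hc
      apply hAL
      have h1 := (map_mono (f := L.subtype) hc).trans (KL.GenTool.o2_map_le L.subtype ⊤)
      rw [e1 hAL', ← MonoidHom.range_eq_map, L.range_subtype] at h1
      exact h1
  -- normalizers of `T`
  have hNN : ∀ g : L, g ∈ normalizer ((T.subgroupOf L : Subgroup L) : Set L) → (g : H) ∈ normalizer (T : Set H) := by
    intro g hg
    rw [mem_normalizer_iff] at hg ⊢
    intro t
    constructor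
    · intro ht
      exact (hg ⟨t, hTL ht⟩).1 ht
    · intro ht
      have h1 : t ∈ L := by
        have h2 := L.mul_mem (L.mul_mem (L.inv_mem g.2) (hTL ht)) g.2
        have e : (g : H)⁻¹ * (g * t * (g : H)⁻¹) * g = t := by group
        rwa [e] at h2
      exact (hg ⟨t, h1⟩).2 ht
  -- `L ≰ NJ`
  have hLJ : ¬ L ≤ NJ := fun h1 => hAL ((le_inf i.AJ hAL').trans (InpG.o2_le_o2_of_le h1))
  -- a `T`-minimal subgroup of `L` outside `NJ`
  obtain ⟨P, hPm, hPJ⟩ : ∃ P : Subgroup L, IsMinPar (T.subgroupOf L) P ∧ ¬ P.map L.subtype ≤ NJ := by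
    by_contra hc
    push Not at hc
    apply hLJ
    have h1 : (⊤ : Subgroup L) ≤ NJ.subgroupOf L := by
      refine le_of_forall (S := T.subgroupOf L) le_top (fun g hg => ?_) fun P hP _ p hp => ?_
      · rw [mem_subgroupOf]
        exact i.NT (hNN g hg.2)
      · rw [mem_subgroupOf]
        exact hc P hP ⟨p, hp, rfl⟩
    exact fun g hg => h1 (mem_top (⟨g, hg⟩ : L))
  have hPm' := KL.GenTool.minPar_map_subtype hTL hPm
  have hPg : ∀ g ∈ P, Odd (orderOf g) → ∀ w ∈ Y, g • w = w := by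
    intro g hg hgo w hw
    refine (i.par _ hPm').resolve_left hPJ _ ⟨g, hg, rfl⟩ ?_ w hw
    rwa [Subgroup.coe_subtype, orderOf_coe]
  obtain ⟨x, hxZ, p, hp, hpx⟩ : ∃ z ∈ Z, ∃ p ∈ P, p • z ≠ z := by
    by_contra hc
    push Not at hc
    refine hPJ (le_trans ?_ i.CZ)
    rintro _ ⟨q, hq, rfl⟩ z hz
    exact hc z hz q hq
  have htx : ∀ t ∈ T.subgroupOf L, t • x = x := fun t ht => i.tZ x hxZ _ ht
  -- `L ≠ C_L(Y) T`
  have hY : ¬ ∀ g : L, Odd (orderOf g) → ∀ w ∈ Y, g • w = w := by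
    intro hc
    apply hAL
    have h1 : oddGen L ⊔ T = L := oddGen_sup hTL fun h2 => i.syl (h2.trans (relIndex_dvd_index_of_le hTL))
    have h2 : L ≤ fxr H Y ⊔ T := by
      rw [← h1]
      refine sup_le_sup_right ?_ T
      rw [oddGen_def, closure_le]
      rintro g ⟨hgL, hgo⟩ w hw
      exact hc ⟨g, hgL⟩ (by rwa [orderOf_mk]) w hw
    exact (le_inf i.AY hAL').trans (InpG.o2_le_o2_of_le h2)
  -- `L` is not `T`-minimal
  have nm : ¬ IsMinPar (T.subgroupOf L) (⊤ : Subgroup L) := by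
    intro hc
    have h1 := KL.GenTool.minPar_map_subtype hTL hc
    rw [← MonoidHom.range_eq_map, L.range_subtype] at h1
    rcases i.par _ h1 with h2 | h2
    · exact hLJ h2
    · exact hY fun g hgo w hw => h2 _ g.2 (by rwa [orderOf_coe]) w hw
  refine exists_of_coreB hlb hM htx (Y := Y) (fun g hg w hw => i.NY g (hNN g hg) w hw)
    (fun w hw tw g => i.cY w hw (fun t ht => tw ⟨t, hTL ht⟩ ht) g) hY nm ⟨P, hPm, ⟨p, hp, hpx⟩, hPg⟩
    (B := B.subgroupOf L) fun R hR => ?_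
  have hR' := KL.GenTool.minPar_map_subtype hTL hR
  have hgd : (∀ g ∈ R.map L.subtype, Odd (orderOf g) → ∀ w ∈ Y, g • w = w) →
      ∀ g ∈ R, Odd (orderOf g) → ∀ w ∈ Y, g • w = w := by
    intro h2 g hg hgo w hw
    refine h2 _ ⟨g, hg, rfl⟩ ?_ w hw
    rwa [Subgroup.coe_subtype, orderOf_coe]
  rcases i.par _ hR' with h1 | h1
  · rcases i.bad _ hR' h1 with h2 | h2 | ⟨h2, h3⟩
    · exact Or.inl fun q hq => h2 x hxZ _ ⟨q, hq, rfl⟩
    · exact Or.inr (Or.inl (hgd h2))
    · refine Or.inr (Or.inr ⟨fun b hb => KL.GenTool.o2_subgroupOf_le R (h2 hb), fun t ht hto hc => ?_⟩)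
      refine h3 _ ⟨t, ht, rfl⟩ (by simpa only [orderOf_coe, Subgroup.coe_subtype] using hto) fun b hb w hw => ?_
      obtain ⟨b', -, hb'⟩ := o2_le _ (h2 hb)
      subst hb'
      exact hc b' hb w hw
  · exact Or.inr (Or.inl (hgd h1))

/-- **THEOREM KL*(q)+**, with EXT -/
theorem false_of (hM : MLK.{u, v}) (hE : ML.Ex.Two.Ext.{u, v}) (i : InpB T A B NJ Z Y) : False := by
  obtain ⟨H', i1, i2, N, i3, i4, i5, T', A', x', y', h⟩ := i.exists_sysT hM
  exact hE H' N T' A' x' y' h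

end InpB

end Cfsg.Agent.Omega.KL.StarQ

end

section


/-!
# LEMMA ZC+ (bb #24701): the odd core with bad parabolics which normalise `Y`

`LB H M T A`, `x` a `T`-fixed vector, `Y` invariant under `N_H(T)` with `C_Y(T)` fixed by `H`.  Every `T`-minimal `P`
fixes `x`, or its elements of odd order centralise `Y`, or `A ≤ O₂(P)` and `P` normalises `Y`; some `T`-minimal `P`
moves `x` and its elements of odd order centralise `Y`.

* `not_top` : `K T ≠ H` for a normal subgroup `K` of odd order;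
* `LB.exists_sysT₀` : `Out` and (if `O(H') = 1`) `SysT`;
* **`exists_of_coreN`** : `SysT`, with `O(H') = 1`.
-/

set_option autoImplicit false

namespace Cfsg.Agent.Omega.KL.StarQ

open Subgroup Cfsg Cfsg.Agent.ZN Cfsg.Agent.ClassTwoFusion.Quad
open Cfsg.Agent.Omega.ML.MinFrame hiding comm_of_sq
open Cfsg.Agent.Omega.ML.Final Cfsg.Agent.Omega.NO3S.EMany.Low
open Cfsg.Agent.Omega.KL.Star.Core
open Cfsg.Agent.MinSimple.VModule (o2_isPGroup o2_le le_o2 le_normalizer_o2 o2_le_of_sylow oddGen oddGen_le oddGen_def)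
open Cfsg.Agent.MinSimple.MinParabolic (IsMinPar le_of_forall)

universe u v

section one

variable {H : Type u} [Group H] [Finite H] {M : Type v} [Group M] [Finite M] [MulDistribMulAction H M]
  {T A : Subgroup H}

omit [Finite H] [Finite M] in
/-- `K T ≠ H` for a normal subgroup `K` of odd order -/
theorem not_top (h : LB H M T A)
    (nmax : ¬ ∃ L : Subgroup H, L ≠ ⊤ ∧ ∀ R : Subgroup H, T ≤ R → R ≠ ⊤ → R ≤ L)
    {N : Subgroup H} (hN : N.Normal) (hNo : Odd (Nat.card N)) : N ⊔ T ≠ ⊤ := by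
  intro hNT
  let D : Subgroup H := N ⊓ centralizer {z : H | ∃ t ∈ T, ∃ a ∈ A, z = t * a * t⁻¹}
  have hDT : ∀ s ∈ T, ∀ d ∈ D, s * d * s⁻¹ ∈ D := by
    intro s hs d hd
    refine ⟨hN.conj_mem d hd.1 s, mem_centralizer_iff.2 ?_⟩
    rintro _ ⟨t, ht, a, ha, rfl⟩
    have h1 := mem_centralizer_iff.1 hd.2 _ ⟨s⁻¹ * t, mul_mem (inv_mem hs) ht, a, ha, rfl⟩
    have h2 := congrArg (fun w => s * w * s⁻¹) h1
    simp only [mul_inv_rev, inv_inv] at h2
    calc t * a * t⁻¹ * (s * d * s⁻¹) = s * (s⁻¹ * t * a * (t⁻¹ * s) * d) * s⁻¹ := by group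
      _ = s * (d * (s⁻¹ * t * a * (t⁻¹ * s))) * s⁻¹ := h2
      _ = s * d * s⁻¹ * (t * a * t⁻¹) := by group
  have hDn : T ≤ normalizer (D : Set H) := by
    intro s hs
    rw [mem_normalizer_iff]
    intro z
    refine ⟨fun hz => hDT s hs z hz, fun hz => ?_⟩
    have h1 := hDT s⁻¹ (inv_mem hs) _ hz
    have h2 : s⁻¹ * (s * z * s⁻¹) * s⁻¹⁻¹ = z := by group
    rwa [h2] at h1
  refine nmax ⟨D ⊔ T, ?_, ?_⟩
  · intro htop
    have hcen : ∀ n ∈ N, ∀ t ∈ T, ∀ a ∈ A, t * a * t⁻¹ * n = n * (t * a * t⁻¹) := by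
      intro e he t' ht' a ha
      have h2 : e ∈ ((D ⊔ T : Subgroup H) : Set H) := htop ▸ mem_top e
      rw [coe_mul_of_right_le_normalizer_left D T hDn] at h2
      obtain ⟨d, hd, t, ht, rfl⟩ := h2
      have h3 : t ∈ N := by
        have := N.mul_mem (N.inv_mem hd.1) he
        simpa using this
      have h4 : t = 1 := eq_one_of_odd hNo h.two h3 ht
      rw [h4]
      simp only [mul_one]
      exact mem_centralizer_iff.1 hd.2 _ ⟨t', ht', a, ha, rfl⟩
    let K1 : Subgroup H := closure {z : H | ∃ t ∈ T, ∃ a ∈ A, z = t * a * t⁻¹}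
    have hK1T : K1 ≤ T := by
      rw [closure_le]
      rintro _ ⟨t, ht, a, ha, rfl⟩
      exact T.mul_mem (T.mul_mem ht (h.BT ha)) (T.inv_mem ht)
    have hK1 : K1 ≤ o2 (⊤ : Subgroup H) := by
      refine le_o2 le_top (h.two.to_le hK1T) ?_
      rw [← hNT]
      refine sup_le ?_ ?_
      · intro n hn
        have h1 : n ∈ centralizer (K1 : Set H) := by
          rw [centralizer_closure, mem_centralizer_iff]
          rintro _ ⟨t, ht, a, ha, rfl⟩
          exact hcen n hn t ht a ha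
        exact centralizer_le_normalizer _ h1
      · have hconj : ∀ s ∈ T, ∀ k ∈ K1, s * k * s⁻¹ ∈ K1 := by
          intro s hs k hk
          have h1 : K1 ≤ K1.comap (MulAut.conj s).toMonoidHom := by
            rw [closure_le]
            rintro _ ⟨t, ht, a, ha, rfl⟩
            refine subset_closure ⟨s * t, T.mul_mem hs ht, a, ha, ?_⟩
            change s * (t * a * t⁻¹) * s⁻¹ = _
            group
          exact h1 hk
        intro s hs
        rw [mem_normalizer_iff]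
        intro z
        refine ⟨fun hz => hconj s hs z hz, fun hz => ?_⟩
        have h1 := hconj s⁻¹ (inv_mem hs) _ hz
        have h2 : s⁻¹ * (s * z * s⁻¹) * s⁻¹⁻¹ = z := by group
        rwa [h2] at h1
    exact h.nb fun a ha => hK1 (subset_closure ⟨1, one_mem T, a, ha, by group⟩)
  · intro R hTR hR
    have h1 : R ⊓ N ⊔ T = R := by
      apply le_antisymm (sup_le inf_le_left hTR)
      intro r hr
      have h1 : r ∈ N ⊔ T := hNT ▸ mem_top r
      rw [mem_sup_of_normal_left] at h1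
      obtain ⟨n, hn, s, hs, rfl⟩ := h1
      refine mul_mem_sup ⟨?_, hn⟩ hs
      have := R.mul_mem hr (R.inv_mem (hTR hs))
      rwa [mul_inv_cancel_right] at this
    rw [← h1]
    refine sup_le_sup_right ?_ T
    intro e he
    refine ⟨he.2, mem_centralizer_iff.2 ?_⟩
    rintro _ ⟨t, ht, a, ha, rfl⟩
    have h3 : t * a * t⁻¹ ∈ o2 R := (mem_normalizer_iff.1 (le_normalizer_o2 R (hTR ht)) a).1 (h.low R hTR hR ha)
    exact (comm_odd hN hNo he.2 he.1 h3).symm

omit [Finite M] in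
/-- `⟨A^H⟩` centralises a normal subgroup of odd order -/
theorem Km_le_centralizer (h : LB H M T A)
    (nmax : ¬ ∃ L : Subgroup H, L ≠ ⊤ ∧ ∀ R : Subgroup H, T ≤ R → R ≠ ⊤ → R ≤ L)
    {N : Subgroup H} (hN : N.Normal) (hNo : Odd (Nat.card N)) : Km A ≤ centralizer (N : Set H) :=
  Km_le inferInstance fun _ ha => mem_centralizer_iff.2 fun _ hn =>
    comm_odd hN hNo hn (mem_sup_left hn) (h.low _ le_sup_right (not_top h nmax hN hNo) ha)

omit [Finite M] in
/-- for `P ≤ N T` the subgroup `P ∩ N` is normal, and `P = (P ∩ N) T` -/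
theorem inf_normal (h : LB H M T A)
    (nmax : ¬ ∃ L : Subgroup H, L ≠ ⊤ ∧ ∀ R : Subgroup H, T ≤ R → R ≠ ⊤ → R ≤ L)
    {N P : Subgroup H} (hN : N.Normal) (hNo : Odd (Nat.card N)) (hTP : T ≤ P) (hP : P ≤ N ⊔ T) :
    (P ⊓ N).Normal ∧ P ⊓ N ⊔ T = P := by
  have hAN := Km_le_centralizer h nmax hN hNo
  constructor
  · rw [← normalizer_eq_top_iff, eq_top_iff, ← h.gen]
    refine sup_le ?_ ?_
    · intro k hk
      have h1 : k ∈ centralizer ((P ⊓ N : Subgroup H) : Set H) := by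
        rw [mem_centralizer_iff]
        intro z hz
        exact mem_centralizer_iff.1 (hAN hk) z hz.2
      exact centralizer_le_normalizer _ h1
    · intro t ht
      rw [mem_normalizer_iff]
      intro z
      constructor
      · rintro ⟨hz1, hz2⟩
        exact ⟨P.mul_mem (P.mul_mem (hTP ht) hz1) (P.inv_mem (hTP ht)), hN.conj_mem z hz2 t⟩
      · rintro ⟨hz1, hz2⟩
        have h7 : t⁻¹ * (t * z * t⁻¹) * t⁻¹⁻¹ = z := by group
        refine ⟨?_, ?_⟩
        · rw [← h7]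
          exact P.mul_mem (P.mul_mem (P.inv_mem (hTP ht)) hz1) (P.inv_mem (P.inv_mem (hTP ht)))
        · rw [← h7]
          exact hN.conj_mem _ hz2 t⁻¹
  · apply le_antisymm (sup_le inf_le_left hTP)
    intro r hr
    have h1 : r ∈ N ⊔ T := hP hr
    rw [mem_sup_of_normal_left] at h1
    obtain ⟨n, hn, s, hs, rfl⟩ := h1
    refine mul_mem_sup ⟨?_, hn⟩ hs
    have := P.mul_mem hr (P.inv_mem (hTP hs))
    rwa [mul_inv_cancel_right] at this

omit [Finite H] [Finite M] in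
/-- `H` faithful and irreducible: a normal subgroup which fixes a vector is trivial -/
theorem bot_of_fix (faith : ∀ h : H, (∀ m : M, h • m = m) → h = 1)
    (irr : ∀ W : Subgroup M, (∀ h : H, ∀ w ∈ W, h • w ∈ W) → W = ⊥ ∨ W = ⊤) {N : Subgroup H} (hN : N.Normal)
    {m : M} (hm : m ≠ 1) (hf : ∀ n ∈ N, n • m = m) : N = ⊥ := by
  have h1 : cv M (N : Set H) = ⊤ := by
    refine (irr _ ?_).resolve_left ?_
    · intro g w hw n hn
      have h2 := hw (g⁻¹ * n * g) (by simpa using hN.conj_mem n hn g⁻¹)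
      rwa [mul_smul, mul_smul, inv_smul_eq_iff] at h2
    · intro h2
      have h3 : m ∈ cv M (N : Set H) := fun n hn => hf n hn
      rw [h2, mem_bot] at h3
      exact hm h3
  rw [eq_bot_iff]
  intro n hn
  exact mem_bot.2 (faith n fun w => (h1 ▸ mem_top w : w ∈ cv M (N : Set H)) n hn)

end one

section two

variable {H : Type u} [Group H] [Finite H] {M : Type v} [Group M] [Finite M] [MulDistribMulAction H M]
  {T B : Subgroup H}

/-- **`SysT` from `LB`** and two vectors of `U¹ = [M, ⟨B^H⟩]`; a `T`-minimal `P` fixes a vector moved by `H`, or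
`B ≤ O₂(P)` -/
theorem exists_sysT₀ (h : LB H M T B) (hM : MLK.{u, v}) {x y : M} (tx : ∀ t ∈ T, t • x = x)
    (ty : ∀ t ∈ T, t • y = y) (hxU : x ∈ cmm M B) (hyU : y ∈ cmm M B) (hy : ¬ ∀ g : H, g • y = y)
    (mov : ∃ R : Subgroup H, T ≤ R ∧ (∃ p ∈ R, p • x ≠ x) ∧ ∀ p ∈ R, p • y = y)
    (nP : ∀ P : Subgroup H, IsMinPar T P → B ≤ o2 P ∨
      ∃ m ∈ cmm M B, (¬ ∀ g : H, g • m = m) ∧ ∀ p ∈ P, p • m = m) :
    ∃ (H' : Type u) (_ : Group H') (_ : Finite H') (N : Type v) (_ : Group N) (_ : Finite N)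
      (_ : MulDistribMulAction H' N) (π : H →* H') (f : ↥(cmm M B) →* N) (A' : Subgroup H'),
      Out H M T B H' N π f A' ∧
      (¬ ∃ L : Subgroup H', L ≠ ⊤ ∧ ∀ R : Subgroup H', T.map π ≤ R → R ≠ ⊤ → R ≤ L) ∧
      f ⟨x, hxU⟩ ≠ 1 ∧ f ⟨y, hyU⟩ ≠ 1 ∧
      ((∀ K : Subgroup H', K.Normal → Odd (Nat.card K) → K = ⊥) →
        ML.Ex.Two.SysT H' N (T.map π) A' (f ⟨x, hxU⟩) (f ⟨y, hyU⟩)) := by
  have hx : ¬ ∀ g : H, g • x = x := by
    obtain ⟨P, -, ⟨p, -, hp⟩, -⟩ := mov
    exact fun hc => hp (hc p)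
  obtain ⟨H', _, _, N, _, _, _, π, f, A', o⟩ := h.exists_out hM tx hx hxU
  refine ⟨H', inferInstance, inferInstance, N, inferInstance, inferInstance, inferInstance, π, f, A', o, ?_⟩
  -- images of vectors
  have him : ∀ {m : M} (hm : m ∈ cmm M B) {g : H}, g • m = m → π g • f ⟨m, hm⟩ = f ⟨m, hm⟩ := by
    intro m hm g hg
    rw [← o.eqv g ⟨m, hm⟩]
    exact congrArg f (Subtype.ext hg)
  have hne : ∀ {m : M} (hm : m ∈ cmm M B), (∀ t ∈ T, t • m = m) → (¬ ∀ g : H, g • m = m) → f ⟨m, hm⟩ ≠ 1 := by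
    intro m hm tm hc h1
    exact hc fun g => h.fix_of_cvKm tm ((o.ker _).1 h1) g
  have hback : ∀ {m : M} (hm : m ∈ cmm M B), (∀ t ∈ T, t • m = m) → ∀ R : Subgroup H, T ≤ R →
      (∀ g ∈ R, π g • f ⟨m, hm⟩ = f ⟨m, hm⟩) → ∀ g ∈ R, g • m = m := by
    intro m hm tm R hTR hR
    refine h.fix_of_mod tm hTR (I := cv M (Km B : Set H)) (fun w hw tw g _ => h.fix_of_cvKm tw hw g) fun g hg => ?_
    have h1 := hR g hg
    rw [← o.eqv g ⟨m, hm⟩, ← mul_inv_eq_one, ← map_inv, ← map_mul, o.ker] at h1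
    exact h1
  have x1 := hne hxU tx hx
  have y1 := hne hyU ty hy
  have htx : ∀ t ∈ T.map π, t • f ⟨x, hxU⟩ = f ⟨x, hxU⟩ := by
    rintro _ ⟨t, ht, rfl⟩
    exact him hxU (tx t ht)
  have hty : ∀ t ∈ T.map π, t • f ⟨y, hyU⟩ = f ⟨y, hyU⟩ := by
    rintro _ ⟨t, ht, rfl⟩
    exact him hyU (ty t ht)
  obtain ⟨R, hTR, ⟨p, hp, hpx⟩, hRy⟩ := mov
  have hRx : ∃ p ∈ R.map π, p • f ⟨x, hxU⟩ ≠ f ⟨x, hxU⟩ := by
    by_contra hc
    push Not at hc
    exact hpx (hback hxU tx R hTR (fun g hg => hc _ ⟨g, hg, rfl⟩) p hp)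
  have hRy' : ∀ p ∈ R.map π, p • f ⟨y, hyU⟩ = f ⟨y, hyU⟩ := by
    rintro _ ⟨q, hq, rfl⟩
    exact him hyU (hRy q hq)
  have hxy : f ⟨x, hxU⟩ ≠ f ⟨y, hyU⟩ := by
    intro he
    obtain ⟨q, hq, hqx⟩ := hRx
    rw [he] at hqx
    exact hqx (hRy' q hq)
  -- no vector is fixed by `H'`
  have hnofix : ∀ m : N, m ≠ 1 → ¬ ∀ g : H', g • m = m := by
    intro m hm hc
    have h1 : (⊤ : Subgroup H') = ⊥ := bot_of_fix o.faith o.irr inferInstance hm fun g _ => hc g
    apply o.lb.B1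
    rw [eq_bot_iff, ← h1]
    exact le_top
  have nmax : ¬ ∃ L : Subgroup H', L ≠ ⊤ ∧ ∀ R : Subgroup H', T.map π ≤ R → R ≠ ⊤ → R ≤ L := by
    rintro ⟨L, hL, hLm⟩
    by_cases hn : (⊤ : Subgroup H') ≤ normalizer ((T.map π : Subgroup H') : Set H')
    · exact o.lb.nb (o.lb.BT.trans (le_o2 le_top o.lb.two hn))
    · obtain ⟨P, hP, hPt⟩ := KL.GenTool.exists_minPar_map π o.πs
        (P' := ⊤) ⟨le_top, hn, L, lt_top_iff_ne_top.2 hL, fun K hK hlt => hLm K hK hlt.ne⟩
      rcases nP P hP with h1 | ⟨m, hm, hmm, hPm⟩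
      · apply o.lb.nb
        have h2 := (map_mono (f := π) h1).trans (KL.GenTool.o2_map_le π P)
        rw [hPt] at h2
        exact o.AB.trans h2
      · refine hnofix (f ⟨m, hm⟩) (hne hm (fun t ht => hPm t (hP.le ht)) hmm) fun g => ?_
        obtain ⟨q, hq, rfl⟩ : g ∈ P.map π := hPt ▸ mem_top g
        exact him hm (hPm q hq)
  refine ⟨nmax, x1, y1, fun hodd => ?_⟩
  exact
    { x1 := x1
      y1 := y1
      tx := htx
      ty := hty
      mv := ⟨R.map π, map_mono hTR, hRy', hRx⟩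
      sq := o.lb.sq
      faith := o.faith
      irr := o.irr
      two := o.lb.two
      syl := o.lb.syl
      AT := o.lb.BT
      el := o.lb.el
      four := four_le o.lb.sq o.faith o.irr o.lb htx hty x1 y1 hxy
      exact := o.lb.exact
      atom := o.lb.atom
      low := o.lb.low
      nmax := nmax
      odd := hodd
      KH := o.lb.KH }

end two

end Cfsg.Agent.Omega.KL.StarQ

end

section


/-!
# LEMMA ZC+ (bb #24701): the end over `LB` with bad parabolics which normalise `Y`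

* `norm_one` : `w ∈ [Y ∩ U, D]` fixed by `D` is trivial, `D` acting on `U` as a group of odd order;
* **`exists_of_coreN`** : `SysT`, with `O(H') = 1`.
-/

set_option autoImplicit false

namespace Cfsg.Agent.Omega.KL.StarQ

open Subgroup Cfsg Cfsg.Agent.ZN Cfsg.Agent.ClassTwoFusion.Quad
open Cfsg.Agent.Omega.ML.MinFrame hiding comm_of_sq
open Cfsg.Agent.Omega.ML.Final Cfsg.Agent.Omega.NO3S.EMany.Low
open Cfsg.Agent.Omega.KL.Star.Core
open Cfsg.Agent.MinSimple.VModule (o2_isPGroup o2_le le_o2 le_normalizer_o2 o2_le_of_sylow oddGen oddGen_le oddGen_def)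
open Cfsg.Agent.MinSimple.MinParabolic (IsMinPar le_of_forall)

universe u v w

/-- `D` acts on `U` through `π`, with `π(D)` of odd order: a vector of `[U, D]` fixed by `D` is trivial -/
theorem norm_one {H : Type u} [Group H] {H' : Type w} [Group H'] [Finite H'] {M : Type v} [Group M]
    [MulDistribMulAction H M] (sq : ∀ m : M, m * m = 1) (π : H →* H') {D : Subgroup H} {U : Subgroup M}
    (hU : ∀ k ∈ π.ker, ∀ m ∈ U, k • m = m)
    (hodd : Odd (Nat.card (D.map π))) {E : Set M} (hE : ∀ m ∈ E, m ∈ U) {m : M}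
    (hm : m ∈ closure {w : M | ∃ g ∈ D, ∃ y ∈ E, w = (g • y) * y⁻¹}) (hf : ∀ g ∈ D, g • m = m) : m = 1 := by
  classical
  let _ : CommGroup M := { (inferInstance : Group M) with mul_comm := comm_of_sq sq }
  have : Fintype (D.map π) := Fintype.ofFinite _
  choose s hsD hsπ using fun κ : D.map π => κ.2
  -- the norm
  let ν : M →* M :=
    { toFun := fun m => ∏ κ : D.map π, s κ • m
      map_one' := by simp
      map_mul' := fun a b => by
        simp only [smul_mul']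
        exact Finset.prod_mul_distrib }
  have hν : ∀ g ∈ D, ∀ m ∈ U, ν (g • m) = ν m := by
    intro g hg m hm
    change ∏ κ : D.map π, s κ • (g • m) = ∏ κ : D.map π, s κ • m
    refine Fintype.prod_equiv (Equiv.mulRight (⟨π g, g, hg, rfl⟩ : D.map π)) _ _ fun κ => ?_
    have h1 : (s (κ * ⟨π g, g, hg, rfl⟩))⁻¹ * (s κ * g) ∈ π.ker := by
      rw [MonoidHom.mem_ker, map_mul, map_inv, map_mul, hsπ, hsπ]
      change (((κ : H') * π g)⁻¹ * ((κ : H') * π g)) = 1
      exact inv_mul_cancel _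
    have h2 := hU _ h1 m hm
    rw [mul_smul, inv_smul_eq_iff, mul_smul] at h2
    exact h2
  have h1 : ν m = 1 := by
    have h2 : closure {w : M | ∃ g ∈ D, ∃ y ∈ E, w = (g • y) * y⁻¹} ≤ ν.ker := by
      rw [closure_le]
      rintro _ ⟨k, hk, y, hy, rfl⟩
      change ν (k • y * y⁻¹) = 1
      rw [map_mul, map_inv, hν k hk y (hE y hy), mul_inv_cancel]
    exact h2 hm
  have h5 : ν m = m ^ Nat.card (D.map π) := by
    have h6 : ∀ κ : D.map π, s κ • m = m := fun κ => hf _ (hsD κ)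
    change ∏ κ : D.map π, s κ • m = _
    simp only [h6]
    rw [Finset.prod_const, Finset.card_univ, Nat.card_eq_fintype_card]
  rw [h1] at h5
  obtain ⟨k, hk⟩ := hodd
  rw [hk, pow_succ, pow_mul, pow_two, sq, one_pow, one_mul] at h5
  exact h5.symm

section

variable {H : Type u} [Group H] [Finite H] {M : Type v} [Group M] [Finite M] [MulDistribMulAction H M]
  {T A : Subgroup H}

/-- **LEMMA ZC+: the end over `LB`** -/
theorem exists_of_coreN (h : LB H M T A) (hM : MLK.{u, v}) {x : M} (tx : ∀ t ∈ T, t • x = x)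
    {Y : Subgroup M} (NY : ∀ g ∈ normalizer (T : Set H), ∀ w ∈ Y, g • w ∈ Y)
    (cY : ∀ w ∈ Y, (∀ t ∈ T, t • w = w) → ∀ g : H, g • w = w)
    (hY : ¬ ∀ g : H, Odd (orderOf g) → ∀ w ∈ Y, g • w = w)
    (par : ∀ P : Subgroup H, IsMinPar T P → (∀ p ∈ P, p • x = x) ∨
      (∀ g ∈ P, Odd (orderOf g) → ∀ w ∈ Y, g • w = w) ∨ (A ≤ o2 P ∧ ∀ p ∈ P, ∀ w ∈ Y, p • w ∈ Y))
    (mv : ∃ P : Subgroup H, T ≤ P ∧ (∃ p ∈ P, p • x ≠ x) ∧ ∀ g ∈ P, Odd (orderOf g) → ∀ w ∈ Y, g • w = w) :
    ∃ (H' : Type u) (_ : Group H') (_ : Finite H') (N : Type v) (_ : Group N) (_ : Finite N)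
      (_ : MulDistribMulAction H' N) (T' A' : Subgroup H') (x' y' : N), ML.Ex.Two.SysT H' N T' A' x' y' := by
  have hx : ¬ ∀ g : H, g • x = x := by
    obtain ⟨P, -, ⟨p, -, hp⟩, -⟩ := mv
    exact fun hc => hp (hc p)
  have TY : ∀ t ∈ T, ∀ w ∈ Y, t • w ∈ Y := fun t ht => NY t (le_normalizer ht)
  obtain ⟨N, i1, i2, i3, A', x', u', c⟩ := core h hM tx hx TY hY
  -- a good `P` fixes `u'`
  have hgood : ∀ P : Subgroup H, T ≤ P → (∀ g ∈ P, Odd (orderOf g) → ∀ w ∈ Y, g • w = w) → ∀ p ∈ P, p • u' = u' := by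
    intro P hTP h2
    have h3 : oddGen P ⊔ T = P := oddGen_sup hTP
      fun h2 => h.syl (h2.trans (relIndex_dvd_index_of_le hTP))
    have h4 : P ≤ MulAction.stabilizer H u' := by
      rw [← h3]
      refine sup_le ?_ fun t ht => c.tu t ht
      rw [oddGen_def, closure_le]
      rintro g ⟨hgP, hgo⟩
      exact c.su g hgo fun w hw => h2 g hgP hgo w hw
    exact fun p hp => h4 hp
  obtain ⟨P₀, hTP₀, ⟨p, hp, hpx⟩, hP₀⟩ := mv
  have hPx' : ∃ p ∈ P₀, p • x' ≠ x' := by
    by_contra hc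
    push Not at hc
    exact hpx ((c.sx P₀ hTP₀).1 hc p hp)
  have hPu : ∀ p ∈ P₀, p • u' = u' := hgood P₀ hTP₀ hP₀
  -- shift
  obtain ⟨x1, hx1, hxs⟩ := c.lb.shift c.tx
  obtain ⟨u1, hu1, hus⟩ := c.lb.shift c.tu
  have tx1 : ∀ t ∈ T, t • x1 = x1 := fun t ht => (hxs t).2 (c.tx t ht)
  have tu1 : ∀ t ∈ T, t • u1 = u1 := fun t ht => (hus t).2 (c.tu t ht)
  have mx1 : ¬ ∀ g : H, g • x1 = x1 := fun hc => c.mx fun g => (hxs g).1 (hc g)
  have mu1 : ¬ ∀ g : H, g • u1 = u1 := fun hc => c.mu fun g => (hus g).1 (hc g)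
  obtain ⟨H', j1, j2, N', j3, j4, j5, π, f, B, o, nmax, nx1, nu1, hs⟩ := exists_sysT₀ c.lb hM tx1 tu1 hx1 hu1 mu1
    (by
      obtain ⟨q, hq, hqx⟩ := hPx'
      exact ⟨P₀, hTP₀, ⟨q, hq, fun hc => hqx ((hxs q).1 hc)⟩, fun q hq => (hus q).2 (hPu q hq)⟩)
    (fun P hP' => by
      rcases par P hP' with h1 | h1 | h1
      · exact Or.inr ⟨x1, hx1, mx1, fun q hq => (hxs q).2 ((c.sx P hP'.le).2 h1 q hq)⟩
      · exact Or.inr ⟨u1, hu1, mu1, fun q hq => (hus q).2 (hgood P hP'.le h1 q hq)⟩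
      · exact Or.inl (c.le.trans h1.1))
  refine ⟨H', j1, j2, N', j3, j4, j5, _, B, _, _, hs fun K hK hKo => ?_⟩
  -- images of vectors
  have him : ∀ {m : N} (hm : m ∈ cmm N A') {g : H}, g • m = m → π g • f ⟨m, hm⟩ = f ⟨m, hm⟩ := by
    intro m hm g hg
    rw [← o.eqv g ⟨m, hm⟩]
    exact congrArg f (Subtype.ext hg)
  -- the kernel of `π` centralises `U¹`
  have hkx' : ∀ k ∈ π.ker ⊔ T, k • x1 = x1 := by
    refine c.lb.fix_of_mod tx1 le_sup_right (I := cv N (Km A' : Set H))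
      (fun w hw tw g _ => c.lb.fix_of_cvKm tw hw g) fun k hk => ?_
    have h1 : π k • f ⟨x1, hx1⟩ = f ⟨x1, hx1⟩ := by
      obtain ⟨k1, hk1, s, hs', rfl⟩ := mem_sup_of_normal_left.1 hk
      rw [map_mul, (MonoidHom.mem_ker).1 hk1, one_mul]
      exact him hx1 (tx1 s hs')
    rw [← o.eqv k ⟨x1, hx1⟩, ← mul_inv_eq_one, ← map_inv, ← map_mul, o.ker] at h1
    exact h1
  have hkx : ∀ k ∈ π.ker, k • x = x := by
    have h1 : ∀ k ∈ π.ker ⊔ T, k • x' = x' := fun k hk => (hxs k).1 (hkx' k hk)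
    exact fun k hk => (c.sx _ le_sup_right).1 h1 k (mem_sup_left hk)
  have hkU : ∀ k ∈ π.ker, ∀ w ∈ cmm M A, k • w = w := by
    intro k hk w hw
    have h1 : k ∈ fxr H (orb (⊤ : Subgroup H) x) := by
      rw [mem_fxr_orb]
      intro s _
      have h2 := hkx (s⁻¹ * k * s) (by
        have := (inferInstance : (π.ker).Normal).conj_mem k hk s⁻¹
        rwa [inv_inv] at this)
      rwa [mul_smul, mul_smul, inv_smul_eq_iff] at h2
    exact h1 w (h.cmm_le hM tx hx hw)
  -- the stabiliser of `Y`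
  let NYs : Subgroup H :=
    { carrier := {g : H | ∀ w : M, g • w ∈ Y ↔ w ∈ Y}
      one_mem' := fun w => by rw [one_smul]
      mul_mem' := fun {a b} ha hb w => by rw [mul_smul, ha, hb]
      inv_mem' := fun {a} ha w => by rw [← ha, smul_inv_smul] }
  have hNYs : ∀ {P : Subgroup H}, (∀ p ∈ P, ∀ w ∈ Y, p • w ∈ Y) → P ≤ NYs := by
    intro P hP p hp w
    refine ⟨fun hw => ?_, hP p hp w⟩
    have h1 := hP p⁻¹ (inv_mem hp) _ hw
    rwa [inv_smul_smul] at h1
  have hTN : T ≤ NYs := hNYs TY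
  -- `K ≤ π(N(Y))`
  have hKN : K ≤ NYs.map π := by
    have hle : K ⊔ T.map π ≤ NYs.map π := by
      refine le_of_forall le_sup_right ?_ ?_
      · rintro ν ⟨-, hν⟩
        obtain ⟨_, ⟨t, ht, rfl⟩, n, hn, rfl⟩ := KL.GenTool.exists_normalizer_map π o.πs h.two h.syl hν
        refine mul_mem ⟨t, hTN ht, rfl⟩ ⟨n, ?_, rfl⟩
        exact hNYs (P := normalizer (T : Set H)) NY hn
      · intro P' hP' hPK
        obtain ⟨P, hP, rfl⟩ := KL.GenTool.exists_minPar_map π o.πs hP'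
        obtain ⟨hn1, hn2⟩ := inf_normal o.lb nmax hK hKo hP'.le hPK
        have hno : ∀ m : N', m ≠ 1 → (∀ p ∈ P.map π, p • m = m) → False := by
          intro m hm hPm
          have h6 := bot_of_fix o.faith o.irr hn1 hm fun n hn => hPm n hn.1
          rw [h6, bot_sup_eq] at hn2
          exact hP'.ne hn2
        rcases par P hP with h1 | h1 | h1
        · refine (hno _ nx1 ?_).elim
          rintro _ ⟨q, hq, rfl⟩
          exact him hx1 ((hxs q).2 ((c.sx P hP.le).2 h1 q hq))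
        · refine (hno _ nu1 ?_).elim
          rintro _ ⟨q, hq, rfl⟩
          exact him hu1 ((hus q).2 (hgood P hP.le h1 q hq))
        · exact map_mono (hNYs h1.2)
    exact le_sup_left.trans hle
  -- the group `D`
  let D : Subgroup H := NYs ⊓ K.comap π ⊓ Km A
  have hDm : D.map π ≤ K := by
    rintro _ ⟨g, hg, rfl⟩
    exact hg.1.2
  have hDo : Odd (Nat.card (D.map π)) := hKo.of_dvd_nat (card_dvd_of_le hDm)
  have hDU : ∀ g ∈ D, ∀ m ∈ Y ⊓ cmm M A, g • m ∈ Y ⊓ cmm M A := fun g hg m hm =>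
    ⟨(hg.1.1 m).2 hm.1, smul_mem_cmm g hm.2⟩
  let W : Subgroup M := closure {w : M | ∃ g ∈ D, ∃ y ∈ ((Y ⊓ cmm M A : Subgroup M) : Set M), w = (g • y) * y⁻¹}
  have hWY : W ≤ Y ⊓ cmm M A := by
    rw [closure_le]
    rintro _ ⟨g, hg, y, hy, rfl⟩
    exact mul_mem (hDU g hg y hy) (inv_mem hy)
  have hDT : ∀ t ∈ T, ∀ g ∈ D, t * g * t⁻¹ ∈ D := by
    intro t ht g hg
    refine ⟨⟨NYs.mul_mem (NYs.mul_mem (hTN ht) hg.1.1) (NYs.inv_mem (hTN ht)), ?_⟩, ?_⟩
    · exact (inferInstance : (K.comap π).Normal).conj_mem g hg.1.2 t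
    · exact (inferInstance : (Km A).Normal).conj_mem g hg.2 t
  have hTW : ∀ t ∈ T, ∀ w ∈ W, t • w ∈ W := by
    intro t ht w hw
    have h1 : W ≤ W.comap (MulDistribMulAction.toMonoidHom M t) := by
      rw [closure_le]
      rintro _ ⟨g, hg, y, hy, rfl⟩
      change t • ((g • y) * y⁻¹) ∈ W
      refine subset_closure ⟨t * g * t⁻¹, hDT t ht g hg, t • y, ⟨TY t ht y hy.1, smul_mem_cmm t hy.2⟩, ?_⟩
      rw [smul_mul', smul_inv', ← mul_smul, ← mul_smul, inv_mul_cancel_right]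
    exact h1 hw
  have hW1 : W = ⊥ := by
    by_contra hne
    obtain ⟨w, hw, hw1, tw⟩ := exists_fix h.sq h.two hTW hne
    exact hw1 (norm_one h.sq π (U := cmm M A) hkU hDo (fun m hm => hm.2) hw
      fun g _ => cY w (hWY hw).1 tw g)
  -- elements of odd order of `D` centralise `Y`
  have hDY : ∀ g ∈ D, Odd (orderOf g) → ∀ w ∈ Y, g • w = w := by
    intro g hg hgo w hw
    refine fix_of_odd h.sq hgo ?_
    have h1 : (g • w) * w⁻¹ ∈ ((Y ⊓ cmm M A : Subgroup M) : Set M) :=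
      ⟨Y.mul_mem ((hg.1.1 w).2 hw) (Y.inv_mem hw), mem_cmm hg.2 w⟩
    have h2 : (g • ((g • w) * w⁻¹)) * ((g • w) * w⁻¹)⁻¹ ∈ W := subset_closure ⟨g, hg, _, h1, rfl⟩
    rw [hW1, mem_bot] at h2
    exact mul_inv_eq_one.1 h2
  refine bot_of_fix o.faith o.irr hK nu1 fun κ hκ => ?_
  obtain ⟨g, hg, rfl⟩ := hKN hκ
  -- the odd part of `g`
  obtain ⟨a, m, hm, ha⟩ := Nat.exists_eq_pow_mul_and_not_dvd (orderOf_pos g).ne' 2 (by norm_num)
  have hm' : Odd m := Nat.not_even_iff_odd.1 fun h => hm h.two_dvd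
  have hm0 : 0 < m := hm'.pos
  have hgo : orderOf (g ^ 2 ^ a) = m := by
    rw [orderOf_pow_of_dvd (by positivity) (ha ▸ Dvd.intro _ rfl), ha, Nat.mul_div_cancel_left _ (by positivity)]
  have hgo' : Odd (orderOf (g ^ 2 ^ a)) := hgo ▸ hm'
  have hgD : g ^ 2 ^ a ∈ D := by
    refine ⟨⟨pow_mem hg _, ?_⟩, mem_of_odd h.two h.gen hgo'⟩
    change π (g ^ 2 ^ a) ∈ K
    rw [map_pow]
    exact K.pow_mem hκ _
  have h1 : π g ^ 2 ^ a • f ⟨u1, hu1⟩ = f ⟨u1, hu1⟩ := by
    rw [← map_pow]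
    exact him hu1 ((hus _).2 (c.su _ hgo' (hDY _ hgD hgo')))
  have h2 : (2 ^ a).Coprime (orderOf (π g)) := by
    have h3 : orderOf (π g) ∣ Nat.card K := by
      have := orderOf_dvd_natCard (⟨π g, hκ⟩ : K)
      rwa [orderOf_mk] at this
    exact Nat.Coprime.pow_left a (Nat.coprime_two_left.mpr (hKo.of_dvd_nat h3))
  obtain ⟨j, hj⟩ := exists_pow_eq_self_of_coprime h2
  have h3 : (π g ^ 2 ^ a) ^ j ∈ MulAction.stabilizer H' (f ⟨u1, hu1⟩) := pow_mem h1 j
  rw [hj] at h3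
  exact h3

end

end Cfsg.Agent.Omega.KL.StarQ

end

section


/-!
# THEOREM KL*(q) with `N_H(T)`-fixed vectors (bb #24006 (3), #24444 (B))

The situation of `StarQ.InpQ`, where `N_H(T)` fixes `Y` pointwise, in place of `cY`.

* `InpY T A Z Y` : this situation; `exists_of_core_fix` : the end of the machine over `LB`;
* **`InpY.exists_sysW`**, **`InpY.exists_sysT`**, **`InpY.false_of`**.
-/

set_option autoImplicit false

namespace Cfsg.Agent.Omega.KL.StarQ

open Subgroup Cfsg Cfsg.Agent.ZN Cfsg.Agent.ClassTwoFusion.Quad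
open Cfsg.Agent.Omega.ML.MinFrame hiding comm_of_sq
open Cfsg.Agent.Omega.ML.Final Cfsg.Agent.Omega.NO3S.EMany.Low
open Cfsg.Agent.Omega.KL.Star.Core
open Cfsg.Agent.MinSimple.VModule (o2_isPGroup o2_le le_o2 le_normalizer_o2 o2_le_of_sylow oddGen oddGen_le oddGen_def)
open Cfsg.Agent.MinSimple.MinParabolic (IsMinPar le_of_forall)

universe u v

section

variable {H : Type u} [Group H] [Finite H] {M : Type v} [Group M] [Finite M] [MulDistribMulAction H M]
  {T A : Subgroup H}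

/-- **the end over `LB`** -/
theorem exists_of_core_fix (h : LB H M T A) (hM : MLK.{u, v}) {x : M} (tx : ∀ t ∈ T, t • x = x)
    {Y : Subgroup M} (NY : ∀ g ∈ normalizer (T : Set H), ∀ w ∈ Y, g • w = w)
    (hY : ¬ ∀ g : H, Odd (orderOf g) → ∀ w ∈ Y, g • w = w)
    (par : ∀ P : Subgroup H, IsMinPar T P → (∀ p ∈ P, p • x = x) ∨ ∀ g ∈ P, Odd (orderOf g) → ∀ w ∈ Y, g • w = w)
    (mv : ∃ P : Subgroup H, IsMinPar T P ∧ ∃ p ∈ P, p • x ≠ x) :
    ∃ (H' : Type u) (_ : Group H') (_ : Finite H') (N : Type v) (_ : Group N) (_ : Finite N)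
      (_ : MulDistribMulAction H' N) (T' A' : Subgroup H') (x' y' : N), SysW T' A' x' y' ∧
      ∀ K : Subgroup H', K.Normal → Odd (Nat.card K) → K = ⊥ := by
  have hx : ¬ ∀ g : H, g • x = x := by
    obtain ⟨P, -, p, -, hp⟩ := mv
    exact fun hc => hp (hc p)
  have TY : ∀ t ∈ T, ∀ w ∈ Y, t • w ∈ Y := fun t ht w hw => by rw [NY t (le_normalizer ht) w hw]; exact hw
  obtain ⟨N, i1, i2, i3, A', x', u', c⟩ := core h hM tx hx TY hY
  -- minimal parabolics
  have hP : ∀ P : Subgroup H, IsMinPar T P → (∀ p ∈ P, p • x' = x') ∨ ∀ p ∈ P, p • u' = u' := by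
    intro P hP
    rcases par P hP with h1 | h2
    · exact Or.inl ((c.sx P hP.le).2 h1)
    · right
      have h3 : oddGen P ⊔ T = P := oddGen_sup hP.le
        fun h2 => h.syl (h2.trans (relIndex_dvd_index_of_le hP.le))
      have h4 : P ≤ MulAction.stabilizer H u' := by
        rw [← h3]
        refine sup_le ?_ fun t ht => c.tu t ht
        rw [oddGen_def, closure_le]
        rintro g ⟨hgP, hgo⟩
        exact c.su g hgo fun w hw => h2 g hgP hgo w hw
      exact fun p hp => h4 hp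
  obtain ⟨P, hPm, p, hp, hpx⟩ := mv
  have hPx' : ∃ p ∈ P, p • x' ≠ x' := by
    by_contra hc
    push Not at hc
    exact hpx ((c.sx P hPm.le).1 hc p hp)
  have hPu : ∀ p ∈ P, p • u' = u' := (hP P hPm).resolve_left fun h1 => by
    obtain ⟨q, hq, hqx⟩ := hPx'
    exact hqx (h1 q hq)
  -- shift
  obtain ⟨x1, hx1, hxs⟩ := c.lb.shift c.tx
  obtain ⟨u1, hu1, hus⟩ := c.lb.shift c.tu
  have tx1 : ∀ t ∈ T, t • x1 = x1 := fun t ht => (hxs t).2 (c.tx t ht)
  have tu1 : ∀ t ∈ T, t • u1 = u1 := fun t ht => (hus t).2 (c.tu t ht)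
  have mx1 : ¬ ∀ g : H, g • x1 = x1 := fun hc => c.mx fun g => (hxs g).1 (hc g)
  have mu1 : ¬ ∀ g : H, g • u1 = u1 := fun hc => c.mu fun g => (hus g).1 (hc g)
  obtain ⟨H', j1, j2, N', j3, j4, j5, π, f, B, o, hs⟩ := c.lb.exists_sysW₀ hM tx1 tu1 hx1 hu1 mu1
    (by
      obtain ⟨q, hq, hqx⟩ := hPx'
      exact ⟨P, hPm, ⟨q, hq, fun hc => hqx ((hxs q).1 hc)⟩, fun q hq => (hus q).2 (hPu q hq)⟩)
    (fun P hP' => by
      rcases hP P hP' with h1 | h1
      · exact ⟨x1, hx1, mx1, fun q hq => (hxs q).2 (h1 q hq)⟩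
      · exact ⟨u1, hu1, mu1, fun q hq => (hus q).2 (h1 q hq)⟩)
  refine ⟨H', j1, j2, N', j3, j4, j5, _, B, _, _, hs, fun K hK hKo => ?_⟩
  have hcen := odd_le_center hs hK hKo
  by_contra hne
  obtain ⟨⟨ν, hν⟩, hν1'⟩ := (Subgroup.ne_bot_iff_exists_ne_one).1 hne
  have hν1 : ν ≠ 1 := fun h1 => hν1' (Subtype.ext h1)
  have hνc : ∀ g : H', g * ν = ν * g := fun g => mem_center_iff.1 (hcen hν) g
  have hνT : ν ∈ normalizer ((T.map π : Subgroup H') : Set H') := by
    rw [mem_normalizer_iff]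
    intro g
    rw [← hνc g, mul_inv_cancel_right]
  obtain ⟨_, ⟨t, ht, rfl⟩, n, hn, hνn⟩ := KL.GenTool.exists_normalizer_map π o.πs h.two h.syl hνT
  obtain ⟨a, ha1, ha2⟩ := exists_pow h.two ht n
  set g : H := n ^ 2 ^ a with hg
  have hgN : g ∈ normalizer (T : Set H) := (normalizer (T : Set H)).pow_mem hn _
  have hπg : π g = ν ^ 2 ^ a := by
    have h1 : Commute (π t) ν := hνc _
    have h2 : π n = (π t)⁻¹ * ν := by rw [hνn]; group
    have h3 : Commute (π t)⁻¹ ν := h1.inv_left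
    rw [hg, map_pow, h2, h3.mul_pow, inv_pow, ← map_pow, ha1, map_one, inv_one, one_mul]
  have hπg1 : π g ≠ 1 := by
    rw [hπg]
    intro h1
    apply hν1
    have h2 : orderOf ν ∣ 2 ^ a := orderOf_dvd_of_pow_eq_one h1
    have h3 : orderOf ν ∣ Nat.card K := by
      have := orderOf_dvd_natCard (⟨ν, hν⟩ : K)
      rwa [orderOf_mk] at this
    have h4 : Odd (orderOf ν) := hKo.of_dvd_nat h3
    have h5 : (2 ^ a).Coprime (orderOf ν) := Nat.Coprime.pow_left a (Nat.coprime_two_left.mpr h4)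
    exact orderOf_eq_one_iff.1 (Nat.eq_one_of_dvd_coprimes h5 h2 dvd_rfl)
  have hgY : ∀ w ∈ Y, g • w = w := fun w hw => NY g hgN w hw
  -- so `π g` fixes the second vector
  have hgu : g • u1 = u1 := (hus g).2 (c.su g ha2 hgY)
  have hfix : π g • f ⟨u1, hu1⟩ = f ⟨u1, hu1⟩ := by
    rw [← o.eqv g ⟨u1, hu1⟩]
    exact congrArg f (Subtype.ext hgu)
  have hnor : (zpowers (π g)).Normal := by
    refine ⟨fun k hk s => ?_⟩
    have h1 : k ∈ center H' := by
      have h2 : zpowers (π g) ≤ center H' := by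
        rw [zpowers_le, hπg]
        exact (center H').pow_mem (hcen hν) _
      exact h2 hk
    rw [mem_center_iff.1 h1 s, mul_inv_cancel_right]
    exact hk
  have h1 := hs.bot_of_fix hnor hs.y1 fun k hk => by
    have h2 : zpowers (π g) ≤ MulAction.stabilizer H' (f ⟨u1, hu1⟩) := by
      rw [zpowers_le]
      exact hfix
    exact h2 hk
  exact hπg1 (by
    have h2 := mem_zpowers (π g)
    rw [h1] at h2
    exact mem_bot.1 h2)

end

/-- **The input of THEOREM KL*(q)** -/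
structure InpY {H : Type u} [Group H] {M : Type v} [Group M] [MulDistribMulAction H M] (T A : Subgroup H)
    (Z Y : Subgroup M) : Prop where
  sq : ∀ m : M, m * m = 1
  two : IsPGroup 2 T
  syl : ¬ 2 ∣ T.index
  tZ : ∀ z ∈ Z, ∀ t ∈ T, t • z = z
  NZ : ∀ g ∈ normalizer (T : Set H), ∀ z ∈ Z, g • z ∈ Z
  /-- `N_H(T)` fixes `Y` pointwise -/
  NY : ∀ g ∈ normalizer (T : Set H), ∀ w ∈ Y, g • w = w
  /-- a `T`-minimal `P` fixes `Z` pointwise, or its elements of odd order centralise `Y` -/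
  par : ∀ P : Subgroup H, IsMinPar T P → (∀ z ∈ Z, ∀ p ∈ P, p • z = z) ∨
    ∀ g ∈ P, Odd (orderOf g) → ∀ w ∈ Y, g • w = w
  el : ∀ a ∈ A, a * a = 1
  exact : (cv M (A : Set H)).index = Nat.card A
  atom : ∀ C : Subgroup H, C ≤ A → C ≠ ⊥ → C ≠ A → Nat.card C < (cv M (C : Set H)).index
  nT : ¬ A ≤ o2 (⊤ : Subgroup H)
  AZ : A ≤ o2 (fxr H Z)
  AY : A ≤ o2 (fxr H Y ⊔ T)
  KH : IsKGroup H

namespace InpY

variable {H : Type u} [Group H] [Finite H] {M : Type v} [Group M] [Finite M] [MulDistribMulAction H M]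
  {T A : Subgroup H} {Z Y : Subgroup M}

omit [Finite M] in
theorem AT (i : InpY T A Z Y) : A ≤ T :=
  i.AZ.trans (o2_le_of_sylow i.two fun h2 => i.syl (h2.trans (relIndex_dvd_index_of_le fun t ht z hz => i.tZ z hz t ht)))

/-- **THEOREM KL*(q).** -/
theorem exists_sysW (i : InpY T A Z Y) (hM : MLK.{u, v}) :
    ∃ (H' : Type u) (_ : Group H') (_ : Finite H') (N : Type v) (_ : Group N) (_ : Finite N)
      (_ : MulDistribMulAction H' N) (T' A' : Subgroup H') (x' y' : N), SysW T' A' x' y' ∧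
      ∀ K : Subgroup H', K.Normal → Odd (Nat.card K) → K = ⊥ := by
  -- `L` minimal
  obtain ⟨L, ⟨hTL, hAL⟩, hmin⟩ : ∃ L : Subgroup H, (T ≤ L ∧ ¬ A ≤ o2 L) ∧
      ∀ R : Subgroup H, (T ≤ R ∧ ¬ A ≤ o2 R) → R ≤ L → R = L := by
    have hfin : {L : Subgroup H | T ≤ L ∧ ¬ A ≤ o2 L}.Finite := Set.toFinite _
    obtain ⟨B, hB⟩ := hfin.exists_minimal ⟨⊤, le_top, i.nT⟩
    exact ⟨B, hB.1, fun C hC hCB => le_antisymm hCB (hB.2 hC hCB)⟩
  have hAT := i.AT
  have hAL' : A ≤ L := hAT.trans hTL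
  have e1 : ∀ {C : Subgroup H}, C ≤ L → (C.subgroupOf L).map L.subtype = C := fun {C} hC => by
    rw [subgroupOf_map_subtype, inf_eq_left.2 hC]
  have hcv : ∀ C : Subgroup L, cv M (C : Set L) = cv M ((C.map L.subtype : Subgroup H) : Set H) := by
    intro C
    ext m
    constructor
    · rintro hm _ ⟨c, hc, rfl⟩
      exact hm c hc
    · exact fun hm c hc => hm _ ⟨c, hc, rfl⟩
  have hcard : ∀ C : Subgroup L, Nat.card (C.map L.subtype) = Nat.card C := fun C =>
    card_map_of_injective L.subtype_injective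
  have hlb : LB L M (T.subgroupOf L) (A.subgroupOf L) := by
    refine ⟨i.sq, i.two.comap_subtype, fun h2 => ?_, fun x hx => hAT hx, fun b hb => Subtype.ext (i.el b hb), ?_, ?_, ?_, ?_,
      sec_KG.sub H i.KH L⟩
    · exact i.syl (h2.trans (relIndex_dvd_index_of_le hTL))
    · rw [hcv, e1 hAL', i.exact, ← hcard, e1 hAL']
    · intro C hC hC1 hCF
      rw [hcv, ← hcard]
      refine i.atom _ ?_ ?_ ?_
      · rintro _ ⟨c, hc, rfl⟩
        exact hC hc
      · intro h1
        exact hC1 ((Subgroup.map_eq_bot_iff_of_injective _ L.subtype_injective).1 h1)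
      · intro h1
        apply hCF
        rw [← h1]
        exact (comap_map_eq_self_of_injective L.subtype_injective C).symm
    · intro R hTR hR
      have h1 : R.map L.subtype ≠ L := by
        intro h2
        apply hR
        rw [eq_top_iff]
        intro r _
        have h3 : (r : H) ∈ R.map L.subtype := by
          rw [h2]
          exact r.2
        obtain ⟨s, hs, hsr⟩ := h3
        rwa [← (Subtype.ext hsr : s = r)]
      have h2 : T ≤ R.map L.subtype := fun t ht => ⟨⟨t, hTL ht⟩, hTR ht, rfl⟩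
      have h3 : A ≤ o2 (R.map L.subtype) := by
        by_contra hc
        exact h1 (hmin _ ⟨h2, hc⟩ (map_subtype_le R))
      exact fun x hx => KL.GenTool.o2_subgroupOf_le R (h3 hx)
    · intro hc
      apply hAL
      have h1 := (map_mono (f := L.subtype) hc).trans (KL.GenTool.o2_map_le L.subtype ⊤)
      rw [e1 hAL', ← MonoidHom.range_eq_map, L.range_subtype] at h1
      exact h1
  -- normalizers of `T`
  have hNN : ∀ g : L, g ∈ normalizer ((T.subgroupOf L : Subgroup L) : Set L) → (g : H) ∈ normalizer (T : Set H) := by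
    intro g hg
    rw [mem_normalizer_iff] at hg ⊢
    intro t
    constructor
    · intro ht
      exact (hg ⟨t, hTL ht⟩).1 ht
    · intro ht
      have h1 : t ∈ L := by
        have h2 := L.mul_mem (L.mul_mem (L.inv_mem g.2) (hTL ht)) g.2
        have e : (g : H)⁻¹ * (g * t * (g : H)⁻¹) * g = t := by group
        rwa [e] at h2
      exact (hg ⟨t, h1⟩).2 ht
  -- a `T`-minimal subgroup of `L` which moves `Z`
  obtain ⟨P, hPm, hPZ⟩ : ∃ P : Subgroup L, IsMinPar (T.subgroupOf L) P ∧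
      ¬ ∀ z ∈ Z, ∀ p ∈ P, p • z = z := by
    by_contra hc
    push Not at hc
    apply hAL
    -- `C_L(Z)` is normal in `L`
    let F : Subgroup H := fxr H Z ⊓ L
    have hTF : T ≤ F := le_inf (fun t ht z hz => i.tZ z hz t ht) hTL
    have h1 : (⊤ : Subgroup L) ≤ (normalizer (F : Set H)).subgroupOf L := by
      refine le_of_forall (S := T.subgroupOf L) le_top (fun g hg => ?_) fun P hP _ p hp => ?_
      · rw [mem_subgroupOf]
        have hg1 := hNN g hg.2
        have hconj : ∀ k : H, k ∈ normalizer (T : Set H) → k ∈ L → ∀ w ∈ F, k * w * k⁻¹ ∈ F := by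
          intro k hk hkL w hw
          refine ⟨fun z hz => ?_, L.mul_mem (L.mul_mem hkL hw.2) (L.inv_mem hkL)⟩
          have h2 := hw.1 _ (i.NZ k⁻¹ (inv_mem hk) z hz)
          rw [mul_smul, mul_smul, h2, smul_inv_smul]
        rw [mem_normalizer_iff]
        intro w
        refine ⟨hconj g hg1 g.2 w, fun hw => ?_⟩
        have h2 := hconj (g : H)⁻¹ (inv_mem hg1) (L.inv_mem g.2) _ hw
        have e : (g : H)⁻¹ * (g * w * (g : H)⁻¹) * (g : H)⁻¹⁻¹ = w := by group
        rwa [e] at h2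
      · rw [mem_subgroupOf]
        exact le_normalizer (show (p : H) ∈ F from ⟨fun z hz => hc P hP z hz p hp, p.2⟩)
    have h2 : L ≤ normalizer (F : Set H) := fun g hg => h1 (mem_top (⟨g, hg⟩ : L))
    exact (le_inf i.AZ (hAT.trans hTF)).trans
      ((InpG.o2_le_o2_of_le inf_le_left).trans (o2_le_o2 inf_le_right h2))
  push Not at hPZ
  obtain ⟨x, hxZ, p, hp, hpx⟩ := hPZ
  have htx : ∀ t ∈ T.subgroupOf L, t • x = x := fun t ht => i.tZ x hxZ _ ht
  -- `L ≠ C_L(Y) T`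
  have hY : ¬ ∀ g : L, Odd (orderOf g) → ∀ w ∈ Y, g • w = w := by
    intro hc
    apply hAL
    have h1 : oddGen L ⊔ T = L := oddGen_sup hTL fun h2 => i.syl (h2.trans (relIndex_dvd_index_of_le hTL))
    have h2 : L ≤ fxr H Y ⊔ T := by
      rw [← h1]
      refine sup_le_sup_right ?_ T
      rw [oddGen_def, closure_le]
      rintro g ⟨hgL, hgo⟩ w hw
      exact hc ⟨g, hgL⟩ (by rwa [orderOf_mk]) w hw
    exact (le_inf i.AY hAL').trans (InpG.o2_le_o2_of_le h2)
  refine exists_of_core_fix hlb hM htx (Y := Y) (fun g hg w hw => i.NY g (hNN g hg) w hw) hY (fun R hR => ?_) ⟨P, hPm, p, hp, hpx⟩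
  rcases i.par _ (KL.GenTool.minPar_map_subtype hTL hR) with h1 | h2
  · exact Or.inl fun q hq => h1 x hxZ _ ⟨q, hq, rfl⟩
  · refine Or.inr fun g hg hgo w hw => h2 _ ⟨g, hg, rfl⟩ ?_ w hw
    rwa [Subgroup.coe_subtype, orderOf_coe]

/-- **THEOREM KL*(q)**, with the output `Two.SysT` -/
theorem exists_sysT (i : InpY T A Z Y) (hM : MLK.{u, v}) :
    ∃ (H' : Type u) (_ : Group H') (_ : Finite H') (N : Type v) (_ : Group N) (_ : Finite N)
      (_ : MulDistribMulAction H' N) (T' A' : Subgroup H') (x' y' : N), ML.Ex.Two.SysT H' N T' A' x' y' := by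
  obtain ⟨H', i1, i2, N, i3, i4, i5, T', A', x', y', h, ho⟩ := i.exists_sysW hM
  exact ⟨H', i1, i2, N, i3, i4, i5, T', A', x', y', h.sysT ho⟩

/-- **THEOREM KL*(q)**, with EXT -/
theorem false_of (hM : MLK.{u, v}) (hE : ML.Ex.Two.Ext.{u, v}) (i : InpY T A Z Y) : False := by
  obtain ⟨H', i1, i2, N, i3, i4, i5, T', A', x', y', h⟩ := i.exists_sysT hM
  exact hE H' N T' A' x' y' h

end InpY

end Cfsg.Agent.Omega.KL.StarQ

end
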