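import Cfsg.Agent.Mrg.Omega.ML.MinIrr
import Cfsg.Agent.MinSimple.MinParabolic
import Cfsg.Agent.Mrg.Omega.KL.Def
import Cfsg.Agent.Mrg.Omega.IId.BSTrick
import Cfsg.Agent.Mrg.Omega.ML.Ex.RedDef

section


/-!
# The machine "minimal `H` with `B ≰ O₂(H)`" (bb #21609 (4), #21788 (f2), (f4), #21588, #21950; text helper76, helper296)

`H` acts on the elementary abelian 2-group `M` (not necessarily faithfully), `T` is a Sylow 2-subgroup of `H`, `B ≤ T` an
exact atom: elementary abelian, `|B| = |M : C_M(B)|`, `|C| < |M : C_M(C)|` for `1 < C < B`; `B ≤ O₂(R)` for all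
`T ≤ R < H`, but `B ≰ O₂(H)` (`LB`; it is obtained from `H` minimal: `exists_lb`).  `K₀ = ⟨B^H⟩` (`Km`),
`U¹ = [M, K₀]` (`cmm`).

* `LB.gen` : `H = K₀ T`;
* `LB.ml` : (NO) on `⟨z^H⟩` in any `H`-module, `z` fixed by `T` and moved by `H`;
* `LB.inf_eq_bot`, `LB.sup_eq_top`, `LB.relIndex_eq` : for every `T`-fixed `m` moved by `H`: `B` is faithful and exact on
  `W = ⟨m^H⟩`, `M = W C_M(B)`;  `LB.cmm_le` : `U¹ ≤ W`;  `LB.cmm_perf` : `U¹ = [U¹, K₀]`;
* `LB.irr` : if a `T`-fixed `x ∈ U¹` is moved by `H` then every proper `H`-invariant subgroup of `U¹` is centralised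
  by `K₀`;
* `LB.stab_eq` : for a `T`-fixed `x`, `Stab(x U₀) = Stab(x)`, `U₀ = C_{U¹}(K₀)`.
-/

set_option autoImplicit false

namespace Cfsg.Agent.Omega.NO3S.EMany.Low

open Subgroup Cfsg Cfsg.Agent.ZN Cfsg.Agent.ClassTwoFusion.Quad Cfsg.Agent.Omega.ML.MinFrame
open Cfsg.Agent.Omega.ML.Final
open Cfsg.Agent.MinSimple.VModule (o2_isPGroup o2_le le_o2 le_normalizer_o2 o2_le_of_sylow)
open Cfsg.Agent.MinSimple.MinParabolic (IsMinPar)

universe u v w

section pure

variable {H : Type u} [Group H] {M : Type v} [Group M] [MulDistribMulAction H M]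

theorem comm_of_sq (sq : ∀ m : M, m * m = 1) (a b : M) : a * b = b * a := by
  have h1 : ∀ z : M, z⁻¹ = z := fun z => inv_eq_of_mul_eq_one_right (sq z)
  calc a * b = (a * b)⁻¹ := (h1 _).symm
    _ = b⁻¹ * a⁻¹ := mul_inv_rev _ _
    _ = b * a := by rw [h1, h1]

theorem normal_of_sq (sq : ∀ m : M, m * m = 1) (I : Subgroup M) : I.Normal :=
  ⟨fun n hn g => by rw [comm_of_sq sq g n, mul_inv_cancel_right]; exact hn⟩

/-- **the product of an odd orbit** -/
theorem exists_fix_coset [Finite H] [Finite M] (sq : ∀ m : M, m * m = 1) {T R : Subgroup H}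
    (hT : ¬ 2 ∣ T.relIndex R) {m : M} (tm : ∀ t ∈ T, t • m = m) {I : Subgroup M}
    (h : ∀ g ∈ R, (g • m) * m⁻¹ ∈ I) : ∃ m0 : M, (∀ g ∈ R, g • m0 = m0) ∧ m0 * m⁻¹ ∈ I := by
  classical
  let _ : CommGroup M := { (inferInstance : Group M) with mul_comm := comm_of_sq sq }
  have := Fintype.ofFinite M
  let A : Finset M := Finset.univ.filter fun u => ∃ g ∈ R, g • m = u
  have hA : ∀ u, u ∈ A ↔ ∃ g ∈ R, g • m = u := fun u => by simp [A]
  have hinv : ∀ g ∈ R, ∀ u ∈ A, g • u ∈ A := by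
    intro g hg u hu
    obtain ⟨k, hk, rfl⟩ := (hA u).1 hu
    exact (hA _).2 ⟨g * k, mul_mem hg hk, mul_smul g k m⟩
  have hcard : ¬ 2 ∣ A.card := by
    have h1 := MulAction.index_stabilizer R m
    have h2 : (MulAction.orbit R m).ncard = A.card := by
      have : MulAction.orbit R m = (A : Set M) := by
        ext u
        rw [Finset.mem_coe, hA]
        constructor
        · rintro ⟨g, rfl⟩
          exact ⟨g, g.2, rfl⟩
        · rintro ⟨g, hg, rfl⟩
          exact ⟨⟨g, hg⟩, rfl⟩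
      rw [this, Set.ncard_coe_finset]
    rw [← h2, ← h1]
    intro hdvd
    apply hT
    have h3 : T.subgroupOf R ≤ MulAction.stabilizer R m := fun t ht => tm _ ht
    exact hdvd.trans (Subgroup.index_dvd_of_le h3)
  refine ⟨∏ u ∈ A, u, fun g hg => ?_, ?_⟩
  · rw [Finset.smul_prod']
    have h2 : A.image (fun u => g • u) = A := by
      refine Finset.eq_of_subset_of_card_le ?_ ?_
      · intro u hu
        obtain ⟨x, hx, rfl⟩ := Finset.mem_image.1 hu
        exact hinv g hg x hx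
      · rw [Finset.card_image_of_injective _ (MulAction.injective g)]
    conv_rhs => rw [← h2]
    rw [Finset.prod_image fun a _ b _ hab => MulAction.injective g hab]
  · have h1 : ∀ s : Finset M, (∀ u ∈ s, u * m⁻¹ ∈ I) → (∏ u ∈ s, u) * (m ^ s.card)⁻¹ ∈ I := by
      intro s
      induction s using Finset.induction_on with
      | empty => intro _; simp
      | insert a s ha ih =>
        intro hs
        rw [Finset.prod_insert ha, Finset.card_insert_of_notMem ha, pow_succ]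
        have e : a * ∏ u ∈ s, u = a * (∏ u ∈ s, u) := rfl
        have e2 : a * (∏ u ∈ s, u) * (m ^ s.card * m)⁻¹ = (a * m⁻¹) * ((∏ u ∈ s, u) * (m ^ s.card)⁻¹) := by
          rw [mul_inv]
          exact (mul_mul_mul_comm a (∏ u ∈ s, u) m⁻¹ (m ^ s.card)⁻¹ ▸ by rw [mul_comm (m ^ s.card)⁻¹ m⁻¹])
        rw [e2]
        exact mul_mem (hs a (Finset.mem_insert_self _ _)) (ih fun u hu => hs u (Finset.mem_insert_of_mem hu))
    have h2 := h1 A (fun u hu => by
      obtain ⟨g, hg, rfl⟩ := (hA u).1 hu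
      exact h g hg)
    have h3 : m ^ A.card = m := by
      obtain ⟨k, hk⟩ := Nat.not_even_iff_odd.1 fun h => hcard h.two_dvd
      rw [hk, pow_succ, pow_mul, pow_two, sq, one_pow, one_mul]
    rwa [h3] at h2

/-- `O₂(F) ≤ O₂(R)` for `F` normal in `R` -/
theorem o2_le_o2 {F R : Subgroup H} (hFR : F ≤ R) (hF : R ≤ normalizer (F : Set H)) : o2 F ≤ o2 R := by
  refine le_o2 ((o2_le F).trans hFR) (o2_isPGroup F) ?_
  intro g hg
  have key : ∀ g ∈ R, (o2 F).map (MulAut.conj g).toMonoidHom ≤ o2 F := by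
    intro g hg
    have hFg : F.map (MulAut.conj g).toMonoidHom = F := mem_normalizer_iff_map_conj_eq.mp (hF hg)
    refine le_o2 ?_ ((o2_isPGroup F).map _) ?_
    · calc (o2 F).map (MulAut.conj g).toMonoidHom ≤ F.map (MulAut.conj g).toMonoidHom := Subgroup.map_mono (o2_le F)
        _ = F := hFg
    · intro f hf
      have h1 : g⁻¹ * f * g ∈ F := by
        have := (mem_normalizer_iff.1 (hF (inv_mem hg)) f).1 hf
        rwa [inv_inv] at this
      have h2 := le_normalizer_o2 F h1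
      rw [mem_normalizer_iff] at h2 ⊢
      intro y
      have e : ∀ z : H, z ∈ (o2 F).map (MulAut.conj g).toMonoidHom ↔ g⁻¹ * z * g ∈ o2 F := by
        intro z
        constructor
        · rintro ⟨w, hw, rfl⟩
          have : g⁻¹ * (g * w * g⁻¹) * g = w := by group
          change g⁻¹ * (g * w * g⁻¹) * g ∈ _
          rwa [this]
        · intro hz
          exact ⟨_, hz, by change g * (g⁻¹ * z * g) * g⁻¹ = z; group⟩
      rw [e, e, h2]
      have : g⁻¹ * f * g * (g⁻¹ * y * g) * (g⁻¹ * f * g)⁻¹ = g⁻¹ * (f * y * f⁻¹) * g := by group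
      rw [this]
  rw [mem_normalizer_iff]
  refine fun y => ⟨fun hy => key g hg ⟨y, hy, rfl⟩, fun hy => ?_⟩
  have := key g⁻¹ (inv_mem hg) ⟨_, hy, rfl⟩
  have e : g⁻¹ * (g * y * g⁻¹) * g⁻¹⁻¹ = y := by group
  change g⁻¹ * (g * y * g⁻¹) * g⁻¹⁻¹ ∈ _ at this
  rwa [e] at this

/-! ### `[M, K]` -/

/-- the elements which act trivially on `U / W` -/
def trm (U W : Subgroup M) (hU : ∀ g : H, ∀ u ∈ U, g • u ∈ U) : Subgroup H where
  carrier := {k | ∀ m ∈ U, (k • m) * m⁻¹ ∈ W}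
  one_mem' := fun m _ => by rw [one_smul, mul_inv_cancel]; exact one_mem _
  mul_mem' := fun {k l} hk hl m hm => by
    have e : (k * l) • m * m⁻¹ = (k • l • m) * (l • m)⁻¹ * ((l • m) * m⁻¹) := by
      rw [mul_smul]; group
    rw [e]
    exact mul_mem (hk _ (hU l m hm)) (hl m hm)
  inv_mem' := fun {k} hk m hm => by
    have h1 := hk (k⁻¹ • m) (hU _ m hm)
    rw [smul_inv_smul] at h1
    have h2 := inv_mem h1
    rwa [mul_inv_rev, inv_inv] at h2

theorem mem_trm {U W : Subgroup M} {hU : ∀ g : H, ∀ u ∈ U, g • u ∈ U} {k : H} :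
    k ∈ trm U W hU ↔ ∀ m ∈ U, (k • m) * m⁻¹ ∈ W := Iff.rfl

theorem trm_normal {U W : Subgroup M} (hU : ∀ g : H, ∀ u ∈ U, g • u ∈ U) (hW : ∀ g : H, ∀ u ∈ W, g • u ∈ W) :
    (trm U W hU).Normal := by
  refine ⟨fun k hk g m hm => ?_⟩
  have e : (g * k * g⁻¹) • m * m⁻¹ = g • ((k • g⁻¹ • m) * (g⁻¹ • m)⁻¹) := by
    rw [smul_mul', smul_inv', smul_inv_smul, mul_smul, mul_smul]
  rw [e]
  exact hW g _ (hk _ (hU _ m hm))

/-- `⟨B^H⟩` -/
def Km (B : Subgroup H) : Subgroup H := normalClosure (B : Set H)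

instance (B : Subgroup H) : (Km B).Normal := normalClosure_normal

theorem le_Km (B : Subgroup H) : B ≤ Km B := subset_normalClosure

theorem Km_le {B N : Subgroup H} (hN : N.Normal) (h : B ≤ N) : Km B ≤ N := normalClosure_le_normal h

/-- `[M, ⟨B^H⟩]` -/
def cmm (M : Type v) [Group M] [MulDistribMulAction H M] (B : Subgroup H) : Subgroup M :=
  closure {v | ∃ k ∈ Km B, ∃ m : M, v = (k • m) * m⁻¹}

theorem mem_cmm {B : Subgroup H} {k : H} (hk : k ∈ Km B) (m : M) : (k • m) * m⁻¹ ∈ cmm M B :=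
  subset_closure ⟨k, hk, m, rfl⟩

theorem smul_mem_cmm {B : Subgroup H} (g : H) {u : M} (hu : u ∈ cmm M B) : g • u ∈ cmm M B := by
  have h1 : cmm M B ≤ (cmm M B).comap (MulDistribMulAction.toMonoidHom M g) := by
    rw [cmm, closure_le]
    rintro _ ⟨k, hk, m, rfl⟩
    refine subset_closure ⟨g * k * g⁻¹, (inferInstance : (Km B).Normal).conj_mem k hk g, g • m, ?_⟩
    change g • ((k • m) * m⁻¹) = _
    rw [smul_mul', smul_inv', mul_smul, mul_smul, inv_smul_smul]
  exact h1 hu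

/-- `[M, ⟨B^H⟩] ≤ W` if `[M, B] ≤ W`, `W` invariant -/
theorem cmm_le_of {B : Subgroup H} {W : Subgroup M} (hW : ∀ g : H, ∀ u ∈ W, g • u ∈ W)
    (h : ∀ b ∈ B, ∀ m : M, (b • m) * m⁻¹ ∈ W) : cmm M B ≤ W := by
  have h1 : Km B ≤ trm ⊤ W (fun _ _ _ => mem_top _) :=
    Km_le (trm_normal _ hW) fun b hb m _ => h b hb m
  rw [cmm, closure_le]
  rintro _ ⟨k, hk, m, rfl⟩
  exact h1 hk m (mem_top m)

/-- `[U, ⟨B^H⟩] ≤ W` if `[U, B] ≤ W`, `U` and `W` invariant -/
theorem Km_triv {B : Subgroup H} {U W : Subgroup M} (hU : ∀ g : H, ∀ u ∈ U, g • u ∈ U)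
    (hW : ∀ g : H, ∀ u ∈ W, g • u ∈ W) (h : ∀ b ∈ B, ∀ m ∈ U, (b • m) * m⁻¹ ∈ W) {k : H} (hk : k ∈ Km B) {m : M}
    (hm : m ∈ U) : (k • m) * m⁻¹ ∈ W := by
  have h1 : Km B ≤ trm U W hU := Km_le (trm_normal hU hW) fun b hb m hm => h b hb m hm
  exact h1 hk m hm

/-- `C_M(⟨B^H⟩)` is invariant -/
theorem smul_mem_cvKm {B : Subgroup H} (g : H) {u : M} (hu : u ∈ cv M (Km B : Set H)) :
    g • u ∈ cv M (Km B : Set H) := by
  intro k hk
  have h1 : g⁻¹ * k * g ∈ Km B := by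
    have := (inferInstance : (Km B).Normal).conj_mem k hk g⁻¹
    rwa [inv_inv] at this
  have h2 := hu _ h1
  rw [mul_smul, mul_smul, inv_smul_eq_iff] at h2
  exact h2

/-- an invariant subgroup centralised by `B` is centralised by `⟨B^H⟩` -/
theorem le_cvKm {B : Subgroup H} {I : Subgroup M} (hI : ∀ g : H, ∀ u ∈ I, g • u ∈ I) (h : I ≤ cv M (B : Set H)) :
    I ≤ cv M (Km B : Set H) := by
  have h1 : Km B ≤ fxr H I := Km_le (fxr_normal hI) fun b hb u hu => h hu b hb
  exact fun u hu k hk => h1 hk u hu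

end pure

/-! ### The situation -/

/-- `B` is an exact atom, `B ≤ O₂(R)` for `T ≤ R < H`, `B ≰ O₂(H)` -/
structure LB (H : Type u) [Group H] (M : Type v) [Group M] [MulDistribMulAction H M] (T B : Subgroup H) : Prop where
  sq : ∀ m : M, m * m = 1
  two : IsPGroup 2 T
  syl : ¬ 2 ∣ T.index
  BT : B ≤ T
  el : ∀ b ∈ B, b * b = 1
  exact : (cv M (B : Set H)).index = Nat.card B
  atom : ∀ C : Subgroup H, C ≤ B → C ≠ ⊥ → C ≠ B → Nat.card C < (cv M (C : Set H)).index
  low : ∀ R : Subgroup H, T ≤ R → R ≠ ⊤ → B ≤ o2 R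
  nb : ¬ B ≤ o2 (⊤ : Subgroup H)
  KH : IsKGroup H

namespace LB

variable {H : Type u} [Group H] [Finite H] {M : Type v} [Group M] [Finite M] [MulDistribMulAction H M]
  {T B : Subgroup H}

omit [Finite H] [Finite M] in
/-- `H = ⟨B^H⟩ T` -/
theorem gen (h : LB H M T B) : Km B ⊔ T = ⊤ := by
  by_contra hne
  have h1 := h.low _ le_sup_right hne
  apply h.nb
  have h2 : B ≤ o2 (Km B) := by
    have h3 : Km B ⊓ o2 (Km B ⊔ T) ≤ o2 (Km B) := by
      refine le_o2 inf_le_left ((o2_isPGroup _).to_le inf_le_right) ?_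
      intro k hk
      have hk' : k ∈ normalizer (o2 (Km B ⊔ T) : Set H) := le_normalizer_o2 _ (le_sup_left (a := Km B) hk)
      rw [mem_normalizer_iff] at hk' ⊢
      intro y
      constructor
      · rintro ⟨hy1, hy2⟩
        exact ⟨(Km B).mul_mem ((Km B).mul_mem hk hy1) ((Km B).inv_mem hk), (hk' y).1 hy2⟩
      · rintro ⟨hy1, hy2⟩
        refine ⟨?_, (hk' y).2 hy2⟩
        have := (Km B).mul_mem ((Km B).mul_mem ((Km B).inv_mem hk) hy1) hk
        have e : k⁻¹ * (k * y * k⁻¹) * k = y := by group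
        rwa [e] at this
    exact (le_inf (le_Km B) h1).trans h3
  refine h2.trans (o2_le_o2 le_top ?_)
  rw [normalizer_eq_top_iff.2 inferInstance]

omit [Finite M] in
/-- `O₂(H) ≤ T` -/
theorem o2_top_le (h : LB H M T B) : o2 (⊤ : Subgroup H) ≤ T :=
  o2_le_of_sylow h.two (by rw [relIndex_top_right]; exact h.syl)

omit [Finite H] [Finite M] in
theorem B1 (h : LB H M T B) : B ≠ ⊥ := fun h1 => h.nb (h1 ▸ bot_le)

section sec

variable {V : Type w} [Group V] [MulDistribMulAction H V]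

omit [Finite H] [Finite M] in
theorem stab_le (h : LB H M T B) {z : V} (tz : ∀ t ∈ T, t • z = z) (hz : ¬ ∀ g : H, g • z = z) :
    B ≤ o2 (MulAction.stabilizer H z) :=
  h.low _ (fun t ht => tz t ht) fun h1 => hz fun g => by
    have : g ∈ MulAction.stabilizer H z := h1 ▸ mem_top g
    exact this

omit [Finite H] [Finite M] in
/-- `C_B(⟨z^H⟩) ≤ O₂(H)` -/
theorem fxr_inf_le (h : LB H M T B) {z : V} (tz : ∀ t ∈ T, t • z = z) (hz : ¬ ∀ g : H, g • z = z) :
    fxr H (orb (⊤ : Subgroup H) z) ⊓ B ≤ o2 (⊤ : Subgroup H) := by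
  set W := orb (⊤ : Subgroup H) z with hW
  have hWi : ∀ g : H, ∀ u ∈ W, g • u ∈ W := fun g u hu => smul_mem_orb (mem_top g) hu
  have hF : (fxr H W).Normal := fxr_normal hWi
  have hFs : fxr H W ≤ MulAction.stabilizer H z := fun g hg => hg z (mem_orb_self _ z)
  have h1 := h.stab_le tz hz
  have h2 : fxr H W ⊓ o2 (MulAction.stabilizer H z) ≤ o2 (fxr H W) := by
    refine le_o2 inf_le_left ((o2_isPGroup _).to_le inf_le_right) ?_
    intro k hk
    have hk' := le_normalizer_o2 _ (hFs hk)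
    rw [mem_normalizer_iff] at hk' ⊢
    intro y
    constructor
    · rintro ⟨hy1, hy2⟩
      exact ⟨(fxr H W).mul_mem ((fxr H W).mul_mem hk hy1) ((fxr H W).inv_mem hk), (hk' y).1 hy2⟩
    · rintro ⟨hy1, hy2⟩
      refine ⟨?_, (hk' y).2 hy2⟩
      have := (fxr H W).mul_mem ((fxr H W).mul_mem ((fxr H W).inv_mem hk) hy1) hk
      have e : k⁻¹ * (k * y * k⁻¹) * k = y := by group
      rwa [e] at this
  refine (inf_le_inf_left _ h1).trans (h2.trans (o2_le_o2 le_top ?_))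
  rw [normalizer_eq_top_iff.2 hF]

end sec

omit [Finite M] in
/-- **(NO)** for `B` on `⟨z^H⟩` -/
theorem ml (h : LB H M T B) {V : Type w} [Group V] [Finite V] [MulDistribMulAction H V] (hM : MLK.{u, w})
    (sqV : ∀ x : V, x * x = 1) {z : V} (tz : ∀ t ∈ T, t • z = z) (hz : ¬ ∀ g : H, g • z = z) {C : Subgroup H}
    (hC : C ≤ B) :
    (fxr H (orb (⊤ : Subgroup H) z)).relIndex C ≤ (cv V (C : Set H)).relIndex (orb (⊤ : Subgroup H) z) := by
  refine hM.act h.KH (T := T) (Q := o2 (MulAction.stabilizer H z)) (A := C) (z := z)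
    ⟨sqV, h.two, h.syl, tz, ?_, fun q hq => o2_le _ hq, ?_, ?_, ?_⟩
  · intro q hq
    obtain ⟨n, hn⟩ := o2_isPGroup _ ⟨q, hq⟩
    refine ⟨n, fun v => ?_⟩
    have : q ^ 2 ^ n = 1 := congrArg Subtype.val hn
    rw [this, one_smul]
  · intro g hg q hq
    exact ⟨g * q * g⁻¹, (mem_normalizer_iff.1 (le_normalizer_o2 _ hg) q).1 hq, fun _ => rfl⟩
  · exact fun a ha => ⟨a, h.stab_le tz hz (hC ha), fun _ => rfl⟩
  · intro a ha v
    rw [← mul_smul, h.el a (hC ha), one_smul]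

section vec

variable {m : M}

omit [Finite H] [Finite M] in
theorem index_split (h : LB H M T B) (W : Subgroup M) :
    (cv M (B : Set H)).relIndex W * (W ⊔ cv M (B : Set H)).index = Nat.card B := by
  have hn : (cv M (B : Set H)).Normal := normal_of_sq h.sq _
  have h1 := relIndex_mul_index (H := cv M (B : Set H)) (K := W ⊔ cv M (B : Set H)) le_sup_right
  rw [relIndex_sup_right, h.exact] at h1
  exact h1

/-- `B` is faithful on `⟨m^H⟩` -/
theorem inf_eq_bot (h : LB H M T B) (hM : MLK.{u, v}) (tm : ∀ t ∈ T, t • m = m) (hm : ¬ ∀ g : H, g • m = m) :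
    fxr H (orb (⊤ : Subgroup H) m) ⊓ B = ⊥ := by
  set W := orb (⊤ : Subgroup H) m with hW
  by_contra hne
  have h0 : fxr H W ⊓ B ≠ B := fun h1 => h.nb (h1 ▸ h.fxr_inf_le tm hm)
  have h1 := h.atom _ inf_le_right hne h0
  have h2 := h.ml hM h.sq tm hm le_rfl
  rw [← hW] at h2
  have h3 := h.index_split W
  have h4 : W ⊔ cv M (B : Set H) ≤ cv M ((fxr H W ⊓ B : Subgroup H) : Set H) :=
    sup_le (fun w hw a ha => ha.1 w hw) (cv_anti fun a ha => ha.2)
  have h5 : (cv M ((fxr H W ⊓ B : Subgroup H) : Set H)).index ≤ (W ⊔ cv M (B : Set H)).index :=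
    Nat.le_of_dvd (Nat.pos_of_ne_zero index_ne_zero_of_finite) (index_dvd_of_le h4)
  have h6 : (fxr H W).relIndex B * Nat.card ↥(fxr H W ⊓ B) = Nat.card B := by
    have h7 := relIndex_mul_relIndex ⊥ (fxr H W ⊓ B) B bot_le inf_le_right
    rw [relIndex_bot_left, relIndex_bot_left, inf_relIndex_right, mul_comm] at h7
    exact h7
  have h7 : 0 < (fxr H W).relIndex B := Nat.pos_of_ne_zero (index_ne_zero_of_finite (H := (fxr H W).subgroupOf B))
  have h8 : (fxr H W).relIndex B * Nat.card ↥(fxr H W ⊓ B) <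
      (cv M (B : Set H)).relIndex W * (W ⊔ cv M (B : Set H)).index := by
    calc (fxr H W).relIndex B * Nat.card ↥(fxr H W ⊓ B)
        < (fxr H W).relIndex B * (W ⊔ cv M (B : Set H)).index := by
          exact Nat.mul_lt_mul_of_pos_left (lt_of_lt_of_le h1 h5) h7
      _ ≤ _ := Nat.mul_le_mul_right _ h2
  omega

theorem card_le_relIndex (h : LB H M T B) (hM : MLK.{u, v}) (tm : ∀ t ∈ T, t • m = m) (hm : ¬ ∀ g : H, g • m = m) :
    Nat.card B ≤ (cv M (B : Set H)).relIndex (orb (⊤ : Subgroup H) m) := by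
  have h2 := h.ml hM h.sq tm hm le_rfl
  rwa [← inf_relIndex_right, h.inf_eq_bot hM tm hm, relIndex_bot_left] at h2

/-- `B` is exact on `⟨m^H⟩` -/
theorem relIndex_eq (h : LB H M T B) (hM : MLK.{u, v}) (tm : ∀ t ∈ T, t • m = m) (hm : ¬ ∀ g : H, g • m = m) :
    (cv M (B : Set H)).relIndex (orb (⊤ : Subgroup H) m) = Nat.card B := by
  refine le_antisymm ?_ (h.card_le_relIndex hM tm hm)
  rw [← h.index_split (orb (⊤ : Subgroup H) m)]
  exact Nat.le_mul_of_pos_right _ (Nat.pos_of_ne_zero index_ne_zero_of_finite)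

/-- `M = ⟨m^H⟩ C_M(B)` -/
theorem sup_eq_top (h : LB H M T B) (hM : MLK.{u, v}) (tm : ∀ t ∈ T, t • m = m) (hm : ¬ ∀ g : H, g • m = m) :
    orb (⊤ : Subgroup H) m ⊔ cv M (B : Set H) = ⊤ := by
  have h1 := h.index_split (orb (⊤ : Subgroup H) m)
  rw [h.relIndex_eq hM tm hm] at h1
  have h2 : 0 < Nat.card B := Nat.card_pos
  exact index_eq_one.1 (Nat.eq_of_mul_eq_mul_left h2 (by rw [h1, mul_one]))

/-- `B ∩ O₂(H) = 1` -/
theorem B_inf_o2 (h : LB H M T B) (hM : MLK.{u, v}) (tm : ∀ t ∈ T, t • m = m) (hm : ¬ ∀ g : H, g • m = m) :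
    B ⊓ o2 (⊤ : Subgroup H) = ⊥ := by
  rw [eq_bot_iff, ← h.inf_eq_bot hM tm hm]
  refine le_inf (fun b hb => ?_) inf_le_left
  rw [mem_fxr_orb]
  intro g _
  have h1 : g⁻¹ * b * g ∈ o2 (⊤ : Subgroup H) := by
    have := (mem_normalizer_iff.1 (le_normalizer_o2 (⊤ : Subgroup H) (mem_top g⁻¹)) b).1 hb.2
    rwa [inv_inv] at this
  have h2 := tm _ (h.o2_top_le h1)
  rwa [mul_smul, mul_smul, inv_smul_eq_iff] at h2

/-- `[M, ⟨B^H⟩] ≤ ⟨m^H⟩` -/
theorem cmm_le (h : LB H M T B) (hM : MLK.{u, v}) (tm : ∀ t ∈ T, t • m = m) (hm : ¬ ∀ g : H, g • m = m) :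
    cmm M B ≤ orb (⊤ : Subgroup H) m := by
  have hWi : ∀ g : H, ∀ u ∈ orb (⊤ : Subgroup H) m, g • u ∈ orb (⊤ : Subgroup H) m :=
    fun g u hu => smul_mem_orb (mem_top g) hu
  refine cmm_le_of hWi fun b hb x => ?_
  have h1 : x ∈ orb (⊤ : Subgroup H) m ⊔ cv M (B : Set H) := by rw [h.sup_eq_top hM tm hm]; exact mem_top x
  have hn : (cv M (B : Set H)).Normal := normal_of_sq h.sq _
  obtain ⟨w, hw, c, hc, rfl⟩ := mem_sup_of_normal_right.1 h1
  have e : b • (w * c) * (w * c)⁻¹ = (b • w) * w⁻¹ := by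
    rw [smul_mul', hc b hb]; group
  rw [e]
  exact mul_mem (hWi b w hw) (inv_mem hw)

omit [Finite H] [Finite M] in
/-- `⟨m^H⟩ = ⟨m⟩ [M, ⟨B^H⟩]` -/
theorem orb_eq (h : LB H M T B) (tm : ∀ t ∈ T, t • m = m) (g : H) : (g • m) * m⁻¹ ∈ cmm M B := by
  have h1 : g ∈ Km B ⊔ T := by rw [h.gen]; exact mem_top g
  obtain ⟨k, hk, t, ht, rfl⟩ := mem_sup_of_normal_left.1 h1
  rw [mul_smul, tm t ht]
  exact mem_cmm hk m

/-- `[M, ⟨B^H⟩] ≤ W` as soon as `[[M, ⟨B^H⟩], B] ≤ W` -/
theorem cmm_perf (h : LB H M T B) (hM : MLK.{u, v}) (tm : ∀ t ∈ T, t • m = m) (hm : ¬ ∀ g : H, g • m = m)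
    {W : Subgroup M} (hW : ∀ g : H, ∀ u ∈ W, g • u ∈ W) (hB : ∀ b ∈ B, ∀ u ∈ cmm M B, (b • u) * u⁻¹ ∈ W) :
    cmm M B ≤ W := by
  have hcomm := comm_of_sq h.sq
  refine cmm_le_of hW fun b hb x => ?_
  have h1 : x ∈ orb (⊤ : Subgroup H) m ⊔ cv M (B : Set H) := by rw [h.sup_eq_top hM tm hm]; exact mem_top x
  have hn : (cv M (B : Set H)).Normal := normal_of_sq h.sq _
  obtain ⟨w, hw, c, hc, rfl⟩ := mem_sup_of_normal_right.1 h1
  have e : b • (w * c) * (w * c)⁻¹ = (b • w) * w⁻¹ := by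
    rw [smul_mul', hc b hb]; group
  rw [e]
  -- `w ∈ ⟨m⟩ [M, K]`
  have h2 : orb (⊤ : Subgroup H) m ≤ zpowers m ⊔ cmm M B := by
    refine orb_le fun g _ => ?_
    have h3 := h.orb_eq tm g
    have e2 : g • m = (g • m) * m⁻¹ * m := by group
    rw [e2]
    exact mul_mem (le_sup_right (a := zpowers m) h3) (le_sup_left (a := zpowers m) (mem_zpowers m))
  have hn2 : (cmm M B).Normal := normal_of_sq h.sq _
  obtain ⟨y, hy, u, hu, rfl⟩ := mem_sup_of_normal_right.1 (h2 hw)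
  have hby : b • y = y := by
    have h3 : zpowers m ≤ cv M ({b} : Set H) := by
      rw [zpowers_le]
      exact mem_cv_singleton.2 (tm b (h.BT hb))
    exact mem_cv_singleton.1 (h3 hy)
  have e3 : b • (y * u) * (y * u)⁻¹ = (b • u) * u⁻¹ := by
    rw [smul_mul', hby, mul_inv_rev, hcomm u⁻¹ y⁻¹, hcomm y (b • u)]; group
  rw [e3]
  exact hB b hb u hu

end vec

/-! ### Irreducibility -/

omit [Finite H] [Finite M] in
/-- a `T`-fixed vector centralised by `⟨B^H⟩` is fixed by `H` -/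
theorem fix_of_cvKm (h : LB H M T B) {u : M} (tu : ∀ t ∈ T, t • u = u) (hu : u ∈ cv M (Km B : Set H)) (g : H) :
    g • u = u := by
  have h1 : g ∈ Km B ⊔ T := by rw [h.gen]; exact mem_top g
  obtain ⟨k, hk, t, ht, rfl⟩ := mem_sup_of_normal_left.1 h1
  rw [mul_smul, tu t ht, hu k hk]

/-- `T`-fixed vectors, `T ≤ R`, fixed by `R` modulo an invariant `I` whose `T`-fixed vectors are fixed by `R` -/
theorem fix_of_mod (h : LB H M T B) {x : M} (tx : ∀ t ∈ T, t • x = x) {R : Subgroup H} (hTR : T ≤ R) {I : Subgroup M}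
    (hI : ∀ u ∈ I, (∀ t ∈ T, t • u = u) → ∀ g ∈ R, g • u = u) (hx : ∀ g ∈ R, (g • x) * x⁻¹ ∈ I) :
    ∀ g ∈ R, g • x = x := by
  obtain ⟨m0, h1, h2⟩ := exists_fix_coset (T := T) (R := R) h.sq (fun h3 => h.syl (h3.trans (relIndex_dvd_index_of_le hTR)))
    tx hx
  have h3 : ∀ t ∈ T, t • (m0 * x⁻¹) = m0 * x⁻¹ := fun t ht => by
    rw [smul_mul', smul_inv', h1 t (hTR ht), tx t ht]
  intro g hg
  have h4 := hI _ h2 h3 g hg
  rw [smul_mul', smul_inv', h1 g hg] at h4
  exact inv_injective (mul_left_cancel h4)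

/-- **an invariant proper subgroup of `U¹` is centralised by `⟨B^H⟩`** -/
theorem irr (h : LB H M T B) (hM : MLK.{u, v}) {x : M} (tx : ∀ t ∈ T, t • x = x) (hx : ¬ ∀ g : H, g • x = x)
    (hxU : x ∈ cmm M B) {I : Subgroup M} (hI : ∀ g : H, ∀ u ∈ I, g • u ∈ I) (hxI : x ∉ I) :
    I ≤ cv M (Km B : Set H) := by
  have hn : I.Normal := normal_of_sq h.sq _
  -- the `T`-fixed vectors of `I` are fixed by `H`, or `I = U¹`
  by_cases hall : ∀ u ∈ I, (∀ t ∈ T, t • u = u) → ∀ g : H, g • u = u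
  · let _ := modAct (H := H) I hI
    have hsm : ∀ (g : H) (m : M), g • (QuotientGroup.mk m : M ⧸ I) = QuotientGroup.mk (g • m) := fun _ _ => rfl
    have hone : ∀ a b : M, (QuotientGroup.mk a : M ⧸ I) = QuotientGroup.mk b ↔ a * b⁻¹ ∈ I := by
      intro a b
      rw [QuotientGroup.eq_iff_div_mem, div_eq_mul_inv]
    set z : M ⧸ I := QuotientGroup.mk x with hz
    have sqV : ∀ y : M ⧸ I, y * y = 1 := by
      intro y
      obtain ⟨m, rfl⟩ := QuotientGroup.mk_surjective y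
      rw [← QuotientGroup.mk_mul, h.sq, QuotientGroup.mk_one]
    have tz : ∀ t ∈ T, t • z = z := fun t ht => by rw [hz, hsm, tx t ht]
    have hz' : ¬ ∀ g : H, g • z = z := by
      intro hc
      exact hx fun g => h.fix_of_mod tx (R := ⊤) le_top (fun u hu tu g _ => hall u hu tu g)
        (fun g _ => (hone _ _).1 (hc g)) g (mem_top g)
    have h2 := h.ml hM sqV tz hz' le_rfl
    rw [← inf_relIndex_right] at h2
    have h3 : fxr H (orb (⊤ : Subgroup H) z) ⊓ B = ⊥ := by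
      rw [eq_bot_iff, ← h.B_inf_o2 hM tx hx]
      exact le_inf inf_le_right (h.fxr_inf_le tz hz')
    rw [h3, relIndex_bot_left] at h2
    -- `C_M(B) I / I`
    have hn2 : (cv (M ⧸ I) (B : Set H)).Normal := normal_of_sq sqV _
    have h4 : (cv (M ⧸ I) (B : Set H)).relIndex (orb (⊤ : Subgroup H) z) ≤ (cv (M ⧸ I) (B : Set H)).index :=
      Nat.le_of_dvd (Nat.pos_of_ne_zero index_ne_zero_of_finite)
        (relIndex_dvd_index_of_normal _ _)
    have h5 : (cv (M ⧸ I) (B : Set H)).index = ((cv (M ⧸ I) (B : Set H)).comap (QuotientGroup.mk' I)).index :=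
      (index_comap_of_surjective _ (QuotientGroup.mk'_surjective I)).symm
    have h6 : cv M (B : Set H) ≤ (cv (M ⧸ I) (B : Set H)).comap (QuotientGroup.mk' I) := by
      intro m hm b hb
      change b • (QuotientGroup.mk m : M ⧸ I) = QuotientGroup.mk m
      rw [hsm, hm b hb]
    have h7 : I ≤ (cv (M ⧸ I) (B : Set H)).comap (QuotientGroup.mk' I) := by
      intro m hm b hb
      change b • (QuotientGroup.mk m : M ⧸ I) = QuotientGroup.mk m
      rw [(QuotientGroup.eq_one_iff m).2 hm, smul_one]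
    have h8 := relIndex_mul_index h6
    rw [h.exact, ← h5] at h8
    have h9 : (cv M (B : Set H)).relIndex ((cv (M ⧸ I) (B : Set H)).comap (QuotientGroup.mk' I)) = 1 := by
      have h10 : 0 < (cv (M ⧸ I) (B : Set H)).index := Nat.pos_of_ne_zero index_ne_zero_of_finite
      have h11 : 0 < Nat.card B := Nat.card_pos
      have h12 : 0 < (cv M (B : Set H)).relIndex ((cv (M ⧸ I) (B : Set H)).comap (QuotientGroup.mk' I)) := by
        rw [Nat.pos_iff_ne_zero]
        intro h13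
        rw [h13, zero_mul] at h8
        omega
      by_contra h13
      have h14 : 2 ≤ (cv M (B : Set H)).relIndex ((cv (M ⧸ I) (B : Set H)).comap (QuotientGroup.mk' I)) := by omega
      have h15 := Nat.mul_le_mul_right (cv (M ⧸ I) (B : Set H)).index h14
      omega
    exact le_cvKm hI (h7.trans (relIndex_eq_one.1 h9))
  · push Not at hall
    obtain ⟨u, hu, tu, g, hg⟩ := hall
    exact absurd (orb_le (fun g _ => hI g u hu) (h.cmm_le hM tu (fun hc => hg (hc g)) hxU)) hxI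

end LB

end Cfsg.Agent.Omega.NO3S.EMany.Low

end

section


/-!
# The machine: the section `N = U¹ / U₀` and the group `H / C_H(N)` (bb #21609 (4), #21788 (f4))

For `h : LB H M T B` and a `T`-fixed `x ∈ U¹ = [M, ⟨B^H⟩]` moved by `H`:

* `Sec H M B N f` : `N = U¹ / C_{U¹}(⟨B^H⟩)`, `f : U¹ → N`;  `exists_sec`;
* `Sec.fix_iff`, `Sec.ne_one_iff` : a `T`-fixed `u ∈ U¹` and its image have the same stabiliser over `T`; the image is
  not 1 iff `H` moves `u`;
* `Sec.irr` : `N` is irreducible;  `Sec.exists_atom` : an atom `A ≤ B` of `N` with `LB H N T A`;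
* **`Out H M T B H' N π f A'`** : `π : H → H' = H / C_H(N)`, `f : U¹ → N`, `H'` faithful and irreducible on `N`,
  `A' ≤ π(B)`, `LB H' N π(T) A'`;  **`exists_out`**.
-/

set_option autoImplicit false

namespace Cfsg.Agent.Omega.NO3S.EMany.Low

open Subgroup Cfsg Cfsg.Agent.ZN Cfsg.Agent.ClassTwoFusion.Quad Cfsg.Agent.Omega.ML.MinFrame
open Cfsg.Agent.Omega.ML.Final
open Cfsg.Agent.MinSimple.VModule (o2_isPGroup o2_le le_o2 le_normalizer_o2 o2_le_of_sylow)

universe u v w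

/-- `N = U¹ / C_{U¹}(⟨B^H⟩)` -/
structure Sec (H : Type u) [Group H] (M : Type v) [Group M] [MulDistribMulAction H M] (B : Subgroup H) (N : Type w)
    [Group N] [MulDistribMulAction H N] (f : ↥(cmm M B) →* N) : Prop where
  surj : Function.Surjective f
  eqv : ∀ (g : H) (u : ↥(cmm M B)), f ⟨g • (u : M), smul_mem_cmm g u.2⟩ = g • f u
  ker : ∀ u : ↥(cmm M B), f u = 1 ↔ (u : M) ∈ cv M (Km B : Set H)

section

variable {H : Type u} [Group H] [Finite H] {M : Type v} [Group M] [Finite M] [MulDistribMulAction H M]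
  {T B : Subgroup H}

omit [Finite H] in
theorem LB.exists_sec (h : LB H M T B) : ∃ (N : Type v) (_ : Group N) (_ : Finite N) (_ : MulDistribMulAction H N)
    (f : ↥(cmm M B) →* N), Sec H M B N f := by
  let _ := subAct (H := H) (cmm M B) (fun g u hu => smul_mem_cmm g hu)
  let U0 : Subgroup ↥(cmm M B) := (cv M (Km B : Set H)).subgroupOf (cmm M B)
  have hn : U0.Normal := normal_of_sq (fun u => Subtype.ext (h.sq u)) _
  let _ := modAct (H := H) U0 (fun g u hu => smul_mem_cvKm g hu)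
  refine ⟨↥(cmm M B) ⧸ U0, inferInstance, inferInstance, inferInstance, QuotientGroup.mk' U0,
    ⟨QuotientGroup.mk'_surjective _, fun g u => rfl, fun u => ?_⟩⟩
  rw [QuotientGroup.mk'_apply, QuotientGroup.eq_one_iff]
  exact Iff.rfl

namespace Sec

variable {N : Type v} [Group N] [Finite N] [MulDistribMulAction H N] {f : ↥(cmm M B) →* N}

omit [Finite H] [Finite M] [Finite N] in
theorem sqN (s : Sec H M B N f) (h : LB H M T B) (n : N) : n * n = 1 := by
  obtain ⟨u, rfl⟩ := s.surj n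
  rw [← map_mul, ← map_one f]
  exact congrArg f (Subtype.ext (h.sq u))

omit [Finite H] [Finite M] [Finite N] in
theorem smul_eq_iff (s : Sec H M B N f) (g : H) (u : ↥(cmm M B)) :
    g • f u = f u ↔ (g • (u : M)) * (u : M)⁻¹ ∈ cv M (Km B : Set H) := by
  rw [← s.eqv, ← mul_inv_eq_one, ← map_inv, ← map_mul, s.ker]
  exact Iff.rfl

omit [Finite H] [Finite M] [Finite N] in
theorem tfix (s : Sec H M B N f) {u : ↥(cmm M B)} {g : H} (hg : g • (u : M) = u) : g • f u = f u := by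
  rw [s.smul_eq_iff, hg, mul_inv_cancel]
  exact one_mem _

omit [Finite N] in
/-- the stabilisers over `T` -/
theorem fix_iff (s : Sec H M B N f) (h : LB H M T B) {u : ↥(cmm M B)} (tu : ∀ t ∈ T, t • (u : M) = u) {R : Subgroup H}
    (hTR : T ≤ R) : (∀ g ∈ R, g • f u = f u) ↔ ∀ g ∈ R, g • (u : M) = u := by
  refine ⟨fun hR => ?_, fun hR g hg => s.tfix (hR g hg)⟩
  exact h.fix_of_mod tu hTR (I := cv M (Km B : Set H)) (fun w hw tw g _ => h.fix_of_cvKm tw hw g)
    fun g hg => (s.smul_eq_iff g u).1 (hR g hg)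

omit [Finite H] [Finite M] [Finite N] in
theorem ne_one_iff (s : Sec H M B N f) (h : LB H M T B) {u : ↥(cmm M B)} (tu : ∀ t ∈ T, t • (u : M) = u) :
    f u ≠ 1 ↔ ¬ ∀ g : H, g • (u : M) = u := by
  rw [Ne, s.ker]
  exact not_congr ⟨fun hu g => h.fix_of_cvKm tu hu g, fun hu k _ => hu k⟩

omit [Finite N] in
/-- `N` is irreducible -/
theorem irr (s : Sec H M B N f) (h : LB H M T B) (hM : MLK.{u, v}) {x : M} (tx : ∀ t ∈ T, t • x = x)
    (hx : ¬ ∀ g : H, g • x = x) (hxU : x ∈ cmm M B) (W : Subgroup N) (hW : ∀ g : H, ∀ w ∈ W, g • w ∈ W) :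
    W = ⊥ ∨ W = ⊤ := by
  let I : Subgroup M := (W.comap f).map (cmm M B).subtype
  have hmem : ∀ u : ↥(cmm M B), (u : M) ∈ I ↔ f u ∈ W := by
    intro u
    constructor
    · rintro ⟨w, hw, hwu⟩
      rw [← (Subtype.ext hwu : w = u)]
      exact hw
    · exact fun hu => ⟨u, hu, rfl⟩
  have hI : ∀ g : H, ∀ u ∈ I, g • u ∈ I := by
    rintro g _ ⟨u, hu, rfl⟩
    refine (hmem ⟨g • (u : M), smul_mem_cmm g u.2⟩).2 ?_
    rw [s.eqv]
    exact hW g _ hu
  by_cases hxI : x ∈ I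
  · right
    rw [eq_top_iff]
    intro n _
    obtain ⟨u, rfl⟩ := s.surj n
    exact (hmem u).1 (orb_le (fun g _ => hI g x hxI) (h.cmm_le hM tx hx u.2))
  · left
    rw [eq_bot_iff]
    intro n hn
    obtain ⟨u, rfl⟩ := s.surj n
    rw [mem_bot, s.ker]
    exact h.irr hM tx hx hxU hI hxI ((hmem u).2 hn)

omit [Finite H] [Finite N] in
/-- `|N : C_N(B)| ≤ |B|` -/
theorem index_le (s : Sec H M B N f) (h : LB H M T B) : (cv N (B : Set H)).index ≤ Nat.card B := by
  have h1 : (cv N (B : Set H)).index = ((cv N (B : Set H)).comap f).index :=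
    (index_comap_of_surjective _ s.surj).symm
  have h2 : (cv M (B : Set H)).subgroupOf (cmm M B) ≤ (cv N (B : Set H)).comap f := by
    intro u hu b hb
    exact s.tfix (hu b hb)
  have h3 : (cv M (B : Set H)).relIndex (cmm M B) ∣ (cv M (B : Set H)).index := by
    have hn : (cv M (B : Set H)).Normal := normal_of_sq h.sq _
    exact relIndex_dvd_index_of_normal _ _
  rw [h1, ← h.exact]
  refine (Nat.le_of_dvd ?_ (index_dvd_of_le h2)).trans (Nat.le_of_dvd ?_ h3)
  · exact Nat.pos_of_ne_zero (index_ne_zero_of_finite (H := (cv M (B : Set H)).subgroupOf (cmm M B)))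
  · exact Nat.pos_of_ne_zero index_ne_zero_of_finite

/-- **an atom of `N` in `B`** -/
theorem exists_atom (s : Sec H M B N f) (h : LB H M T B) (hM : MLK.{u, v}) {x : M} (tx : ∀ t ∈ T, t • x = x)
    (hx : ¬ ∀ g : H, g • x = x) (hxU : x ∈ cmm M B) : ∃ A ≤ B, LB H N T A := by
  have hsq := s.sqN h
  set z : N := f ⟨x, hxU⟩ with hz
  have tz : ∀ t ∈ T, t • z = z := fun t ht => s.tfix (tx t ht)
  have hz' : ¬ ∀ g : H, g • z = z := fun hc =>
    hx fun g => (s.fix_iff h (u := ⟨x, hxU⟩) tx (R := ⊤) le_top).1 (fun g _ => hc g) g (mem_top g)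
  have hdis : B ⊓ o2 (⊤ : Subgroup H) = ⊥ := h.B_inf_o2 hM tx hx
  -- sub-exactness
  have hsub : ∀ C ≤ B, Nat.card C ≤ (cv N (C : Set H)).index := by
    intro C hC
    have h1 := h.ml hM hsq tz hz' hC
    have h2 : fxr H (orb (⊤ : Subgroup H) z) ⊓ C = ⊥ := by
      rw [eq_bot_iff, ← hdis]
      exact le_inf (inf_le_right.trans hC) ((inf_le_inf_left _ hC).trans (h.fxr_inf_le tz hz'))
    rw [← inf_relIndex_right, h2, relIndex_bot_left] at h1
    have hn2 : (cv N (C : Set H)).Normal := normal_of_sq hsq _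
    exact h1.trans (Nat.le_of_dvd (Nat.pos_of_ne_zero index_ne_zero_of_finite) (relIndex_dvd_index_of_normal _ _))
  obtain ⟨A, ⟨hAB, hA1, hAi⟩, hmin⟩ : ∃ A : Subgroup H, (A ≤ B ∧ A ≠ ⊥ ∧ (cv N (A : Set H)).index ≤ Nat.card A) ∧
      ∀ C : Subgroup H, (C ≤ B ∧ C ≠ ⊥ ∧ (cv N (C : Set H)).index ≤ Nat.card C) → C ≤ A → C = A := by
    have hfin : {A : Subgroup H | A ≤ B ∧ A ≠ ⊥ ∧ (cv N (A : Set H)).index ≤ Nat.card A}.Finite :=
      Set.toFinite _
    obtain ⟨A, hA⟩ := hfin.exists_minimal ⟨B, le_rfl, h.B1, s.index_le h⟩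
    exact ⟨A, hA.1, fun C hC hCA => le_antisymm hCA (hA.2 hC hCA)⟩
  refine ⟨A, hAB, hsq, h.two, h.syl, hAB.trans h.BT, fun a ha => h.el a (hAB ha), le_antisymm hAi (hsub A hAB), ?_,
    fun R hTR hR => hAB.trans (h.low R hTR hR), ?_, h.KH⟩
  · intro C hCA hC1 hCne
    by_contra hc
    exact hCne (hmin C ⟨hCA.trans hAB, hC1, not_lt.1 hc⟩ hCA)
  · intro hc
    apply hA1
    rw [eq_bot_iff, ← hdis]
    exact le_inf hAB hc

end Sec

/-! ### The quotient -/

/-- **The output of the machine** -/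
structure Out (H : Type u) [Group H] (M : Type v) [Group M] [MulDistribMulAction H M] (T B : Subgroup H)
    (H' : Type u) [Group H'] (N : Type v) [Group N] [MulDistribMulAction H' N] (π : H →* H')
    (f : ↥(cmm M B) →* N) (A' : Subgroup H') : Prop where
  πs : Function.Surjective π
  fs : Function.Surjective f
  eqv : ∀ (g : H) (u : ↥(cmm M B)), f ⟨g • (u : M), smul_mem_cmm g u.2⟩ = π g • f u
  ker : ∀ u : ↥(cmm M B), f u = 1 ↔ (u : M) ∈ cv M (Km B : Set H)
  faith : ∀ h : H', (∀ n : N, h • n = n) → h = 1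
  irr : ∀ W : Subgroup N, (∀ h : H', ∀ w ∈ W, h • w ∈ W) → W = ⊥ ∨ W = ⊤
  lb : LB H' N (T.map π) A'
  AB : A' ≤ B.map π

omit [Finite M] in
/-- passage to the faithful quotient, `N` irreducible -/
theorem LB.quo {A : Subgroup H} (h : LB H M T A) (hM : MLK.{u, v}) {z : M} (tz : ∀ t ∈ T, t • z = z)
    (hz : ¬ ∀ g : H, g • z = z) [Finite M] (hirr : ∀ W : Subgroup M, (∀ h : H, ∀ w ∈ W, h • w ∈ W) → W = ⊥ ∨ W = ⊤) :
    ∃ (H' : Type u) (_ : Group H') (_ : Finite H') (_ : MulDistribMulAction H' M) (π : H →* H'),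
      Function.Surjective π ∧ (∀ (g : H) (m : M), π g • m = g • m) ∧ (∀ h : H', (∀ n : M, h • n = n) → h = 1) ∧
      LB H' M (T.map π) (A.map π) := by
  have hN : (fxr H (⊤ : Subgroup M)).Normal := fxr_normal fun _ _ _ => mem_top _
  have htriv : ∀ x ∈ fxr H (⊤ : Subgroup M), ∀ m : M, x • m = m := fun x hx m => hx m (mem_top m)
  set K := fxr H (⊤ : Subgroup M) with hKdef
  let _ := quoAct K htriv
  let π : H →* H ⧸ K := QuotientGroup.mk' K
  have hπ : Function.Surjective π := QuotientGroup.mk'_surjective K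
  have he : ∀ (g : H) (v : M), π g • v = g • v := fun _ _ => rfl
  have hfaith : ∀ h : H ⧸ K, (∀ n : M, h • n = n) → h = 1 := by
    intro g' hg
    obtain ⟨g, rfl⟩ := hπ g'
    exact (QuotientGroup.eq_one_iff g).2 fun v _ => hg v
  refine ⟨H ⧸ K, inferInstance, inferInstance, inferInstance, π, hπ, he, hfaith, ?_⟩
  -- `A ∩ K = 1`
  have hker : ∀ a ∈ A, π a = 1 → a = 1 := by
    intro a ha ha1
    have h1 : a ∈ K := (QuotientGroup.eq_one_iff a).1 ha1
    have h2 : a ∈ fxr H (orb (⊤ : Subgroup H) z) ⊓ A := ⟨fun m _ => h1 m (mem_top m), ha⟩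
    rw [h.inf_eq_bot hM tz hz] at h2
    exact mem_bot.1 h2
  have hinj : ∀ C ≤ A, Nat.card (C.map π) = Nat.card C := by
    intro C hC
    have h1 : Function.Injective (π.subgroupMap C) := by
      rw [injective_iff_map_eq_one]
      intro c hc
      exact Subtype.ext (hker c (hC c.2) (congrArg Subtype.val hc))
    exact (Nat.card_congr (Equiv.ofBijective _ ⟨h1, π.subgroupMap_surjective C⟩)).symm
  have hcv : ∀ C : Subgroup H, cv M ((C.map π : Subgroup (H ⧸ K)) : Set (H ⧸ K)) = cv M (C : Set H) := by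
    intro C
    ext m
    constructor
    · exact fun hm c hc => hm _ ⟨c, hc, rfl⟩
    · rintro hm _ ⟨c, hc, rfl⟩
      exact hm c hc
  have hA1 : A.map π ≠ ⊥ := by
    intro h1
    have h2 := hinj A le_rfl
    rw [h1, card_bot] at h2
    exact h.B1 (Subgroup.eq_bot_of_card_eq _ h2.symm)
  refine ⟨h.sq, h.two.map _, fun h2 => h.syl (h2.trans (index_map_dvd T hπ)), map_mono h.BT, ?_, ?_, ?_, ?_, ?_,
    sec_KG.quo H h.KH K⟩
  · rintro _ ⟨a, ha, rfl⟩
    rw [← map_mul, h.el a ha, map_one]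
  · rw [hcv, hinj A le_rfl, h.exact]
  · intro C' hC' hC1 hCA
    let C := C'.comap π ⊓ A
    have h1 : C.map π = C' := by
      apply le_antisymm
      · rintro _ ⟨c, hc, rfl⟩
        exact hc.1
      · intro c' hc'
        obtain ⟨a, ha, rfl⟩ := hC' hc'
        exact ⟨a, ⟨hc', ha⟩, rfl⟩
    rw [← h1, hinj C inf_le_right, hcv]
    refine h.atom C inf_le_right ?_ ?_
    · intro h2
      rw [h2, Subgroup.map_bot] at h1
      exact hC1 h1.symm
    · intro h2
      rw [h2] at h1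
      exact hCA h1.symm
  · intro R' hTR hR
    have h1 : T ≤ R'.comap π := map_le_iff_le_comap.1 hTR
    have h2 : R'.comap π ≠ ⊤ := by
      intro h3
      apply hR
      rw [← map_comap_eq_self_of_surjective hπ R', h3, ← MonoidHom.range_eq_map, MonoidHom.range_eq_top.2 hπ]
    have h3 := h.low _ h1 h2
    have h4 : (o2 (R'.comap π)).map π ≤ o2 R' := by
      refine le_o2 ?_ ((o2_isPGroup _).map _) ?_
      · rw [map_le_iff_le_comap]
        exact o2_le _
      · intro r' hr'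
        obtain ⟨r, rfl⟩ := hπ r'
        have h5 := le_normalizer_o2 (R'.comap π) (show r ∈ R'.comap π from hr')
        have h6 : π r ∈ (normalizer (o2 (R'.comap π) : Set H)).map π := ⟨r, h5, rfl⟩
        exact le_normalizer_map π h6
    exact (map_mono h3).trans h4
  · intro hc
    -- `O₂(H')` acts trivially
    apply hA1
    have h1 : o2 (⊤ : Subgroup (H ⧸ K)) = ⊥ := by
      have hW : ∀ g : H ⧸ K, ∀ w ∈ cv M ((o2 (⊤ : Subgroup (H ⧸ K)) : Subgroup (H ⧸ K)) : Set (H ⧸ K)),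
          g • w ∈ cv M ((o2 (⊤ : Subgroup (H ⧸ K)) : Subgroup (H ⧸ K)) : Set (H ⧸ K)) := by
        intro g w hw k hk
        have h3 : g⁻¹ * k * g ∈ o2 (⊤ : Subgroup (H ⧸ K)) := by
          have := (mem_normalizer_iff.1 (le_normalizer_o2 (⊤ : Subgroup (H ⧸ K)) (mem_top g⁻¹)) k).1 hk
          rwa [inv_inv] at this
        have h4 := hw _ h3
        rwa [mul_smul, mul_smul, inv_smul_eq_iff] at h4
      have hirr' := hirr (cv M ((o2 (⊤ : Subgroup (H ⧸ K)) : Subgroup (H ⧸ K)) : Set (H ⧸ K)))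
        (fun g w hw => by rw [← he]; exact hW (π g) w hw)
      have hne : cv M ((o2 (⊤ : Subgroup (H ⧸ K)) : Subgroup (H ⧸ K)) : Set (H ⧸ K)) ≠ ⊥ := by
        intro h3
        have h4 : z ∈ cv M ((o2 (⊤ : Subgroup (H ⧸ K)) : Subgroup (H ⧸ K)) : Set (H ⧸ K)) := by
          intro k hk
          have h5 : o2 (⊤ : Subgroup (H ⧸ K)) ≤ T.map π :=
            o2_le_of_sylow (h.two.map _) (by
              rw [relIndex_top_right]
              exact fun h2 => h.syl (h2.trans (index_map_dvd T hπ)))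
          obtain ⟨t, ht, rfl⟩ := h5 hk
          rw [he, tz t ht]
        rw [h3, mem_bot] at h4
        exact hz fun g => by rw [h4, smul_one]
      have htop := hirr'.resolve_left hne
      rw [eq_bot_iff]
      intro k hk
      rw [mem_bot]
      exact hfaith k fun n => (htop ▸ mem_top n : n ∈ cv M ((o2 (⊤ : Subgroup (H ⧸ K)) : Subgroup (H ⧸ K)) :
        Set (H ⧸ K))) k hk
    rw [h1] at hc
    exact le_bot_iff.1 hc

/-- **The machine** -/
theorem LB.exists_out (h : LB H M T B) (hM : MLK.{u, v}) {x : M} (tx : ∀ t ∈ T, t • x = x)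
    (hx : ¬ ∀ g : H, g • x = x) (hxU : x ∈ cmm M B) :
    ∃ (H' : Type u) (_ : Group H') (_ : Finite H') (N : Type v) (_ : Group N) (_ : Finite N)
      (_ : MulDistribMulAction H' N) (π : H →* H') (f : ↥(cmm M B) →* N) (A' : Subgroup H'),
      Out H M T B H' N π f A' := by
  obtain ⟨N, _, _, _, f, s⟩ := h.exists_sec
  obtain ⟨A, hAB, hA⟩ := s.exists_atom h hM tx hx hxU
  have tz : ∀ t ∈ T, t • f ⟨x, hxU⟩ = f ⟨x, hxU⟩ := fun t ht => s.tfix (tx t ht)
  have hz' : ¬ ∀ g : H, g • f ⟨x, hxU⟩ = f ⟨x, hxU⟩ := fun hc =>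
    hx fun g => (s.fix_iff h (u := ⟨x, hxU⟩) tx (R := ⊤) le_top).1 (fun g _ => hc g) g (mem_top g)
  have hirr := s.irr h hM tx hx hxU
  obtain ⟨H', _, _, _, π, hπ, he, hfaith, hlb⟩ := hA.quo hM tz hz' hirr
  refine ⟨H', inferInstance, inferInstance, N, inferInstance, inferInstance, inferInstance, π, f, A.map π,
    hπ, s.surj, fun g u => by rw [s.eqv, he], s.ker, hfaith, ?_, hlb, map_mono hAB⟩
  intro W hW
  exact hirr W fun g w hw => by rw [← he]; exact hW (π g) w hw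

end

end Cfsg.Agent.Omega.NO3S.EMany.Low

end

section


/-!
# THEOREM KL* (helper23, bb #22505 (I)), the core: the second vector out of a `T`-invariant subgroup

`h : LB H M T A`, `x` a `T`-fixed vector moved by `H`, `Y ≤ M` invariant under `T`, `H ≠ C_H(Y) T`.

* `oddGen_sup` : `P = O²(P) T`;
* `exists_shift` : an `H`-translate `x₁ = x₀ x⁻¹ ∈ U¹` of `x`;
* `exists_vec` : `u ∈ (Y W) ∩ U¹`, not centralised by `⟨A^H⟩`, `W` the vectors fixed by `⟨A^H⟩` modulo `U₀`;
* **`core`** : the section `N = U¹ / U₀` with `LB H N T A'` and two `T`-fixed vectors `x'`, `u'`, moved by `H`; the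
  stabilisers of `x'` and `x` agree over `T`; an element of odd order which centralises `Y` fixes `u'`.
-/

set_option autoImplicit false

namespace Cfsg.Agent.Omega.KL.Star.Core

open Subgroup Cfsg Cfsg.Agent.ZN Cfsg.Agent.ClassTwoFusion.Quad
open Cfsg.Agent.Omega.ML.MinFrame hiding comm_of_sq
open Cfsg.Agent.Omega.ML.Final Cfsg.Agent.Omega.NO3S.EMany.Low
open Cfsg.Agent.MinSimple.VModule (o2_isPGroup o2_le le_o2 le_normalizer_o2 o2_le_of_sylow oddGen oddGen_le mem_oddGen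
  oddGen_def le_normalizer_oddGen)
open Cfsg.Agent.MinSimple.MinParabolic (IsMinPar)

universe u v

section grp

variable {G : Type*} [Group G]

/-- `P = O²(P) S`, `S` a Sylow 2-subgroup of `P` -/
theorem oddGen_sup [Finite G] {P S : Subgroup G} (hSP : S ≤ P) (hS : ¬ 2 ∣ S.relIndex P) : oddGen P ⊔ S = P := by
  have : Fact (Nat.Prime 2) := ⟨Nat.prime_two⟩
  apply le_antisymm (sup_le (oddGen_le P) hSP)
  have hN : ((oddGen P).subgroupOf P).Normal := normal_subgroupOf_of_le_normalizer (le_normalizer_oddGen P)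
  have h1 : IsPGroup 2 (P ⧸ (oddGen P).subgroupOf P) := by
    intro q
    obtain ⟨x, rfl⟩ := QuotientGroup.mk_surjective q
    obtain ⟨a, m, hm, ha⟩ := Nat.exists_eq_pow_mul_and_not_dvd (orderOf_pos (x : G)).ne' 2 (by norm_num)
    refine ⟨a, ?_⟩
    rw [← QuotientGroup.mk_pow, QuotientGroup.eq_one_iff, mem_subgroupOf]
    refine mem_oddGen (P.pow_mem x.2 _) ?_
    have hm0 : 0 < m := Nat.pos_of_ne_zero (by rintro rfl; simp at hm)
    have h2 : orderOf ((x : G) ^ 2 ^ a) = m := by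
      rw [orderOf_pow_of_dvd (by positivity) (ha ▸ Dvd.intro _ rfl), ha, Nat.mul_div_cancel_left _ (by positivity)]
    rw [coe_pow, h2]
    exact Nat.not_even_iff_odd.1 fun h => hm h.two_dvd
  obtain ⟨k, hk⟩ := IsPGroup.iff_card.1 h1
  have h2 : (oddGen P ⊔ S).relIndex P ∣ 2 ^ k := by
    have h3 : (oddGen P ⊔ S).relIndex P ∣ (oddGen P).relIndex P := relIndex_dvd_of_le_left _ le_sup_left
    have h4 : (oddGen P).relIndex P = 2 ^ k := by
      rw [← hk, relIndex, index_eq_card]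
    rwa [h4] at h3
  obtain ⟨j, -, hj⟩ := (Nat.dvd_prime_pow Nat.prime_two).1 h2
  have h5 : (oddGen P ⊔ S).relIndex P ∣ S.relIndex P := relIndex_dvd_of_le_left _ le_sup_right
  rw [hj] at h5
  have h6 : j = 0 := by
    by_contra hj0
    exact hS ((dvd_pow_self 2 hj0).trans h5)
  rw [h6, pow_zero] at hj
  exact relIndex_eq_one.1 hj

/-- an element of odd order lies in a normal subgroup `K` with `K T = G`, `T` a 2-group -/
theorem mem_of_odd {K T : Subgroup G} [hK : K.Normal] (hT : IsPGroup 2 T) (hKT : K ⊔ T = ⊤) {g : G}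
    (hg : Odd (orderOf g)) : g ∈ K := by
  have h1 : g ∈ K ⊔ T := hKT ▸ mem_top g
  obtain ⟨k, hk, t, ht, rfl⟩ := mem_sup_of_normal_left.1 h1
  obtain ⟨n, hn⟩ := hT ⟨t, ht⟩
  have hn' : t ^ 2 ^ n = 1 := congrArg Subtype.val hn
  set g := k * t with hgdef
  -- `g ^ 2 ^ n ∈ K`
  have h2 : (QuotientGroup.mk g : G ⧸ K) ^ 2 ^ n = 1 := by
    have h3 : (QuotientGroup.mk g : G ⧸ K) = QuotientGroup.mk t := by
      rw [hgdef, QuotientGroup.mk_mul, (QuotientGroup.eq_one_iff k).2 hk, one_mul]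
    rw [h3, ← QuotientGroup.mk_pow, hn', QuotientGroup.mk_one]
  have h3 : orderOf (QuotientGroup.mk g : G ⧸ K) ∣ 2 ^ n := orderOf_dvd_of_pow_eq_one h2
  have h4 : orderOf (QuotientGroup.mk g : G ⧸ K) ∣ orderOf g := orderOf_map_dvd (QuotientGroup.mk' K) g
  have h5 : (2 ^ n).Coprime (orderOf g) := Nat.Coprime.pow_left n (Nat.coprime_two_left.mpr hg)
  have h6 : orderOf (QuotientGroup.mk g : G ⧸ K) = 1 := Nat.eq_one_of_dvd_coprimes h5 h3 h4
  exact (QuotientGroup.eq_one_iff g).1 (orderOf_eq_one_iff.1 h6)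

/-- a 2-group acting on a 2-group `≠ 1` fixes a vector `≠ 1` -/
theorem exists_fix {M : Type*} [Group M] [Finite M] [MulDistribMulAction G M] [Finite G] (sq : ∀ m : M, m * m = 1)
    {T : Subgroup G} (hT : IsPGroup 2 T) {W : Subgroup M} (hW : ∀ t ∈ T, ∀ w ∈ W, t • w ∈ W) (hne : W ≠ ⊥) :
    ∃ w ∈ W, w ≠ 1 ∧ ∀ t ∈ T, t • w = w := by
  classical
  have : Fact (Nat.Prime 2) := ⟨Nat.prime_two⟩
  let _ : MulAction T W := 
    { smul := fun t w => ⟨(t : G) • (w : M), hW t t.2 w w.2⟩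
      one_smul := fun w => Subtype.ext (one_smul G (w : M))
      mul_smul := fun s t w => Subtype.ext (mul_smul (s : G) (t : G) (w : M)) }
  have hW2 : IsPGroup 2 W := fun w => ⟨1, Subtype.ext (by rw [pow_one, pow_two]; exact sq w)⟩
  have h1 : 2 ∣ Nat.card W := by
    obtain ⟨k, hk⟩ := IsPGroup.iff_card.1 hW2
    rw [hk]
    refine dvd_pow_self 2 ?_
    rintro rfl
    rw [pow_zero] at hk
    exact hne (Subgroup.eq_bot_of_card_eq _ hk)
  have h2 : (1 : W) ∈ MulAction.fixedPoints T W := fun t => Subtype.ext (smul_one (t : G))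
  obtain ⟨w, hw, hw1⟩ := hT.exists_fixed_point_of_prime_dvd_card_of_fixed_point W h1 h2
  exact ⟨w, w.2, fun h => hw1 (Subtype.ext h.symm), fun t ht => congrArg Subtype.val (hw ⟨t, ht⟩)⟩

end grp

section core

variable {H : Type u} [Group H] [Finite H] {M : Type v} [Group M] [Finite M] [MulDistribMulAction H M]
  {T A : Subgroup H}

omit [Finite H] [Finite M] in
/-- an element of odd order which fixes `y` modulo a vector it fixes -/
theorem fix_of_odd (sq : ∀ m : M, m * m = 1) {g : H} (hg : Odd (orderOf g)) {y : M}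
    (hc : g • ((g • y) * y⁻¹) = (g • y) * y⁻¹) : g • y = y := by
  have hcomm := comm_of_sq sq
  have h1 : g • y = (g • y) * y⁻¹ * y := by group
  generalize (g • y) * y⁻¹ = c at hc h1
  have h2 : ∀ n : ℕ, g ^ n • y = c ^ n * y := by
    intro n
    induction n with
    | zero => simp
    | succ n ih =>
      have h3 : g • c ^ n = c ^ n := by rw [smul_pow', hc]
      rw [pow_succ', mul_smul, ih, smul_mul', h3, h1, pow_succ, mul_assoc]
  have h3 := h2 (orderOf g)
  rw [pow_orderOf_eq_one, one_smul] at h3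
  have h4 : c ^ orderOf g = 1 := by
    have := mul_right_cancel (a := c ^ orderOf g) (b := y) (c := 1) (by rw [← h3, one_mul])
    exact this
  obtain ⟨k, hk⟩ := hg
  rw [hk, pow_succ, pow_mul, pow_two, sq, one_pow, one_mul] at h4
  rw [h1, h4, one_mul]

/-- the vectors fixed by `⟨A^H⟩` modulo `C_M(⟨A^H⟩)` -/
def wz (M : Type v) [Group M] [MulDistribMulAction H M] (A : Subgroup H) (sq : ∀ m : M, m * m = 1) : Subgroup M where
  carrier := {w | ∀ k ∈ Km A, (k • w) * w⁻¹ ∈ cv M (Km A : Set H)}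
  one_mem' := fun k _ => by rw [smul_one, inv_one, mul_one]; exact one_mem _
  mul_mem' := fun {a b} ha hb k hk => by
    have hcomm := comm_of_sq sq
    have e : k • (a * b) * (a * b)⁻¹ = ((k • a) * a⁻¹) * ((k • b) * b⁻¹) := by
      rw [smul_mul', mul_inv_rev, hcomm b⁻¹ a⁻¹]
      calc k • a * k • b * (a⁻¹ * b⁻¹) = k • a * (k • b * a⁻¹) * b⁻¹ := by group
        _ = k • a * (a⁻¹ * k • b) * b⁻¹ := by rw [hcomm (k • b) a⁻¹]
        _ = _ := by group
    rw [e]
    exact mul_mem (ha k hk) (hb k hk)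
  inv_mem' := fun {a} ha k hk => by
    have h1 := inv_mem (ha k hk)
    have hcomm := comm_of_sq sq
    have e : k • a⁻¹ * a⁻¹⁻¹ = ((k • a) * a⁻¹)⁻¹ := by
      rw [smul_inv', inv_inv, mul_inv_rev, inv_inv, hcomm]
    rw [e]
    exact h1

omit [Finite H] [Finite M] in
theorem mem_wz {sq : ∀ m : M, m * m = 1} {w : M} :
    w ∈ wz M A sq ↔ ∀ k ∈ Km A, (k • w) * w⁻¹ ∈ cv M (Km A : Set H) := Iff.rfl

omit [Finite H] [Finite M] in
theorem smul_mem_wz {sq : ∀ m : M, m * m = 1} (g : H) {w : M} (hw : w ∈ wz M A sq) : g • w ∈ wz M A sq := by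
  intro k hk
  have h1 : g⁻¹ * k * g ∈ Km A := by
    have := (inferInstance : (Km A).Normal).conj_mem k hk g⁻¹
    rwa [inv_inv] at this
  have h2 := smul_mem_cvKm g (hw _ h1)
  rw [smul_mul', smul_inv', smul_smul] at h2
  have e : g * (g⁻¹ * k * g) = k * g := by group
  rwa [e, mul_smul] at h2

omit [Finite M] in
/-- **the second vector** -/
theorem exists_vec [Finite M] (h : LB H M T A) {Y : Subgroup M} (TY : ∀ t ∈ T, ∀ w ∈ Y, t • w ∈ Y)
    (hY : ¬ ∀ g : H, Odd (orderOf g) → ∀ w ∈ Y, g • w = w) :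
    ∃ u ∈ (Y ⊔ wz M A h.sq) ⊓ cmm M A, u ∉ cv M (Km A : Set H) := by
  by_contra hc
  push Not at hc
  apply hY
  intro g hg y hy
  have hgK : g ∈ Km A := mem_of_odd h.two h.gen hg
  have hcomm := comm_of_sq h.sq
  -- `y` is fixed by `T ∩ K₀` modulo `U₀`
  let U0 : Subgroup M := cv M (Km A : Set H) ⊓ cmm M A
  have hn0 : U0.Normal := normal_of_sq h.sq _
  have hU0 : ∀ g : H, ∀ m ∈ U0, g • m ∈ U0 := fun g m hm => ⟨smul_mem_cvKm g hm.1, smul_mem_cmm g hm.2⟩
  let _ := modAct (H := H) U0 hU0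
  have hsm : ∀ (g : H) (m : M), g • (QuotientGroup.mk m : M ⧸ U0) = QuotientGroup.mk (g • m) := fun _ _ => rfl
  have hone : ∀ a b : M, (QuotientGroup.mk a : M ⧸ U0) = QuotientGroup.mk b ↔ a * b⁻¹ ∈ U0 := by
    intro a b
    rw [QuotientGroup.eq_iff_div_mem, div_eq_mul_inv]
  have sqV : ∀ y : M ⧸ U0, y * y = 1 := by
    intro y
    obtain ⟨m, rfl⟩ := QuotientGroup.mk_surjective y
    rw [← QuotientGroup.mk_mul, h.sq, QuotientGroup.mk_one]
  have htop : ¬ 2 ∣ (T ⊓ Km A).relIndex (Km A) := by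
    rw [inf_relIndex_right, ← Lib.SylowNormalInf.relIndex_sup_of_normal]
    exact fun h3 => h.syl (h3.trans (relIndex_dvd_index_of_le le_sup_left))
  have htf : ∀ t ∈ T ⊓ Km A, t • (QuotientGroup.mk y : M ⧸ U0) = QuotientGroup.mk y := by
    intro t ht
    rw [hsm, hone]
    have h1 : (t • y) * y⁻¹ ∈ cmm M A := mem_cmm ht.2 y
    have h2 : (t • y) * y⁻¹ ∈ Y := mul_mem (TY t ht.1 y hy) (inv_mem hy)
    exact ⟨hc _ ⟨le_sup_left (a := Y) h2, h1⟩, h1⟩
  obtain ⟨m0, hm0, hm1⟩ := exists_fix_coset (H := H) (M := M ⧸ U0) (T := T ⊓ Km A) (R := Km A) sqV htop htf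
    (I := (cmm M A).map (QuotientGroup.mk' U0)) (fun k hk => by
      rw [hsm]
      exact ⟨(k • y) * y⁻¹, mem_cmm hk y, rfl⟩)
  obtain ⟨w, rfl⟩ := QuotientGroup.mk_surjective m0
  obtain ⟨v, hv, hvw⟩ := hm1
  -- `w y⁻¹ ∈ U¹`
  have hw1 : w * y⁻¹ ∈ cmm M A := by
    have h1 : (QuotientGroup.mk v : M ⧸ U0) = QuotientGroup.mk (w * y⁻¹) := hvw
    rw [hone] at h1
    have h2 : w * y⁻¹ = (v * (w * y⁻¹)⁻¹)⁻¹ * v := by group
    rw [h2]
    exact mul_mem (inv_mem h1.2) hv
  have hw2 : w ∈ wz M A h.sq := by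
    intro k hk
    have h1 := hm0 k hk
    rw [hsm, hone] at h1
    exact h1.1
  have hw3 : w * y⁻¹ ∈ cv M (Km A : Set H) := by
    refine hc _ ⟨mul_mem (le_sup_right (a := Y) hw2) (le_sup_left (a := Y) (inv_mem hy)), hw1⟩
  -- hence `y` is fixed by `K₀` modulo `U₀`
  have hy2 : (g • y) * y⁻¹ ∈ cv M (Km A : Set H) := by
    have h1 : y = (w * y⁻¹)⁻¹ * w := by group
    have h2 : y ∈ wz M A h.sq := by
      rw [h1]
      refine mul_mem (inv_mem ?_) hw2
      intro k hk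
      rw [hw3 k hk, mul_inv_cancel]
      exact one_mem _
    exact h2 g hgK
  exact fix_of_odd h.sq hg (hy2 g hgK)

omit [Finite M] in
/-- a translate of `x` in `U¹` -/
theorem exists_shift [Finite M] (h : LB H M T A) {x : M} (tx : ∀ t ∈ T, t • x = x) :
    ∃ x1 ∈ cmm M A, ∀ g : H, g • x1 = x1 ↔ g • x = x := by
  have hcomm := comm_of_sq h.sq
  obtain ⟨x0, h0, h1⟩ := exists_fix_coset (T := T) (R := ⊤) h.sq (by rw [relIndex_top_right]; exact h.syl) tx
    (I := cmm M A) (fun g _ => h.orb_eq tx g)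
  refine ⟨x0 * x⁻¹, h1, fun g => ?_⟩
  rw [smul_mul', smul_inv', h0 g (mem_top g), mul_right_inj, inv_inj]

/-- the output of the core -/
structure Cor (H : Type u) [Group H] (M : Type v) [Group M] [MulDistribMulAction H M] (T A : Subgroup H)
    (Y : Subgroup M) (x : M) (N : Type v) [Group N] [MulDistribMulAction H N] (A' : Subgroup H) (x' u' : N) : Prop where
  lb : LB H N T A'
  le : A' ≤ A
  tx : ∀ t ∈ T, t • x' = x'
  tu : ∀ t ∈ T, t • u' = u'
  mx : ¬ ∀ g : H, g • x' = x'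
  mu : ¬ ∀ g : H, g • u' = u'
  sx : ∀ R : Subgroup H, T ≤ R → ((∀ g ∈ R, g • x' = x') ↔ ∀ g ∈ R, g • x = x)
  su : ∀ g : H, Odd (orderOf g) → (∀ w ∈ Y, g • w = w) → g • u' = u'

/-- **The core of KL***. -/
theorem core (h : LB H M T A) (hM : MLK.{u, v}) {x : M} (tx : ∀ t ∈ T, t • x = x) (hx : ¬ ∀ g : H, g • x = x)
    {Y : Subgroup M} (TY : ∀ t ∈ T, ∀ w ∈ Y, t • w ∈ Y) (hY : ¬ ∀ g : H, Odd (orderOf g) → ∀ w ∈ Y, g • w = w) :
    ∃ (N : Type v) (_ : Group N) (_ : Finite N) (_ : MulDistribMulAction H N) (A' : Subgroup H) (x' u' : N),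
      Cor H M T A Y x N A' x' u' := by
  obtain ⟨x1, hx1, hs⟩ := exists_shift h tx
  have tx1 : ∀ t ∈ T, t • x1 = x1 := fun t ht => (hs t).2 (tx t ht)
  have hx1' : ¬ ∀ g : H, g • x1 = x1 := fun hc => hx fun g => (hs g).1 (hc g)
  obtain ⟨N, _, _, _, f, s⟩ := h.exists_sec
  obtain ⟨A', hAA, hA'⟩ := s.exists_atom h hM tx1 hx1' hx1
  obtain ⟨u, ⟨hu1, hu2⟩, hu3⟩ := exists_vec h TY hY
  -- the invariant subgroup
  let E : Subgroup N := ((Y ⊔ wz M A h.sq).subgroupOf (cmm M A)).map f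
  have hYW : ∀ t ∈ T, ∀ w ∈ Y ⊔ wz M A h.sq, t • w ∈ Y ⊔ wz M A h.sq := by
    intro t ht w hw
    have hn : (wz M A h.sq).Normal := normal_of_sq h.sq _
    obtain ⟨y, hy, w0, hw0, rfl⟩ := mem_sup_of_normal_right.1 hw
    rw [smul_mul']
    exact mul_mem (le_sup_left (a := Y) (TY t ht y hy)) (le_sup_right (a := Y) (smul_mem_wz t hw0))
  have hE : ∀ t ∈ T, ∀ w ∈ E, t • w ∈ E := by
    rintro t ht _ ⟨w, hw, rfl⟩
    refine ⟨⟨t • (w : M), smul_mem_cmm t w.2⟩, hYW t ht _ hw, ?_⟩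
    exact s.eqv t w
  have hE1 : E ≠ ⊥ := by
    intro h1
    have h2 : f ⟨u, hu2⟩ ∈ E := ⟨⟨u, hu2⟩, hu1, rfl⟩
    rw [h1, mem_bot, s.ker] at h2
    exact hu3 h2
  have sqN := s.sqN h
  obtain ⟨u', hu', hu'1, tu'⟩ := exists_fix sqN h.two hE hE1
  have hirr := s.irr h hM tx1 hx1' hx1
  refine ⟨N, inferInstance, inferInstance, inferInstance, A', f ⟨x1, hx1⟩, u', hA', hAA, fun t ht => s.tfix (tx1 t ht),
    tu', ?_, ?_, ?_, ?_⟩
  · exact fun hc => hx1' fun g => (s.fix_iff h (u := ⟨x1, hx1⟩) tx1 (R := ⊤) le_top).1 (fun g _ => hc g) g (mem_top g)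
  · intro hc
    -- the fixed vectors are an invariant subgroup
    have h1 : ∀ g : H, ∀ w ∈ cv N ((⊤ : Subgroup H) : Set H), g • w ∈ cv N ((⊤ : Subgroup H) : Set H) := by
      intro g w hw
      rw [hw g (mem_top g)]
      exact hw
    rcases hirr _ h1 with h2 | h2
    · have h3 : u' ∈ cv N ((⊤ : Subgroup H) : Set H) := fun g _ => hc g
      rw [h2] at h3
      exact hu'1 (mem_bot.1 h3)
    · refine hx1' fun g => (s.fix_iff h (u := ⟨x1, hx1⟩) tx1 (R := ⊤) le_top).1 (fun g _ => ?_) g (mem_top g)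
      have h3 : f ⟨x1, hx1⟩ ∈ cv N ((⊤ : Subgroup H) : Set H) := h2 ▸ mem_top _
      exact h3 g (mem_top g)
  · intro R hTR
    rw [s.fix_iff h (u := ⟨x1, hx1⟩) tx1 hTR]
    exact ⟨fun h1 g hg => (hs g).1 (h1 g hg), fun h1 g hg => (hs g).2 (h1 g hg)⟩
  · intro g hg hgY
    obtain ⟨w, hw, rfl⟩ := hu'
    rw [s.smul_eq_iff]
    have hgK : g ∈ Km A := mem_of_odd h.two h.gen hg
    have hn : (wz M A h.sq).Normal := normal_of_sq h.sq _
    have hw' : (w : M) ∈ Y ⊔ wz M A h.sq := hw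
    obtain ⟨y, hy, w0, hw0, hyw⟩ := mem_sup_of_normal_right.1 hw'
    rw [← hyw]
    have hcomm := comm_of_sq h.sq
    have e : g • (y * w0) * (y * w0)⁻¹ = (g • w0) * w0⁻¹ := by
      rw [smul_mul', hgY y hy, mul_inv_rev, hcomm y]
      calc g • w0 * y * (w0⁻¹ * y⁻¹) = g • w0 * (y * w0⁻¹) * y⁻¹ := by group
        _ = g • w0 * (w0⁻¹ * y) * y⁻¹ := by rw [hcomm y w0⁻¹]
        _ = _ := by group
    rw [e]
    exact hw0 g hgK

end core

end Cfsg.Agent.Omega.KL.Star.Core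

end

section


/-!
# The end of the machine: `LB ⟹ SysW` (bb #21609 (4), #21788 (f4)-(f6), #22180 (3), #22451 (B3))

* `SysW T A x y` : **the output**: `H` faithful and irreducible on the elementary abelian 2-group `M`, `T` a Sylow
  2-subgroup, `A ≤ T` an exact atom, `|A| ≥ 4`, `A ≤ O₂(R)` for `T ≤ R < H`, `T` in at least two maximal subgroups,
  `x ≠ y` non-trivial `T`-fixed vectors; every `T`-minimal `P` fixes a non-trivial vector; some `T`-minimal `P`
  moves `x` and fixes `y`;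
* `SysE T A x y` : moreover `N_H(T)` fixes a non-trivial vector;
* `four_le` : `|A| ≥ 4`;
* `LB.exists_sysW₀` : `Out` and `SysW` from `LB` and `T`-fixed vectors of `U¹ = [M, ⟨B^H⟩]`; `Out.fixN`.

The general input is in `LowGen.lean`.
-/

set_option autoImplicit false

namespace Cfsg.Agent.Omega.NO3S.EMany.Low

open Subgroup Cfsg Cfsg.Agent.ZN Cfsg.Agent.ClassTwoFusion.Quad Cfsg.Agent.Omega.ML.MinFrame
open Cfsg.Agent.Omega.ML.Final
open Cfsg.Agent.MinSimple.VModule (o2_isPGroup o2_le le_o2 le_normalizer_o2 o2_le_of_sylow)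
open Cfsg.Agent.MinSimple.MinParabolic (IsMinPar le_of_forall)

universe u v

/-- **The output**, without `fixN` -/
structure SysW {H : Type u} [Group H] {M : Type v} [Group M] [MulDistribMulAction H M] (T A : Subgroup H)
    (x y : M) : Prop where
  sq : ∀ m : M, m * m = 1
  faith : ∀ h : H, (∀ m : M, h • m = m) → h = 1
  irr : ∀ W : Subgroup M, (∀ h : H, ∀ w ∈ W, h • w ∈ W) → W = ⊥ ∨ W = ⊤
  two : IsPGroup 2 T
  syl : ¬ 2 ∣ T.index
  AT : A ≤ T
  el : ∀ a ∈ A, a * a = 1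
  A1 : A ≠ ⊥
  four : 4 ≤ Nat.card A
  exact : (cv M (A : Set H)).index = Nat.card A
  atom : ∀ C : Subgroup H, C ≤ A → C ≠ ⊥ → C ≠ A → Nat.card C < (cv M (C : Set H)).index
  low : ∀ R : Subgroup H, T ≤ R → R ≠ ⊤ → A ≤ o2 R
  nmax : ¬ ∃ N : Subgroup H, N ≠ ⊤ ∧ ∀ R : Subgroup H, T ≤ R → R ≠ ⊤ → R ≤ N
  KH : IsKGroup H
  x1 : x ≠ 1
  y1 : y ≠ 1
  xy : x ≠ y
  tx : ∀ t ∈ T, t • x = x
  ty : ∀ t ∈ T, t • y = y
  /-- every `T`-minimal `P` fixes a non-trivial vector -/
  fixP : ∀ P : Subgroup H, IsMinPar T P → ∃ m : M, m ≠ 1 ∧ ∀ p ∈ P, p • m = m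
  /-- some `T`-minimal `P` moves `x` and fixes `y` -/
  mov : ∃ P : Subgroup H, IsMinPar T P ∧ (∃ p ∈ P, p • x ≠ x) ∧ ∀ p ∈ P, p • y = y

/-- **The output** -/
structure SysE {H : Type u} [Group H] {M : Type v} [Group M] [MulDistribMulAction H M] (T A : Subgroup H)
    (x y : M) : Prop extends SysW T A x y where
  /-- `N_H(T)` fixes a non-trivial vector -/
  fixN : ∃ m : M, m ≠ 1 ∧ ∀ g ∈ normalizer (T : Set H), g • m = m

/-- three vectors `x`, `y`, `x y`: no transvections (354, #21212 (6)) -/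
theorem mem_pCore_three {X : Type*} [Group X] {M : Type*} [Group M] [MulDistribMulAction X M] [Finite X]
    (sq : ∀ m : M, m * m = 1) {x y : M} {A B C : Subgroup X} (hA : IsPGroup 2 A) (hB : IsPGroup 2 B)
    (hC : IsPGroup 2 C) (hAn : ∀ g : X, g • x = x → ∀ a ∈ A, g * a * g⁻¹ ∈ A)
    (hBn : ∀ g : X, g • y = y → ∀ b ∈ B, g * b * g⁻¹ ∈ B)
    (hCn : ∀ g : X, g • (x * y) = x * y → ∀ c ∈ C, g * c * g⁻¹ ∈ C)
    {t : X} (htA : t ∈ A) (htB : t ∈ B) (htC : t ∈ C) (htt : t * t = 1) {b : M}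
    (htb : ∀ m : M, t • m = m ∨ t • m = m * b) : t ∈ Cfsg.pCore 2 X := by
  have hcomm := comm_of_sq sq
  refine Involutions.BaerSuzuki.mem_pCore_of_conj_pairs t fun g => ?_
  have hcc : g * t * g⁻¹ * (g * t * g⁻¹) = 1 := by
    have : g * t * g⁻¹ * (g * t * g⁻¹) = g * (t * t) * g⁻¹ := by group
    rw [this, htt, mul_one, mul_inv_cancel]
  have hinv : (g * t * g⁻¹)⁻¹ = g * t * g⁻¹ := inv_eq_of_mul_eq_one_right hcc
  have hcen : ∀ m : M, (g * t * g⁻¹) • m = m ∨ (g * t * g⁻¹) • m = m * (g • b) := by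
    intro m
    rw [mul_smul, mul_smul]
    rcases htb (g⁻¹ • m) with h | h
    · left; rw [h, smul_inv_smul]
    · right; rw [h, smul_mul', smul_inv_smul]
  have hfix : ∀ (D : Subgroup X) (c : M), IsPGroup 2 D → (∀ g : X, g • c = c → ∀ a ∈ D, g * a * g⁻¹ ∈ D) → t ∈ D →
      (g * t * g⁻¹) • c = c → IsPGroup 2 (Subgroup.closure {t, g * t * g⁻¹} : Subgroup X) := by
    intro D c hD hDn htD hc
    refine IId.BSTrick.pair_isPGroup hD htD ?_ hcc
    rw [Subgroup.mem_normalizer_iff]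
    intro a
    refine ⟨fun ha => hDn _ hc a ha, fun ha => ?_⟩
    have := hDn _ hc _ ha
    rw [hinv] at this
    have e : g * t * g⁻¹ * (g * t * g⁻¹ * a * (g * t * g⁻¹)) * (g * t * g⁻¹) =
      (g * t * g⁻¹ * (g * t * g⁻¹)) * a * (g * t * g⁻¹ * (g * t * g⁻¹)) := by group
    rwa [e, hcc, one_mul, mul_one] at this
  rcases hcen x with hx | hx
  · exact hfix A x hA hAn htA hx
  rcases hcen y with hy | hy
  · exact hfix B y hB hBn htB hy
  refine hfix C (x * y) hC hCn htC ?_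
  rw [smul_mul', hx, hy]
  calc x * g • b * (y * g • b) = x * (g • b * y) * g • b := by group
    _ = x * (y * g • b) * g • b := by rw [hcomm (g • b) y]
    _ = x * y * (g • b * g • b) := by group
    _ = x * y := by rw [sq, mul_one]

section

variable {H : Type u} [Group H] [Finite H] {M : Type v} [Group M] [Finite M] [MulDistribMulAction H M]
  {T A : Subgroup H}

/-- `|A| ≥ 4` if there are two `T`-fixed vectors -/
theorem four_le (sq : ∀ m : M, m * m = 1) (faith : ∀ h : H, (∀ m : M, h • m = m) → h = 1)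
    (irr : ∀ W : Subgroup M, (∀ h : H, ∀ w ∈ W, h • w ∈ W) → W = ⊥ ∨ W = ⊤) (h : LB H M T A) {x y : M}
    (hx : ∀ t ∈ T, t • x = x) (hy : ∀ t ∈ T, t • y = y) (x1 : x ≠ 1) (y1 : y ≠ 1) (xy : x ≠ y) :
    4 ≤ Nat.card A := by
  by_contra hlt
  have hcomm := comm_of_sq sq
  -- `H` is not trivial on any non-trivial vector
  have hmov : ∀ m : M, m ≠ 1 → ¬ ∀ g : H, g • m = m := by
    intro m hm hc
    have h1 : cv M ((⊤ : Subgroup H) : Set H) = ⊤ := by
      refine (irr _ ?_).resolve_left ?_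
      · intro g w hw k _
        have h2 := hw (g⁻¹ * k * g) (mem_top _)
        rwa [mul_smul, mul_smul, inv_smul_eq_iff] at h2
      · intro h2
        have h3 : m ∈ cv M ((⊤ : Subgroup H) : Set H) := fun g _ => hc g
        rw [h2, mem_bot] at h3
        exact hm h3
    apply h.B1
    rw [eq_bot_iff]
    intro a ha
    exact mem_bot.2 (faith a fun w => (h1 ▸ mem_top w : w ∈ cv M ((⊤ : Subgroup H) : Set H)) a (mem_top a))
  obtain ⟨n, hn⟩ := IsPGroup.iff_card.1 (h.two.to_le h.BT)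
  have hA1 : Nat.card A ≠ 1 := fun h1 => h.B1 (Subgroup.eq_bot_of_card_eq _ h1)
  have hc2 : Nat.card A = 2 := by
    match n, hn with
    | 0, hn => exact absurd hn hA1
    | 1, hn => exact hn
    | n + 2, hn =>
      exfalso
      rw [hn, pow_add] at hlt
      have := Nat.one_le_two_pow (n := n)
      omega
  obtain ⟨⟨t, htA⟩, ht1'⟩ := (Subgroup.ne_bot_iff_exists_ne_one).1 h.B1
  have ht1 : t ≠ 1 := fun h1 => ht1' (Subtype.ext h1)
  have htt : t * t = 1 := h.el t htA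
  -- a transvection
  have hidx : (cv M ({t} : Set H)).index ≤ 2 := by
    have h1 : cv M (A : Set H) ≤ cv M ({t} : Set H) := cv_anti (by simpa using htA)
    have h2 := index_dvd_of_le h1
    rw [h.exact, hc2] at h2
    exact Nat.le_of_dvd (by norm_num) h2
  obtain ⟨b, hb⟩ := TC.TT.exists_centre sq hidx index_ne_zero_of_finite
  have hst : ∀ m : M, m ≠ 1 → (∀ t ∈ T, t • m = m) → A ≤ o2 (MulAction.stabilizer H m) := fun m hm tm =>
    h.stab_le tm (hmov m hm)
  have hno : ∀ m : M, ∀ g : H, g • m = m → ∀ a ∈ o2 (MulAction.stabilizer H m), g * a * g⁻¹ ∈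
      o2 (MulAction.stabilizer H m) := fun m g hg a ha =>
    (mem_normalizer_iff.1 (le_normalizer_o2 _ (MulAction.mem_stabilizer_iff.2 hg)) a).1 ha
  have hxy1 : x * y ≠ 1 := by
    intro h1
    apply xy
    have h2 := sq y
    exact mul_right_cancel (h1.trans h2.symm)
  have hp : t ∈ Cfsg.pCore 2 H := mem_pCore_three sq (x := x) (y := y)
    (o2_isPGroup _) (o2_isPGroup _) (o2_isPGroup _) (hno x) (hno y) (hno (x * y)) (hst x x1 hx htA)
    (hst y y1 hy htA) (hst (x * y) hxy1 (fun t ht => by rw [smul_mul', hx t ht, hy t ht]) htA) htt hb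
  -- so `t ∈ O₂(H)`
  have h2 : t ∈ A ⊓ o2 (⊤ : Subgroup H) := by
    refine ⟨htA, ?_⟩
    have h3 : Cfsg.pCore 2 H ≤ o2 (⊤ : Subgroup H) :=
      le_o2 le_top (Lib.Cores.pCore_isPGroup 2) (by
        have : (Cfsg.pCore 2 H).Normal := Lib.Cores.pCore_normal 2
        rw [normalizer_eq_top_iff.2 this])
    exact h3 hp
  have h3 : o2 (⊤ : Subgroup H) = ⊥ := by
    have h4 : cv M ((o2 (⊤ : Subgroup H) : Subgroup H) : Set H) = ⊤ := by
      refine (irr _ ?_).resolve_left ?_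
      · intro g w hw k hk
        have h3 : g⁻¹ * k * g ∈ o2 (⊤ : Subgroup H) := by
          have := (mem_normalizer_iff.1 (le_normalizer_o2 (⊤ : Subgroup H) (mem_top g⁻¹)) k).1 hk
          rwa [inv_inv] at this
        have h4 := hw _ h3
        rwa [mul_smul, mul_smul, inv_smul_eq_iff] at h4
      · intro h5
        have h6 : x ∈ cv M ((o2 (⊤ : Subgroup H) : Subgroup H) : Set H) := fun k hk => hx k (h.o2_top_le hk)
        rw [h5, mem_bot] at h6
        exact x1 h6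
    rw [eq_bot_iff]
    intro k hk
    exact mem_bot.2 (faith k fun w => (h4 ▸ mem_top w : w ∈ cv M ((o2 (⊤ : Subgroup H) : Subgroup H) : Set H)) k hk)
  rw [h3, inf_bot_eq] at h2
  exact ht1 (mem_bot.1 h2)

variable {B : Subgroup H}

/-- **`SysW` from `LB`** and vectors of `U¹ = [M, ⟨B^H⟩]` -/
theorem LB.exists_sysW₀ (h : LB H M T B) (hM : MLK.{u, v}) {x y : M} (tx : ∀ t ∈ T, t • x = x)
    (ty : ∀ t ∈ T, t • y = y) (hxU : x ∈ cmm M B) (hyU : y ∈ cmm M B) (hy : ¬ ∀ g : H, g • y = y)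
    (mov : ∃ P : Subgroup H, IsMinPar T P ∧ (∃ p ∈ P, p • x ≠ x) ∧ ∀ p ∈ P, p • y = y)
    (fP : ∀ P : Subgroup H, IsMinPar T P → ∃ m ∈ cmm M B, (¬ ∀ g : H, g • m = m) ∧ ∀ p ∈ P, p • m = m) :
    ∃ (H' : Type u) (_ : Group H') (_ : Finite H') (N : Type v) (_ : Group N) (_ : Finite N)
      (_ : MulDistribMulAction H' N) (π : H →* H') (f : ↥(cmm M B) →* N) (A' : Subgroup H'),
      Out H M T B H' N π f A' ∧ SysW (T.map π) A' (f ⟨x, hxU⟩) (f ⟨y, hyU⟩) := by
  have hx : ¬ ∀ g : H, g • x = x := by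
    obtain ⟨P, -, ⟨p, -, hp⟩, -⟩ := mov
    exact fun hc => hp (hc p)
  obtain ⟨H', _, _, N, _, _, _, π, f, A', o⟩ := h.exists_out hM tx hx hxU
  refine ⟨H', inferInstance, inferInstance, N, inferInstance, inferInstance, inferInstance, π, f, A', o, ?_⟩
  -- images of vectors
  have him : ∀ {m : M} (hm : m ∈ cmm M B) {g : H}, g • m = m → π g • f ⟨m, hm⟩ = f ⟨m, hm⟩ := by
    intro m hm g hg
    rw [← o.eqv g ⟨m, hm⟩]
    exact congrArg f (Subtype.ext hg)
  have hne : ∀ {m : M} (hm : m ∈ cmm M B), (∀ t ∈ T, t • m = m) → (¬ ∀ g : H, g • m = m) → f ⟨m, hm⟩ ≠ 1 := by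
    intro m hm tm hc h1
    exact hc fun g => h.fix_of_cvKm tm ((o.ker _).1 h1) g
  have hback : ∀ {m : M} (hm : m ∈ cmm M B), (∀ t ∈ T, t • m = m) → ∀ R : Subgroup H, T ≤ R →
      (∀ g ∈ R, π g • f ⟨m, hm⟩ = f ⟨m, hm⟩) → ∀ g ∈ R, g • m = m := by
    intro m hm tm R hTR hR
    refine h.fix_of_mod tm hTR (I := cv M (Km B : Set H)) (fun w hw tw g _ => h.fix_of_cvKm tw hw g) fun g hg => ?_
    have h1 := hR g hg
    rw [← o.eqv g ⟨m, hm⟩, ← mul_inv_eq_one, ← map_inv, ← map_mul, o.ker] at h1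
    exact h1
  have x1 := hne hxU tx hx
  have y1 := hne hyU ty hy
  have htx : ∀ t ∈ T.map π, t • f ⟨x, hxU⟩ = f ⟨x, hxU⟩ := by
    rintro _ ⟨t, ht, rfl⟩
    exact him hxU (tx t ht)
  have hty : ∀ t ∈ T.map π, t • f ⟨y, hyU⟩ = f ⟨y, hyU⟩ := by
    rintro _ ⟨t, ht, rfl⟩
    exact him hyU (ty t ht)
  -- `π(P)` is minimal if `P` moves `x`
  have hmov : ∃ P' : Subgroup H', IsMinPar (T.map π) P' ∧ (∃ p ∈ P', p • f ⟨x, hxU⟩ ≠ f ⟨x, hxU⟩) ∧
      ∀ p ∈ P', p • f ⟨y, hyU⟩ = f ⟨y, hyU⟩ := by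
    obtain ⟨P, hP, ⟨p, hp, hpx⟩, hPy⟩ := mov
    have hPx : ∃ p ∈ P.map π, p • f ⟨x, hxU⟩ ≠ f ⟨x, hxU⟩ := by
      by_contra hc
      push Not at hc
      exact hpx (hback hxU tx P hP.le (fun g hg => hc _ ⟨g, hg, rfl⟩) p hp)
    have hPy' : ∀ p ∈ P.map π, p • f ⟨y, hyU⟩ = f ⟨y, hyU⟩ := by
      rintro _ ⟨q, hq, rfl⟩
      exact him hyU (hPy q hq)
    refine ⟨P.map π, ⟨map_mono hP.le, ?_, ?_⟩, hPx, hPy'⟩
    · -- not normal
      intro hn
      obtain ⟨L, hL, hLm⟩ := hP.exists_max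
      -- `P = (P ∩ π⁻¹(T')) N_P(T)`
      have hT' : T ≤ P ⊓ (T.map π).comap π := le_inf hP.le (le_comap_map π T)
      have hnormal : P ≤ normalizer ((P ⊓ (T.map π).comap π : Subgroup H) : Set H) := by
        intro g hg
        have hg' : π g ∈ normalizer ((T.map π : Subgroup H') : Set H') := hn ⟨g, hg, rfl⟩
        rw [mem_normalizer_iff] at hg' ⊢
        intro z
        have h1 := hg' (π z)
        rw [← map_mul, ← map_inv, ← map_mul] at h1
        constructor
        · rintro ⟨hz1, hz2⟩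
          exact ⟨P.mul_mem (P.mul_mem hg hz1) (P.inv_mem hg), h1.1 hz2⟩
        · rintro ⟨hz1, hz2⟩
          refine ⟨?_, h1.2 hz2⟩
          have := P.mul_mem (P.mul_mem (P.inv_mem hg) hz1) hg
          have e : g⁻¹ * (g * z * g⁻¹) * g = z := by group
          rwa [e] at this
      have hfr := MinSimple.Basic.frattini (X := P) (L := P ⊓ (T.map π).comap π) (S := T) hP.le h.two
        (fun h2 => h.syl (h2.trans (relIndex_dvd_index_of_le hP.le))) hnormal
      have hNP : P ⊓ normalizer ((T ⊓ (P ⊓ (T.map π).comap π) : Subgroup H) : Set H) ≤ L := by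
        rw [inf_eq_left.2 hT']
        exact hLm _ (le_inf hP.le le_normalizer) (lt_of_le_of_ne inf_le_left fun h2 => hP.not_le (inf_eq_left.1 h2))
      by_cases h1 : P ⊓ (T.map π).comap π = P
      · -- then `π(P) = T'` fixes `x`
        obtain ⟨q, hq, hqx⟩ := hPx
        have h2 : P.map π ≤ T.map π := map_le_iff_le_comap.2 (inf_eq_left.1 h1)
        exact hqx (htx q (h2 hq))
      · have h2 : P ⊓ (T.map π).comap π ≤ L := hLm _ hT' (lt_of_le_of_ne inf_le_left h1)
        exact hL.not_ge (hfr.trans (sup_le h2 hNP))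
    · obtain ⟨L, hL, hLm⟩ := hP.exists_max
      refine ⟨L.map π, lt_of_le_of_ne (map_mono hL.le) fun he => ?_, fun K' hTK hK => ?_⟩
      · have hK0 : (P ⊓ π.ker) ⊔ T ≤ P := sup_le inf_le_left hP.le
        by_cases h1 : (P ⊓ π.ker) ⊔ T = P
        · obtain ⟨q, hq, hqx⟩ := hPx
          rw [← h1, Subgroup.map_sup] at hq
          have h2 : (P ⊓ π.ker).map π = ⊥ := by
            rw [Subgroup.map_eq_bot_iff]
            exact inf_le_right
          rw [h2, bot_sup_eq] at hq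
          exact hqx (htx q hq)
        · have h2 := hLm _ le_sup_right (lt_of_le_of_ne hK0 h1)
          refine hL.not_ge fun p hp => ?_
          have h3 : π p ∈ L.map π := he ▸ ⟨p, hp, rfl⟩
          obtain ⟨l, hl, hlp⟩ := h3
          have h4 : l⁻¹ * p ∈ P ⊓ π.ker := by
            refine ⟨P.mul_mem (P.inv_mem (hL.le hl)) hp, ?_⟩
            change π (l⁻¹ * p) = 1
            rw [map_mul, map_inv, hlp, inv_mul_cancel]
          have h5 := L.mul_mem hl (h2 (le_sup_left (a := P ⊓ π.ker) h4))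
          rwa [mul_inv_cancel_left] at h5
      · have h1 : T ≤ K'.comap π ⊓ P := le_inf (map_le_iff_le_comap.1 hTK) hP.le
        have h2 : K'.comap π ⊓ P ≠ P := by
          intro h3
          exact hK.not_ge (map_le_iff_le_comap.2 (inf_eq_right.1 h3))
        have h3 := hLm _ h1 (lt_of_le_of_ne inf_le_right h2)
        intro k' hk'
        obtain ⟨p, hp, rfl⟩ := hK.le hk'
        exact ⟨p, h3 ⟨hk', hp⟩, rfl⟩
  have hfP : ∀ P' : Subgroup H', IsMinPar (T.map π) P' → ∃ m : N, m ≠ 1 ∧ ∀ p ∈ P', p • m = m := by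
    intro P' hP'
    obtain ⟨P, hP, rfl⟩ := KL.GenTool.exists_minPar_map π o.πs hP'
    obtain ⟨m, hm, hmm, hPm⟩ := fP P hP
    refine ⟨f ⟨m, hm⟩, hne hm (fun t ht => hPm t (hP.le ht)) hmm, ?_⟩
    rintro _ ⟨p, hp, rfl⟩
    exact him hm (hPm p hp)
  have hxy : f ⟨x, hxU⟩ ≠ f ⟨y, hyU⟩ := by
    intro he
    obtain ⟨P, -, ⟨p, hp, hpx⟩, hPy⟩ := hmov
    rw [he] at hpx
    exact hpx (hPy p hp)
  -- a vector fixed by `H'`
  have hnofix : ∀ m : N, m ≠ 1 → ¬ ∀ g : H', g • m = m := by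
    intro m hm hc
    have h1 : cv N ((⊤ : Subgroup H') : Set H') = ⊤ := by
      refine (o.irr _ ?_).resolve_left ?_
      · intro g w hw k _
        have h2 := hw (g⁻¹ * k * g) (mem_top _)
        rwa [mul_smul, mul_smul, inv_smul_eq_iff] at h2
      · intro h2
        have h3 : m ∈ cv N ((⊤ : Subgroup H') : Set H') := fun g _ => hc g
        rw [h2, mem_bot] at h3
        exact hm h3
    obtain ⟨P, -, ⟨p, -, hpx⟩, -⟩ := hmov
    exact hpx ((h1 ▸ mem_top (f ⟨x, hxU⟩) : f ⟨x, hxU⟩ ∈ cv N ((⊤ : Subgroup H') : Set H')) p (mem_top p))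
  refine ⟨o.lb.sq, o.faith, o.irr, o.lb.two, o.lb.syl, o.lb.BT, o.lb.el, o.lb.B1,
    four_le o.lb.sq o.faith o.irr o.lb htx hty x1 y1 hxy, o.lb.exact, o.lb.atom, o.lb.low, ?_, o.lb.KH, x1, y1, hxy,
    htx, hty, hfP, hmov⟩
  rintro ⟨L, hL, hLm⟩
  by_cases hn : (⊤ : Subgroup H') ≤ normalizer ((T.map π : Subgroup H') : Set H')
  · exact o.lb.nb (o.lb.BT.trans (le_o2 le_top o.lb.two hn))
  · obtain ⟨m, hm, hmP⟩ := hfP ⊤ ⟨le_top, hn, L, lt_top_iff_ne_top.2 hL, fun K hK hlt => hLm K hK hlt.ne⟩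
    exact hnofix m hm fun g => hmP g (mem_top g)

omit [Finite M] in
/-- `N_H(T)` -/
theorem Out.fixN {H' : Type u} [Group H'] {N : Type v} [Group N] [MulDistribMulAction H' N] {π : H →* H'}
    {f : ↥(cmm M B) →* N} {A' : Subgroup H'} (o : Out H M T B H' N π f A') (h : LB H M T B)
    (fN : ∃ m ∈ cmm M B, (¬ ∀ g : H, g • m = m) ∧ ∀ g ∈ normalizer (T : Set H), g • m = m) :
    ∃ m : N, m ≠ 1 ∧ ∀ g ∈ normalizer ((T.map π : Subgroup H') : Set H'), g • m = m := by
  obtain ⟨m, hm, hmm, hNm⟩ := fN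
  have him : ∀ {g : H}, g • m = m → π g • f ⟨m, hm⟩ = f ⟨m, hm⟩ := by
    intro g hg
    rw [← o.eqv g ⟨m, hm⟩]
    exact congrArg f (Subtype.ext hg)
  refine ⟨f ⟨m, hm⟩, fun h1 => hmm fun g => h.fix_of_cvKm (fun t ht => hNm t (le_normalizer ht)) ((o.ker _).1 h1) g, ?_⟩
  intro g' hg'
  obtain ⟨_, ⟨t, ht, rfl⟩, n, hn, rfl⟩ := KL.GenTool.exists_normalizer_map π o.πs h.two h.syl hg'
  rw [mul_smul, him (hNm n hn), him (hNm t (le_normalizer ht))]

end

end Cfsg.Agent.Omega.NO3S.EMany.Low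

end

section


/-!
# EXACT + LOW: the general input `InpG` (bb #22180 (3), #22451 (B3), #22781 (4), #22648 (3), #21609 (4), #21788 (f5)-(f7))

* `LB.exists_sysW`, `LB.exists_sysE` : from `LB` and `T`-fixed vectors of `M`;
* `InpG T F S` : **the input**: `X` acts on `M` (not necessarily faithfully), `T` a Sylow 2-subgroup, `F` an exact atom on
  `M`, `F ≰ O₂(X)`, `S` a set of `T`-fixed vectors, `F ≤ O₂(C_X(m))` for all `m ∈ S`, `N_X(T)` and every `T`-minimal `P`
  fix a member of `S`;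
* **`InpG.exists_sysE`** : (ML) and `InpG` give `SysE` for a section of `(X, M)`;
* `InpG.nT_of` : `F ≰ O₂(X)` if `M = ⟨z^X⟩`, `z` fixed by `T`;
* `SysE.odd` : `O(H) = 1`;  **`SysE.mn`** : the input `Red.Mn` of THEOREM RED.
-/

set_option autoImplicit false

namespace Cfsg.Agent.Omega.NO3S.EMany.Low

open Subgroup Cfsg Cfsg.Agent.ZN Cfsg.Agent.ClassTwoFusion.Quad Cfsg.Agent.Omega.ML.MinFrame
open Cfsg.Agent.Omega.ML.Final
open Cfsg.Agent.MinSimple.VModule (o2_isPGroup o2_le le_o2 le_normalizer_o2 o2_le_of_sylow)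
open Cfsg.Agent.MinSimple.MinParabolic (IsMinPar le_of_forall)

universe u v

section

variable {H : Type u} [Group H] [Finite H] {M : Type v} [Group M] [Finite M] [MulDistribMulAction H M]
  {T B : Subgroup H}

/-- a `T`-fixed vector has a translate in `U¹` with the same stabilisers -/
theorem LB.shift (h : LB H M T B) {m : M} (tm : ∀ t ∈ T, t • m = m) :
    ∃ m' ∈ cmm M B, ∀ g : H, g • m' = m' ↔ g • m = m := by
  obtain ⟨m0, h1, h2⟩ := exists_fix_coset (T := T) (R := ⊤) h.sq (by rw [relIndex_top_right]; exact h.syl) tm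
    (I := cmm M B) (fun g _ => h.orb_eq tm g)
  refine ⟨m0 * m⁻¹, h2, fun g => ?_⟩
  rw [smul_mul', smul_inv', h1 g (mem_top g)]
  exact ⟨fun h3 => inv_injective (mul_left_cancel h3), fun h3 => by rw [h3]⟩

/-- **`SysW` from `LB`** and vectors of `M` -/
theorem LB.exists_sysW (h : LB H M T B) (hM : MLK.{u, v}) {x y : M} (tx : ∀ t ∈ T, t • x = x)
    (ty : ∀ t ∈ T, t • y = y) (hy : ¬ ∀ g : H, g • y = y)
    (mov : ∃ P : Subgroup H, IsMinPar T P ∧ (∃ p ∈ P, p • x ≠ x) ∧ ∀ p ∈ P, p • y = y)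
    (fP : ∀ P : Subgroup H, IsMinPar T P → ∃ m : M, (¬ ∀ g : H, g • m = m) ∧ ∀ p ∈ P, p • m = m) :
    ∃ (H' : Type u) (_ : Group H') (_ : Finite H') (N : Type v) (_ : Group N) (_ : Finite N)
      (_ : MulDistribMulAction H' N) (π : H →* H') (f : ↥(cmm M B) →* N) (A' : Subgroup H') (x' y' : N),
      Out H M T B H' N π f A' ∧ SysW (T.map π) A' x' y' := by
  obtain ⟨x', hxU, hx'⟩ := h.shift tx
  obtain ⟨y', hyU, hy'⟩ := h.shift ty
  obtain ⟨P, hP, ⟨p, hp, hpx⟩, hPy⟩ := mov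
  obtain ⟨H', i1, i2, N, i3, i4, i5, π, f, A', o, hs⟩ := h.exists_sysW₀ hM (x := x') (y := y')
    (fun t ht => (hx' t).2 (tx t ht)) (fun t ht => (hy' t).2 (ty t ht)) hxU hyU
    (fun hc => hy fun g => (hy' g).1 (hc g)) ⟨P, hP, ⟨p, hp, fun hc => hpx ((hx' p).1 hc)⟩, fun q hq => (hy' q).2 (hPy q hq)⟩
    (fun P hP => by
      obtain ⟨m, hm, hPm⟩ := fP P hP
      obtain ⟨m', hmU, hm'⟩ := h.shift (fun t ht => hPm t (hP.le ht))
      exact ⟨m', hmU, fun hc => hm fun g => (hm' g).1 (hc g), fun q hq => (hm' q).2 (hPm q hq)⟩)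
  exact ⟨H', i1, i2, N, i3, i4, i5, π, f, A', _, _, o, hs⟩

/-- **`SysE` from `LB`** and vectors of `M` -/
theorem LB.exists_sysE (h : LB H M T B) (hM : MLK.{u, v}) {x y : M} (tx : ∀ t ∈ T, t • x = x)
    (ty : ∀ t ∈ T, t • y = y) (hy : ¬ ∀ g : H, g • y = y)
    (mov : ∃ P : Subgroup H, IsMinPar T P ∧ (∃ p ∈ P, p • x ≠ x) ∧ ∀ p ∈ P, p • y = y)
    (fN : ∃ m : M, (¬ ∀ g : H, g • m = m) ∧ ∀ g ∈ normalizer (T : Set H), g • m = m)
    (fP : ∀ P : Subgroup H, IsMinPar T P → ∃ m : M, (¬ ∀ g : H, g • m = m) ∧ ∀ p ∈ P, p • m = m) :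
    ∃ (H' : Type u) (_ : Group H') (_ : Finite H') (N : Type v) (_ : Group N) (_ : Finite N)
      (_ : MulDistribMulAction H' N) (π : H →* H') (f : ↥(cmm M B) →* N) (A' : Subgroup H') (x' y' : N),
      Out H M T B H' N π f A' ∧ SysE (T.map π) A' x' y' := by
  obtain ⟨H', i1, i2, N, i3, i4, i5, π, f, A', x', y', o, hs⟩ := h.exists_sysW hM tx ty hy mov fP
  refine ⟨H', i1, i2, N, i3, i4, i5, π, f, A', x', y', o, ⟨hs, ?_⟩⟩
  obtain ⟨m, hm, hNm⟩ := fN
  obtain ⟨m', hmU, hm'⟩ := h.shift (fun t ht => hNm t (le_normalizer ht))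
  exact o.fixN h ⟨m', hmU, fun hc => hm fun g => (hm' g).1 (hc g), fun q hq => (hm' q).2 (hNm q hq)⟩

end

/-! ### The input -/

/-- **The input** -/
structure InpG {X : Type u} [Group X] {M : Type v} [Group M] [MulDistribMulAction X M] (T F : Subgroup X)
    (S : Set M) : Prop where
  sq : ∀ m : M, m * m = 1
  two : IsPGroup 2 T
  syl : ¬ 2 ∣ T.index
  el : ∀ a ∈ F, a * a = 1
  exact : (cv M (F : Set X)).index = Nat.card F
  atom : ∀ C : Subgroup X, C ≤ F → C ≠ ⊥ → C ≠ F → Nat.card C < (cv M (C : Set X)).index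
  nT : ¬ F ≤ o2 (⊤ : Subgroup X)
  tS : ∀ m ∈ S, ∀ t ∈ T, t • m = m
  low : ∀ m ∈ S, F ≤ o2 (MulAction.stabilizer X m)
  /-- `N_X(T)` fixes a member of `S` -/
  nN : ∃ m ∈ S, ∀ g ∈ normalizer (T : Set X), g • m = m
  /-- every `T`-minimal `P` fixes a member of `S` -/
  uni : ∀ P : Subgroup X, IsMinPar T P → ∃ m ∈ S, ∀ p ∈ P, p • m = m
  KH : IsKGroup X

namespace InpG

variable {X : Type u} [Group X] [Finite X] {M : Type v} [Group M] [Finite M] [MulDistribMulAction X M]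
  {T F : Subgroup X} {S : Set M}

omit [Finite X] [Finite M] in
/-- a subgroup of `O₂(C_X(m)) ∩ H` is in `O₂(H)` if `H` fixes `m` -/
theorem o2_le_o2_of_le {H R : Subgroup X} (hHR : H ≤ R) : o2 R ⊓ H ≤ o2 H :=
  KL.GenTool.o2_inf_le le_rfl (fun _ hg _ hx => H.mul_mem (H.mul_mem hg hx) (H.inv_mem hg)) hHR

omit [Finite M] in
/-- `F ≤ T` -/
theorem FT (i : InpG T F S) : F ≤ T := by
  obtain ⟨m, hm, -⟩ := i.nN
  refine (i.low m hm).trans (o2_le_of_sylow i.two fun h2 => i.syl (h2.trans (relIndex_dvd_index_of_le ?_)))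
  exact fun t ht => i.tS m hm t ht

omit [Finite M] in
/-- `F ≰ O₂(X)` if `M = ⟨z^X⟩` -/
theorem nT_of (two : IsPGroup 2 T) (syl : ¬ 2 ∣ T.index) (hF : F ≠ ⊥)
    (exact : (cv M (F : Set X)).index = Nat.card F) {z : M} (tz : ∀ t ∈ T, t • z = z)
    (gen : orb (⊤ : Subgroup X) z = ⊤) : ¬ F ≤ o2 (⊤ : Subgroup X) := by
  intro hc
  have hT : o2 (⊤ : Subgroup X) ≤ T := o2_le_of_sylow two (by rw [relIndex_top_right]; exact syl)
  have h1 : cv M (F : Set X) = ⊤ := by
    rw [eq_top_iff, ← gen]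
    refine orb_le fun g _ b hb => ?_
    have h1 : g⁻¹ * b * g ∈ o2 (⊤ : Subgroup X) := by
      have := (mem_normalizer_iff.1 (le_normalizer_o2 (⊤ : Subgroup X) (mem_top g⁻¹)) b).1 (hc hb)
      rwa [inv_inv] at this
    have h2 := tz _ (hT h1)
    rwa [mul_smul, mul_smul, inv_smul_eq_iff] at h2
  rw [h1, index_top] at exact
  exact hF (Subgroup.eq_bot_of_card_eq _ exact.symm)

/-- **the machine for `InpG`** -/
theorem exists_sysE (i : InpG T F S) (hM : MLK.{u, v}) :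
    ∃ (H : Type u) (_ : Group H) (_ : Finite H) (N : Type v) (_ : Group N) (_ : Finite N)
      (_ : MulDistribMulAction H N) (T' A' : Subgroup H) (x' y' : N), SysE T' A' x' y' := by
  -- `H` minimal
  obtain ⟨H, ⟨hTH, hFH⟩, hmin⟩ : ∃ H : Subgroup X, (T ≤ H ∧ ¬ F ≤ o2 H) ∧
      ∀ R : Subgroup X, (T ≤ R ∧ ¬ F ≤ o2 R) → R ≤ H → R = H := by
    have hfin : {H : Subgroup X | T ≤ H ∧ ¬ F ≤ o2 H}.Finite := Set.toFinite _
    obtain ⟨A, hA⟩ := hfin.exists_minimal ⟨⊤, le_top, i.nT⟩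
    exact ⟨A, hA.1, fun C hC hCA => le_antisymm hCA (hA.2 hC hCA)⟩
  have hFT := i.FT
  have hFH' : F ≤ H := hFT.trans hTH
  have e1 : ∀ {C : Subgroup X}, C ≤ H → (C.subgroupOf H).map H.subtype = C := fun {C} hC => by
    rw [subgroupOf_map_subtype, inf_eq_left.2 hC]
  have hcv : ∀ C : Subgroup H, cv M (C : Set H) = cv M ((C.map H.subtype : Subgroup X) : Set X) := by
    intro C
    ext m
    constructor
    · rintro hm _ ⟨c, hc, rfl⟩
      exact hm c hc
    · exact fun hm c hc => hm _ ⟨c, hc, rfl⟩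
  have hcard : ∀ C : Subgroup H, Nat.card (C.map H.subtype) = Nat.card C := fun C =>
    card_map_of_injective H.subtype_injective
  have hlb : LB H M (T.subgroupOf H) (F.subgroupOf H) := by
    refine ⟨i.sq, i.two.comap_subtype, fun h2 => ?_, fun x hx => hFT hx, fun b hb => Subtype.ext (i.el b hb), ?_, ?_, ?_, ?_,
      sec_KG.sub X i.KH H⟩
    · exact i.syl (h2.trans (relIndex_dvd_index_of_le hTH))
    · rw [hcv, e1 hFH', i.exact, ← hcard, e1 hFH']
    · intro C hC hC1 hCF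
      rw [hcv, ← hcard]
      refine i.atom _ ?_ ?_ ?_
      · rintro _ ⟨c, hc, rfl⟩
        exact hC hc
      · intro h1
        exact hC1 ((Subgroup.map_eq_bot_iff_of_injective _ H.subtype_injective).1 h1)
      · intro h1
        apply hCF
        rw [← h1]
        exact (comap_map_eq_self_of_injective H.subtype_injective C).symm
    · intro R hTR hR
      have h1 : R.map H.subtype ≠ H := by
        intro h2
        apply hR
        rw [eq_top_iff]
        intro r _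
        have h3 : (r : X) ∈ R.map H.subtype := by
          rw [h2]
          exact r.2
        obtain ⟨s, hs, hsr⟩ := h3
        rwa [← (Subtype.ext hsr : s = r)]
      have h2 : T ≤ R.map H.subtype := fun t ht => ⟨⟨t, hTH ht⟩, hTR ht, rfl⟩
      have h3 : F ≤ o2 (R.map H.subtype) := by
        by_contra hc
        exact h1 (hmin _ ⟨h2, hc⟩ (map_subtype_le R))
      exact fun x hx => KL.GenTool.o2_subgroupOf_le R (h3 hx)
    · intro hc
      apply hFH
      have h1 := (map_mono (f := H.subtype) hc).trans (KL.GenTool.o2_map_le H.subtype ⊤)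
      rw [e1 hFH', ← MonoidHom.range_eq_map, H.range_subtype] at h1
      exact h1
  -- `H` moves every member of `S`
  have hmv : ∀ m ∈ S, ¬ ∀ g : H, g • m = m := by
    intro m hm hc
    apply hFH
    have h1 : H ≤ MulAction.stabilizer X m := fun g hg => hc ⟨g, hg⟩
    exact (le_inf (i.low m hm) hFH').trans (o2_le_o2_of_le h1)
  have hS : ∀ m ∈ S, ∀ t ∈ T.subgroupOf H, t • m = m := fun m hm t ht => i.tS m hm _ ht
  have hP : ∀ P : Subgroup H, IsMinPar (T.subgroupOf H) P → ∃ m ∈ S, ∀ p ∈ P, p • m = m := by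
    intro P hP
    obtain ⟨m, hm, hPm⟩ := i.uni _ (KL.GenTool.minPar_map_subtype hTH hP)
    exact ⟨m, hm, fun p hp => hPm _ ⟨p, hp, rfl⟩⟩
  obtain ⟨x, hxS, hxN⟩ := i.nN
  have hNx : ∀ g ∈ normalizer ((T.subgroupOf H : Subgroup H) : Set H), g • x = x := by
    intro g hg
    refine hxN g ?_
    rw [mem_normalizer_iff] at hg ⊢
    intro t
    constructor
    · intro ht
      exact (hg ⟨t, hTH ht⟩).1 ht
    · intro ht
      have h1 : t ∈ H := by
        have h2 := H.mul_mem (H.mul_mem (H.inv_mem g.2) (hTH ht)) g.2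
        have e : (g : X)⁻¹ * (g * t * (g : X)⁻¹) * g = t := by group
        rwa [e] at h2
      exact (hg ⟨t, h1⟩).2 ht
  -- a mover of `x`
  obtain ⟨P, hPm, hPx⟩ : ∃ P : Subgroup H, IsMinPar (T.subgroupOf H) P ∧ ¬ P ≤ MulAction.stabilizer H x := by
    by_contra hc
    push Not at hc
    have h1 : (⊤ : Subgroup H) ≤ MulAction.stabilizer H x :=
      le_of_forall le_top (fun g hg => hNx g hg.2) fun P hP _ => hc P hP
    exact hmv x hxS fun g => h1 (mem_top g)
  obtain ⟨y, hyS, hPy⟩ := hP P hPm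
  obtain ⟨p, hp, hpx⟩ := SetLike.not_le_iff_exists.1 hPx
  obtain ⟨H', i1, i2, N, i3, i4, i5, π, f, A', x', y', -, hs⟩ := hlb.exists_sysE hM (hS x hxS) (hS y hyS) (hmv y hyS)
    ⟨P, hPm, ⟨p, hp, hpx⟩, hPy⟩ ⟨x, hmv x hxS, hNx⟩ fun P hP' => by
      obtain ⟨m, hm, hPm⟩ := hP P hP'
      exact ⟨m, hmv m hm, hPm⟩
  exact ⟨H', i1, i2, N, i3, i4, i5, _, A', x', y', hs⟩

end InpG

/-! ### `O(H) = 1` -/

section odd

variable {H : Type u} [Group H] [Finite H] {M : Type v} [Group M] [Finite M] [MulDistribMulAction H M]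
  {T A : Subgroup H} {x y : M}

omit [Finite H] [Finite M] in
/-- a normal subgroup which fixes a non-trivial vector is trivial -/
theorem SysW.bot_of_fix (h : SysW T A x y) {N : Subgroup H} (hN : N.Normal) {m : M} (hm : m ≠ 1)
    (hf : ∀ n ∈ N, n • m = m) : N = ⊥ := by
  have h1 : cv M (N : Set H) = ⊤ := by
    refine (h.irr _ ?_).resolve_left ?_
    · intro g w hw n hn
      have h2 := hw (g⁻¹ * n * g) (by simpa using hN.conj_mem n hn g⁻¹)
      rwa [mul_smul, mul_smul, inv_smul_eq_iff] at h2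
    · intro h2
      have h3 : m ∈ cv M (N : Set H) := fun n hn => hf n hn
      rw [h2, mem_bot] at h3
      exact hm h3
  rw [eq_bot_iff]
  intro n hn
  exact mem_bot.2 (h.faith n fun w => (h1 ▸ mem_top w : w ∈ cv M (N : Set H)) n hn)

omit [Finite M] in
theorem SysW.o2_top (h : SysW T A x y) : o2 (⊤ : Subgroup H) = ⊥ := by
  refine h.bot_of_fix ?_ h.x1 fun n hn => h.tx n (o2_le_of_sylow h.two (by rw [relIndex_top_right]; exact h.syl) hn)
  rw [← normalizer_eq_top_iff, eq_top_iff]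
  exact le_normalizer_o2 _

omit [Finite M] in
theorem SysW.lb (h : SysW T A x y) : LB H M T A :=
  ⟨h.sq, h.two, h.syl, h.AT, h.el, h.exact, h.atom, h.low, fun hc => h.A1 (by
    rw [h.o2_top] at hc
    exact le_bot_iff.1 hc), h.KH⟩

omit [Finite H] in
theorem eq_one_of_odd {N Q : Subgroup H} (hN : Odd (Nat.card N)) (hQ : IsPGroup 2 Q) {z : H} (h1 : z ∈ N)
    (h2 : z ∈ Q) : z = 1 := by
  obtain ⟨n, hn⟩ := hQ ⟨z, h2⟩
  have h3 : z ^ 2 ^ n = 1 := congrArg Subtype.val hn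
  have h4 : orderOf z ∣ Nat.card N := by
    have := orderOf_dvd_natCard (⟨z, h1⟩ : N)
    rwa [orderOf_mk] at this
  have h5 : orderOf z ∣ 2 ^ n := orderOf_dvd_of_pow_eq_one h3
  have h6 : (orderOf z).Coprime (2 ^ n) := by
    refine Nat.Coprime.pow_right n ?_
    exact (Nat.coprime_comm.1 (Nat.coprime_two_left.2 (hN.of_dvd_nat h4)))
  have h7 : orderOf z = 1 := by
    have h8 := Nat.dvd_gcd (dvd_refl (orderOf z)) h5
    rw [h6] at h8
    exact Nat.dvd_one.1 h8
  exact orderOf_eq_one_iff.1 h7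

omit [Finite H] in
/-- `[N ∩ R, A] = 1` for `N` normal of odd order, `A ≤ O₂(R)` -/
theorem comm_odd {N R : Subgroup H} (hN : N.Normal) (hNo : Odd (Nat.card N)) {e b : H} (heN : e ∈ N) (heR : e ∈ R)
    (hb : b ∈ o2 R) : e * b = b * e := by
  have h4 : e * b * e⁻¹ ∈ o2 R := (mem_normalizer_iff.1 (le_normalizer_o2 R heR) b).1 hb
  have h5 : e * b * e⁻¹ * b⁻¹ = 1 := by
    refine eq_one_of_odd hNo (o2_isPGroup R) ?_ (mul_mem h4 (inv_mem hb))
    have h6 : b * e⁻¹ * b⁻¹ ∈ N := hN.conj_mem _ (inv_mem heN) b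
    have h7 : e * b * e⁻¹ * b⁻¹ = e * (b * e⁻¹ * b⁻¹) := by group
    rw [h7]
    exact mul_mem heN h6
  have h6 : e * b = (e * b * e⁻¹ * b⁻¹) * (b * e) := by group
  rw [h6, h5, one_mul]

omit [Finite M] in
/-- `O(H) = 1` -/
theorem SysE.odd (h : SysE T A x y) {N : Subgroup H} (hN : N.Normal) (hNo : Odd (Nat.card N)) : N = ⊥ := by
  have hgen : Km A ⊔ T = ⊤ := h.lb.gen
  by_cases hNT : N ⊔ T = ⊤
  · -- `N T = H`
    exfalso
    let D : Subgroup H := N ⊓ centralizer {z : H | ∃ t ∈ T, ∃ a ∈ A, z = t * a * t⁻¹}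
    have hDT : ∀ s ∈ T, ∀ d ∈ D, s * d * s⁻¹ ∈ D := by
      intro s hs d hd
      refine ⟨hN.conj_mem d hd.1 s, mem_centralizer_iff.2 ?_⟩
      rintro _ ⟨t, ht, a, ha, rfl⟩
      have h1 := mem_centralizer_iff.1 hd.2 _ ⟨s⁻¹ * t, mul_mem (inv_mem hs) ht, a, ha, rfl⟩
      have h2 := congrArg (fun w => s * w * s⁻¹) h1
      simp only [mul_inv_rev, inv_inv] at h2
      calc t * a * t⁻¹ * (s * d * s⁻¹) = s * (s⁻¹ * t * a * (t⁻¹ * s) * d) * s⁻¹ := by group
        _ = s * (d * (s⁻¹ * t * a * (t⁻¹ * s))) * s⁻¹ := h2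
        _ = s * d * s⁻¹ * (t * a * t⁻¹) := by group
    have hDn : T ≤ normalizer (D : Set H) := by
      intro s hs
      rw [mem_normalizer_iff]
      intro z
      refine ⟨hDT s hs z, fun hz => ?_⟩
      have h1 := hDT s⁻¹ (inv_mem hs) _ hz
      have h2 : s⁻¹ * (s * z * s⁻¹) * s⁻¹⁻¹ = z := by group
      rwa [h2] at h1
    refine h.nmax ⟨D ⊔ T, ?_, ?_⟩
    · intro htop
      -- `N` centralises all `T`-conjugates of `A`
      have hcen : ∀ n ∈ N, ∀ t ∈ T, ∀ a ∈ A, t * a * t⁻¹ * n = n * (t * a * t⁻¹) := by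
        intro e he t' ht' a ha
        have h2 : e ∈ ((D ⊔ T : Subgroup H) : Set H) := htop ▸ mem_top e
        rw [coe_mul_of_right_le_normalizer_left D T hDn] at h2
        obtain ⟨d, hd, t, ht, rfl⟩ := h2
        have h3 : t ∈ N := by
          have := N.mul_mem (N.inv_mem hd.1) he
          simpa using this
        have h4 : t = 1 := eq_one_of_odd hNo h.two h3 ht
        rw [h4]
        simp only [mul_one]
        exact mem_centralizer_iff.1 hd.2 _ ⟨t', ht', a, ha, rfl⟩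
      -- their closure is normal in `H`
      let K1 : Subgroup H := closure {z : H | ∃ t ∈ T, ∃ a ∈ A, z = t * a * t⁻¹}
      have hK1T : K1 ≤ T := by
        rw [closure_le]
        rintro _ ⟨t, ht, a, ha, rfl⟩
        exact T.mul_mem (T.mul_mem ht (h.AT ha)) (T.inv_mem ht)
      have hK1 : K1 ≤ o2 (⊤ : Subgroup H) := by
        refine le_o2 le_top (h.two.to_le hK1T) ?_
        rw [← hNT]
        refine sup_le ?_ ?_
        · intro n hn
          have h1 : n ∈ centralizer (K1 : Set H) := by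
            rw [centralizer_closure, mem_centralizer_iff]
            rintro _ ⟨t, ht, a, ha, rfl⟩
            exact hcen n hn t ht a ha
          exact centralizer_le_normalizer _ h1
        · have hconj : ∀ s ∈ T, ∀ k ∈ K1, s * k * s⁻¹ ∈ K1 := by
            intro s hs k hk
            have h1 : K1 ≤ K1.comap (MulAut.conj s).toMonoidHom := by
              rw [closure_le]
              rintro _ ⟨t, ht, a, ha, rfl⟩
              refine subset_closure ⟨s * t, T.mul_mem hs ht, a, ha, ?_⟩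
              change s * (t * a * t⁻¹) * s⁻¹ = _
              group
            exact h1 hk
          intro s hs
          rw [mem_normalizer_iff]
          intro z
          refine ⟨hconj s hs z, fun hz => ?_⟩
          have h1 := hconj s⁻¹ (inv_mem hs) _ hz
          have h2 : s⁻¹ * (s * z * s⁻¹) * s⁻¹⁻¹ = z := by group
          rwa [h2] at h1
      exact h.lb.nb fun a ha => hK1 (subset_closure ⟨1, one_mem T, a, ha, by group⟩)
    · intro R hTR hR
      have h1 : R ⊓ N ⊔ T = R := by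
        apply le_antisymm (sup_le inf_le_left hTR)
        intro r hr
        have h1 : r ∈ N ⊔ T := hNT ▸ mem_top r
        rw [mem_sup_of_normal_left] at h1
        obtain ⟨n, hn, s, hs, rfl⟩ := h1
        refine mul_mem_sup ⟨?_, hn⟩ hs
        have := R.mul_mem hr (R.inv_mem (hTR hs))
        rwa [mul_inv_cancel_right] at this
      rw [← h1]
      refine sup_le_sup_right ?_ T
      intro e he
      refine ⟨he.2, mem_centralizer_iff.2 ?_⟩
      rintro _ ⟨t, ht, a, ha, rfl⟩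
      have h3 : t * a * t⁻¹ ∈ o2 R := (mem_normalizer_iff.1 (le_normalizer_o2 R (hTR ht)) a).1 (h.low R hTR hR ha)
      exact (comm_odd hN hNo he.2 he.1 h3).symm
  · -- `N T < H` : `N` is centralised by `A`
    have hAN : Km A ≤ centralizer (N : Set H) := by
      refine Km_le inferInstance fun a ha => mem_centralizer_iff.2 fun n hn => ?_
      exact comm_odd hN hNo hn (mem_sup_left hn) (h.low _ le_sup_right hNT ha)
    -- no minimal parabolics in `N T`
    have hP : ∀ P : Subgroup H, IsMinPar T P → P ≤ N ⊔ T → False := by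
      intro P hP hPN
      have h4 : P ⊓ N ⊔ T = P := by
        apply le_antisymm (sup_le inf_le_left hP.le)
        intro r hr
        have h1 : r ∈ N ⊔ T := hPN hr
        rw [mem_sup_of_normal_left] at h1
        obtain ⟨n, hn, s, hs, rfl⟩ := h1
        refine mul_mem_sup ⟨?_, hn⟩ hs
        have := P.mul_mem hr (P.inv_mem (hP.le hs))
        rwa [mul_inv_cancel_right] at this
      have h5 : (P ⊓ N).Normal := by
        rw [← normalizer_eq_top_iff, eq_top_iff, ← hgen]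
        refine sup_le ?_ ?_
        · intro k hk
          have h1 : k ∈ centralizer ((P ⊓ N : Subgroup H) : Set H) := by
            rw [mem_centralizer_iff]
            intro z hz
            exact mem_centralizer_iff.1 (hAN hk) z hz.2
          exact centralizer_le_normalizer _ h1
        · intro t ht
          rw [mem_normalizer_iff]
          intro z
          constructor
          · rintro ⟨hz1, hz2⟩
            exact ⟨P.mul_mem (P.mul_mem (hP.le ht) hz1) (P.inv_mem (hP.le ht)), hN.conj_mem z hz2 t⟩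
          · rintro ⟨hz1, hz2⟩
            have h7 : t⁻¹ * (t * z * t⁻¹) * t⁻¹⁻¹ = z := by group
            refine ⟨?_, ?_⟩
            · rw [← h7]
              exact P.mul_mem (P.mul_mem (P.inv_mem (hP.le ht)) hz1) (P.inv_mem (P.inv_mem (hP.le ht)))
            · rw [← h7]
              exact hN.conj_mem _ hz2 t⁻¹
      obtain ⟨m, hm, hPm⟩ := h.fixP P hP
      have h6 : P ⊓ N = ⊥ := h.bot_of_fix h5 hm fun n hn => hPm n hn.1
      rw [h6, bot_sup_eq] at h4
      exact hP.ne h4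
    have hNT' : N ⊔ T ≤ normalizer (T : Set H) :=
      le_of_forall le_sup_right inf_le_right fun P hP1 hP2 => (hP P hP1 hP2).elim
    obtain ⟨m, hm, hNm⟩ := h.fixN
    exact h.bot_of_fix hN hm fun n hn => hNm n (hNT' (mem_sup_left hn))

omit [Finite M] in
/-- **the input of THEOREM RED** -/
theorem SysE.mn (h : SysE T A x y) : ML.Ex.Red.Mn T A x where
  sq := h.sq
  faith := h.faith
  gen := by
    refine (h.irr _ fun g u hu => smul_mem_orb (mem_top g) hu).resolve_left fun h1 => h.x1 ?_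
    have h2 := mem_orb_self (⊤ : Subgroup H) x
    rw [h1] at h2
    exact mem_bot.1 h2
  fixT := h.tx
  odd := fun _ hN hNo => h.odd hN hNo
  two := h.two
  syl := h.syl
  el := h.el
  four := h.four
  exact := h.exact
  atom := h.atom
  low := h.low
  nmax := h.nmax

end odd

end Cfsg.Agent.Omega.NO3S.EMany.Low

end

section


/-!
# LEMMA ZC (bb #23452): the odd centre

* `SysW.odd_le_center` : in `SysW` a normal subgroup of odd order is central (no hypothesis about `N_H(T)`);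
* `com_of` : `g` of odd order normalises `T` and `Y`, every `t ∈ T` commutes with `⟨g⟩` on the `T`-invariant subgroup
  `[M, ⟨g⟩]`-part of `Y`, the `T`-fixed vectors of `Y` are fixed by `g`: then `g` centralises `Y`.
-/

set_option autoImplicit false

namespace Cfsg.Agent.Omega.KL.StarQ

open Subgroup Cfsg Cfsg.Agent.ZN Cfsg.Agent.ClassTwoFusion.Quad
open Cfsg.Agent.Omega.ML.MinFrame hiding comm_of_sq
open Cfsg.Agent.Omega.ML.Final Cfsg.Agent.Omega.NO3S.EMany.Low
open Cfsg.Agent.Omega.KL.Star.Core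
open Cfsg.Agent.MinSimple.VModule (o2_isPGroup o2_le le_o2 le_normalizer_o2 o2_le_of_sylow oddGen oddGen_le oddGen_def)
open Cfsg.Agent.MinSimple.MinParabolic (IsMinPar le_of_forall)

universe u v

section odd

variable {H : Type u} [Group H] [Finite H] {M : Type v} [Group M] [Finite M] [MulDistribMulAction H M]
  {T A : Subgroup H} {x y : M}

omit [Finite M] in
/-- a normal subgroup of odd order is central -/
theorem odd_le_center (h : SysW T A x y) {N : Subgroup H} (hN : N.Normal) (hNo : Odd (Nat.card N)) :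
    N ≤ center H := by
  have hgen : Km A ⊔ T = ⊤ := h.lb.gen
  by_cases hNT : N ⊔ T = ⊤
  · -- `N T = H`
    exfalso
    let D : Subgroup H := N ⊓ centralizer {z : H | ∃ t ∈ T, ∃ a ∈ A, z = t * a * t⁻¹}
    have hDT : ∀ s ∈ T, ∀ d ∈ D, s * d * s⁻¹ ∈ D := by
      intro s hs d hd
      refine ⟨hN.conj_mem d hd.1 s, mem_centralizer_iff.2 ?_⟩
      rintro _ ⟨t, ht, a, ha, rfl⟩
      have h1 := mem_centralizer_iff.1 hd.2 _ ⟨s⁻¹ * t, mul_mem (inv_mem hs) ht, a, ha, rfl⟩
      have h2 := congrArg (fun w => s * w * s⁻¹) h1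
      simp only [mul_inv_rev, inv_inv] at h2
      calc t * a * t⁻¹ * (s * d * s⁻¹) = s * (s⁻¹ * t * a * (t⁻¹ * s) * d) * s⁻¹ := by group
        _ = s * (d * (s⁻¹ * t * a * (t⁻¹ * s))) * s⁻¹ := h2
        _ = s * d * s⁻¹ * (t * a * t⁻¹) := by group
    have hDn : T ≤ normalizer (D : Set H) := by
      intro s hs
      rw [mem_normalizer_iff]
      intro z
      refine ⟨hDT s hs z, fun hz => ?_⟩
      have h1 := hDT s⁻¹ (inv_mem hs) _ hz
      have h2 : s⁻¹ * (s * z * s⁻¹) * s⁻¹⁻¹ = z := by group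
      rwa [h2] at h1
    refine h.nmax ⟨D ⊔ T, ?_, ?_⟩
    · intro htop
      -- `N` centralises all `T`-conjugates of `A`
      have hcen : ∀ n ∈ N, ∀ t ∈ T, ∀ a ∈ A, t * a * t⁻¹ * n = n * (t * a * t⁻¹) := by
        intro e he t' ht' a ha
        have h2 : e ∈ ((D ⊔ T : Subgroup H) : Set H) := htop ▸ mem_top e
        rw [coe_mul_of_right_le_normalizer_left D T hDn] at h2
        obtain ⟨d, hd, t, ht, rfl⟩ := h2
        have h3 : t ∈ N := by
          have := N.mul_mem (N.inv_mem hd.1) he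
          simpa using this
        have h4 : t = 1 := eq_one_of_odd hNo h.two h3 ht
        rw [h4]
        simp only [mul_one]
        exact mem_centralizer_iff.1 hd.2 _ ⟨t', ht', a, ha, rfl⟩
      -- their closure is normal in `H`
      let K1 : Subgroup H := closure {z : H | ∃ t ∈ T, ∃ a ∈ A, z = t * a * t⁻¹}
      have hK1T : K1 ≤ T := by
        rw [closure_le]
        rintro _ ⟨t, ht, a, ha, rfl⟩
        exact T.mul_mem (T.mul_mem ht (h.AT ha)) (T.inv_mem ht)
      have hK1 : K1 ≤ o2 (⊤ : Subgroup H) := by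
        refine le_o2 le_top (h.two.to_le hK1T) ?_
        rw [← hNT]
        refine sup_le ?_ ?_
        · intro n hn
          have h1 : n ∈ centralizer (K1 : Set H) := by
            rw [centralizer_closure, mem_centralizer_iff]
            rintro _ ⟨t, ht, a, ha, rfl⟩
            exact hcen n hn t ht a ha
          exact centralizer_le_normalizer _ h1
        · have hconj : ∀ s ∈ T, ∀ k ∈ K1, s * k * s⁻¹ ∈ K1 := by
            intro s hs k hk
            have h1 : K1 ≤ K1.comap (MulAut.conj s).toMonoidHom := by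
              rw [closure_le]
              rintro _ ⟨t, ht, a, ha, rfl⟩
              refine subset_closure ⟨s * t, T.mul_mem hs ht, a, ha, ?_⟩
              change s * (t * a * t⁻¹) * s⁻¹ = _
              group
            exact h1 hk
          intro s hs
          rw [mem_normalizer_iff]
          intro z
          refine ⟨hconj s hs z, fun hz => ?_⟩
          have h1 := hconj s⁻¹ (inv_mem hs) _ hz
          have h2 : s⁻¹ * (s * z * s⁻¹) * s⁻¹⁻¹ = z := by group
          rwa [h2] at h1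
      exact h.lb.nb fun a ha => hK1 (subset_closure ⟨1, one_mem T, a, ha, by group⟩)
    · intro R hTR hR
      have h1 : R ⊓ N ⊔ T = R := by
        apply le_antisymm (sup_le inf_le_left hTR)
        intro r hr
        have h1 : r ∈ N ⊔ T := hNT ▸ mem_top r
        rw [mem_sup_of_normal_left] at h1
        obtain ⟨n, hn, s, hs, rfl⟩ := h1
        refine mul_mem_sup ⟨?_, hn⟩ hs
        have := R.mul_mem hr (R.inv_mem (hTR hs))
        rwa [mul_inv_cancel_right] at this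
      rw [← h1]
      refine sup_le_sup_right ?_ T
      intro e he
      refine ⟨he.2, mem_centralizer_iff.2 ?_⟩
      rintro _ ⟨t, ht, a, ha, rfl⟩
      have h3 : t * a * t⁻¹ ∈ o2 R := (mem_normalizer_iff.1 (le_normalizer_o2 R (hTR ht)) a).1 (h.low R hTR hR ha)
      exact (comm_odd hN hNo he.2 he.1 h3).symm
  · -- `N T < H` : `N` is centralised by `A`
    have hAN : Km A ≤ centralizer (N : Set H) := by
      refine Km_le inferInstance fun a ha => mem_centralizer_iff.2 fun n hn => ?_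
      exact comm_odd hN hNo hn (mem_sup_left hn) (h.low _ le_sup_right hNT ha)
    -- no minimal parabolics in `N T`
    have hP : ∀ P : Subgroup H, IsMinPar T P → P ≤ N ⊔ T → False := by
      intro P hP hPN
      have h4 : P ⊓ N ⊔ T = P := by
        apply le_antisymm (sup_le inf_le_left hP.le)
        intro r hr
        have h1 : r ∈ N ⊔ T := hPN hr
        rw [mem_sup_of_normal_left] at h1
        obtain ⟨n, hn, s, hs, rfl⟩ := h1
        refine mul_mem_sup ⟨?_, hn⟩ hs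
        have := P.mul_mem hr (P.inv_mem (hP.le hs))
        rwa [mul_inv_cancel_right] at this
      have h5 : (P ⊓ N).Normal := by
        rw [← normalizer_eq_top_iff, eq_top_iff, ← hgen]
        refine sup_le ?_ ?_
        · intro k hk
          have h1 : k ∈ centralizer ((P ⊓ N : Subgroup H) : Set H) := by
            rw [mem_centralizer_iff]
            intro z hz
            exact mem_centralizer_iff.1 (hAN hk) z hz.2
          exact centralizer_le_normalizer _ h1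
        · intro t ht
          rw [mem_normalizer_iff]
          intro z
          constructor
          · rintro ⟨hz1, hz2⟩
            exact ⟨P.mul_mem (P.mul_mem (hP.le ht) hz1) (P.inv_mem (hP.le ht)), hN.conj_mem z hz2 t⟩
          · rintro ⟨hz1, hz2⟩
            have h7 : t⁻¹ * (t * z * t⁻¹) * t⁻¹⁻¹ = z := by group
            refine ⟨?_, ?_⟩
            · rw [← h7]
              exact P.mul_mem (P.mul_mem (P.inv_mem (hP.le ht)) hz1) (P.inv_mem (P.inv_mem (hP.le ht)))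
            · rw [← h7]
              exact hN.conj_mem _ hz2 t⁻¹
      obtain ⟨m, hm, hPm⟩ := h.fixP P hP
      have h6 : P ⊓ N = ⊥ := h.bot_of_fix h5 hm fun n hn => hPm n hn.1
      rw [h6, bot_sup_eq] at h4
      exact hP.ne h4
    have hNT' : N ⊔ T ≤ normalizer (T : Set H) :=
      le_of_forall le_sup_right inf_le_right fun P hP1 hP2 => (hP P hP1 hP2).elim
    -- `[N, T] = 1`
    have hTN : T ≤ centralizer (N : Set H) := by
      intro t ht
      rw [mem_centralizer_iff]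
      intro n hn
      have h1 : n * t * n⁻¹ * t⁻¹ = 1 := by
        refine eq_one_of_odd hNo h.two ?_ ?_
        · have h2 : n * t * n⁻¹ * t⁻¹ = n * (t * n⁻¹ * t⁻¹) := by group
          rw [h2]
          exact mul_mem hn (hN.conj_mem _ (inv_mem hn) t)
        · exact mul_mem ((mem_normalizer_iff.1 (hNT' (mem_sup_left hn)) t).1 ht) (inv_mem ht)
      calc n * t = (n * t * n⁻¹ * t⁻¹) * (t * n) := by group
        _ = t * n := by rw [h1, one_mul]
    intro n hn
    rw [mem_center_iff]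
    intro g
    have h1 : g ∈ centralizer (N : Set H) := by
      have h2 : Km A ⊔ T ≤ centralizer (N : Set H) := sup_le hAN hTN
      exact h2 (hgen ▸ mem_top g)
    exact (mem_centralizer_iff.1 h1 n hn).symm

end odd

section cop

variable {H : Type u} [Group H] [Finite H] {M : Type v} [Group M] [Finite M] [MulDistribMulAction H M]

omit [Finite M] in
/-- a vector fixed by `g` of odd order in `[Y, ⟨g⟩]` is trivial -/
theorem eq_one_of_mem (sq : ∀ m : M, m * m = 1) {g : H} (hg : Odd (orderOf g)) {Y : Subgroup M} {w : M}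
    (hw : w ∈ closure {w : M | ∃ k ∈ zpowers g, ∃ y ∈ Y, w = (k • y) * y⁻¹}) (hf : g • w = w) : w = 1 := by
  classical
  let _ : CommGroup M := { (inferInstance : Group M) with mul_comm := comm_of_sq sq }
  have : Fintype (zpowers g) := Fintype.ofFinite _
  -- the norm
  let ν : M →* M :=
    { toFun := fun m => ∏ k : zpowers g, (k : H) • m
      map_one' := by simp
      map_mul' := fun a b => by
        simp only [smul_mul']
        exact Finset.prod_mul_distrib }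
  have hν : ∀ (k : H), k ∈ zpowers g → ∀ m : M, ν (k • m) = ν m := by
    intro k hk m
    change ∏ l : zpowers g, (l : H) • (k • m) = ∏ l : zpowers g, (l : H) • m
    refine Fintype.prod_equiv (Equiv.mulRight (⟨k, hk⟩ : zpowers g)) _ _ fun l => ?_
    simp [mul_smul]
  have h1 : ν w = 1 := by
    have h2 : closure {w : M | ∃ k ∈ zpowers g, ∃ y ∈ Y, w = (k • y) * y⁻¹} ≤ ν.ker := by
      rw [closure_le]
      rintro _ ⟨k, hk, y, -, rfl⟩
      change ν (k • y * y⁻¹) = 1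
      rw [map_mul, map_inv, hν k hk, mul_inv_cancel]
    exact h2 hw
  have h3 : ∀ k ∈ zpowers g, k • w = w := by
    intro k hk
    have h4 : zpowers g ≤ MulAction.stabilizer H w := by
      rw [zpowers_le]
      exact hf
    exact h4 hk
  have h5 : ν w = w ^ Nat.card (zpowers g) := by
    have h6 : ∀ l : zpowers g, (l : H) • w = w := fun l => h3 l l.2
    change ∏ l : zpowers g, (l : H) • w = _
    simp only [h6]
    rw [Finset.prod_const, Finset.card_univ, Nat.card_eq_fintype_card]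
  rw [h1, Nat.card_zpowers] at h5
  obtain ⟨k, hk⟩ := hg
  rw [hk, pow_succ, pow_mul, pow_two, sq, one_pow, one_mul] at h5
  exact h5.symm

/-- **LEMMA ZC (c)** -/
theorem com_of (sq : ∀ m : M, m * m = 1) {T : Subgroup H} (hT : IsPGroup 2 T) {g : H} (hg : Odd (orderOf g))
    {Y U : Subgroup M} (gY : ∀ k ∈ zpowers g, ∀ y ∈ Y, k • y ∈ Y) (TY : ∀ t ∈ T, ∀ y ∈ Y, t • y ∈ Y)
    (gU : ∀ k ∈ zpowers g, ∀ y ∈ Y, (k • y) * y⁻¹ ∈ U)
    (com : ∀ t ∈ T, ∀ k ∈ zpowers g, ∀ u ∈ U, (t * k) • u = (k * t) • u)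
    (cY : ∀ y ∈ Y, (∀ t ∈ T, t • y = y) → g • y = y) : ∀ y ∈ Y, g • y = y := by
  classical
  set W : Subgroup M := closure {w : M | ∃ k ∈ zpowers g, ∃ y ∈ Y, w = (k • y) * y⁻¹} with hW
  have hWY : W ≤ Y := by
    rw [hW, closure_le]
    rintro _ ⟨k, hk, y, hy, rfl⟩
    exact mul_mem (gY k hk y hy) (inv_mem hy)
  have hWU : W ≤ U := by
    rw [hW, closure_le]
    rintro _ ⟨k, hk, y, hy, rfl⟩
    exact gU k hk y hy
  have hcomm := comm_of_sq sq
  -- every generator comes from `W`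
  have hgenW : ∀ k ∈ zpowers g, ∀ y ∈ Y, ∃ v ∈ W, (k • y) * y⁻¹ = (k • v) * v⁻¹ := by
    intro k hk y hy
    obtain ⟨m0, h0, h1⟩ := exists_fix_coset (H := H) (M := M) (T := ⊥) (R := zpowers g) sq (by
        rw [relIndex_bot_left, Nat.card_zpowers]
        exact fun h2 => (Nat.not_even_iff_odd.2 hg) (even_iff_two_dvd.2 h2)) (m := y) (fun t ht => by
        rw [mem_bot.1 ht, one_smul]) (I := W) (fun k hk => subset_closure ⟨k, hk, y, hy, rfl⟩)
    refine ⟨y * m0⁻¹, ?_, ?_⟩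
    · have h2 := inv_mem h1
      rwa [mul_inv_rev, inv_inv] at h2
    · rw [smul_mul', smul_inv', h0 k hk, mul_inv_rev, inv_inv]
      group
  have hTW : ∀ t ∈ T, ∀ w ∈ W, t • w ∈ W := by
    intro t ht w hw
    have h1 : W ≤ W.comap (MulDistribMulAction.toMonoidHom M t) := by
      conv_lhs => rw [hW]
      rw [closure_le]
      rintro _ ⟨k, hk, y, hy, rfl⟩
      change t • ((k • y) * y⁻¹) ∈ W
      obtain ⟨v, hv, hkv⟩ := hgenW k hk y hy
      rw [hkv, smul_mul', smul_inv', ← mul_smul, com t ht k hk v (hWU hv), mul_smul]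
      exact subset_closure ⟨k, hk, t • v, TY t ht v (hWY hv), rfl⟩
    exact h1 hw
  by_cases hW1 : W = ⊥
  · intro y hy
    have h1 : (g • y) * y⁻¹ ∈ W := subset_closure ⟨g, mem_zpowers g, y, hy, rfl⟩
    rw [hW1, mem_bot] at h1
    exact mul_inv_eq_one.1 h1
  · exfalso
    obtain ⟨w, hw, hw1, tw⟩ := exists_fix sq hT hTW hW1
    exact hw1 (eq_one_of_mem sq hg hw (cY w (hWY hw) tw))

end cop

end Cfsg.Agent.Omega.KL.StarQ

end
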